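import Groth.Agent.AlgSp.K602.FacLim
import Groth.Agent.AlgSp.K597.LocP
import Groth.Agent.AlgSp.K597.EtLoc
import Groth.Agent.UnramA.LfpOfComp

/-!
# Algebraic spaces of finite type over the terminal scheme
-/

set_option autoImplicit false
set_option backward.isDefEq.respectTransparency false
universe u
open CategoryTheory CategoryTheory.Limits AlgebraicGeometry Opposite
open AlgSp

namespace K602.FTy

variable {S : Scheme.{u}}

theorem isAffine_of_isTerminal (hS : IsTerminal S) : IsAffine S := by
  let e : S ≅ Spec (CommRingCat.of (ULift.{u} ℤ)) := hS.uniqueUpToIso specULiftZIsTerminal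
  exact .of_isIso e.hom

theorem isLocallyNoetherian_of_isTerminal (hS : IsTerminal S) : IsLocallyNoetherian S := by
  let e : S ≅ Spec (CommRingCat.of (ULift.{u} ℤ)) := hS.uniqueUpToIso specULiftZIsTerminal
  have h1 : IsNoetherianRing (ULift.{u} ℤ) := isNoetherianRing_of_ringEquiv ℤ ULift.ringEquiv.symm
  have h2 : IsLocallyNoetherian (Spec (CommRingCat.of (ULift.{u} ℤ))) := inferInstance
  exact isLocallyNoetherian_of_isOpenImmersion e.hom

theorem quasiSeparated_of_isTerminal (hS : IsTerminal S) : QuasiSeparatedSpace S := by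
  have := isAffine_of_isTerminal hS
  infer_instance

/-- Quasi-compact and quasi-separated algebraic spaces of finite type over the base scheme. -/
structure FT (T : Sp S) : Prop where
  alg : IsAlgSpace T
  qc : IsQuasiCompactSp T
  qs : IsQuasiSeparatedSp T
  lft : ∀ f : T ⟶ (yon S).obj (Over.mk (𝟙 S)), LocP @LocallyOfFiniteType f

theorem hasAtlas_base : K597.HasAtlas ((yon S).obj (Over.mk (𝟙 S))) := (IsAlgSpace.yon_obj _).hasAtlas

/-- the structure map -/
noncomputable def str (T : Sp S) : T ⟶ (yon S).obj (Over.mk (𝟙 S)) := FacLim.isTerminalYon.from T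

theorem str_uniq {T : Sp S} (f g : T ⟶ (yon S).obj (Over.mk (𝟙 S))) : f = g := FacLim.isTerminalYon.hom_ext f g

/-- the structure map of a scheme over `S` -/
theorem str_yon (W : Over S) : str ((yon S).obj W) = (yon S).map (Over.mkIdTerminal.from W) := str_uniq _ _

theorem lft_yon_iff (W : Over S) (f : (yon S).obj W ⟶ (yon S).obj (Over.mk (𝟙 S))) :
    LocP @LocallyOfFiniteType f ↔ LocallyOfFiniteType W.hom := by
  rw [str_uniq f ((yon S).map (Over.mkIdTerminal.from W)),
    K597.locP_iff_repWith K597.etLoc_lft (IsAlgSpace.yon_obj _).hasAtlas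
      ((IsAlgSpace.yon_obj _).representable_from_yon _), repWith_yon_map_iff]
  have : (Over.mkIdTerminal.from W).left = W.hom := by
    have h := Over.w (Over.mkIdTerminal.from W)
    simpa using h
  rw [this]

section noeth
variable [IsLocallyNoetherian S]

theorem lfp_of_lft_base {A : Scheme.{u}} (f : A ⟶ S) (h : LocallyOfFiniteType f) : LocallyOfFinitePresentation f :=
  inferInstance

/-- over a locally Noetherian base finite type spaces are of finite presentation -/
theorem lfp_str {T : Sp S} (hT : IsAlgSpace T) {f : T ⟶ (yon S).obj (Over.mk (𝟙 S))}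
    (h : LocP @LocallyOfFiniteType f) : LocP @LocallyOfFinitePresentation f := by
  obtain ⟨U, p, hp, hps⟩ := hT.atlas
  have e : p ≫ f = (yon S).map (Over.mkIdTerminal.from U) ≫ 𝟙 _ := str_uniq _ _
  have hid : RepWith @Etale (𝟙 ((yon S).obj (Over.mk (𝟙 S)))) := by
    rw [← (yon S).map_id, repWith_yon_map_iff]
    exact inferInstanceAs (Etale (𝟙 S))
  refine K597.locP_of_chart K597.etLoc_lfp f p (𝟙 _) _ hp hps hid e ?_
  exact lfp_of_lft_base (S := S) _ (h _ _ _ hp hid e)

/-- a map between a space of finite presentation over `S` and one of finite type -/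
theorem lfp_of_str {A B : Sp S} (hA : IsAlgSpace A) (hB : IsAlgSpace B) (f : A ⟶ B)
    (h : LocP @LocallyOfFiniteType (str A)) (h' : LocP @LocallyOfFiniteType (str B)) :
    LocP @LocallyOfFinitePresentation f := by
  refine K597.locP_of_comp K597.etLoc_lfp (Q := @LocallyOfFiniteType) (g := str B)
    (fun A B C u v h h' => Groth.Agent.UnramA.LfpOfComp.lfp_of_comp u v h h') hA.hasAtlas hB.hasAtlas hasAtlas_base ?_ h'
  rw [str_uniq (f ≫ str B) (str A)]
  exact lfp_str hA h

end noeth

theorem lft_str_of_comp {A B : Sp S} (hA : IsAlgSpace A) (hB : IsAlgSpace B) (f : A ⟶ B)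
    (hf : LocP @LocallyOfFiniteType f) (h : LocP @LocallyOfFiniteType (str B)) : LocP @LocallyOfFiniteType (str A) := by
  rw [← str_uniq (f ≫ str B) (str A)]
  exact K597.locP_comp K597.etLoc_lft hA.hasAtlas hB.hasAtlas hasAtlas_base hf h

theorem lft_of_etale {A B : Sp S} {f : A ⟶ B} (h : LocP @Etale f) : LocP @LocallyOfFiniteType f :=
  K597.locP_mono (fun _ _ g (hg : Etale g) => (inferInstance : LocallyOfFiniteType g)) h

theorem lfp_of_etale {A B : Sp S} {f : A ⟶ B} (h : LocP @Etale f) : LocP @LocallyOfFinitePresentation f :=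
  K597.locP_mono (fun _ _ g (hg : Etale g) => (inferInstance : LocallyOfFinitePresentation g)) h

theorem lft_of_lfp {A B : Sp S} {f : A ⟶ B} (h : LocP @LocallyOfFinitePresentation f) :
    LocP @LocallyOfFiniteType f :=
  K597.locP_mono (fun _ _ g (hg : LocallyOfFinitePresentation g) => (inferInstance : LocallyOfFiniteType g)) h

/-- cancellation: `lfp` composite through an `lft` map -/
theorem lfp_cancel {A B C : Sp S} (hA : IsAlgSpace A) (hB : IsAlgSpace B) (hC : IsAlgSpace C) {f : A ⟶ B} {g : B ⟶ C}
    (hfg : LocP @LocallyOfFinitePresentation (f ≫ g)) (hg : LocP @LocallyOfFiniteType g) :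
    LocP @LocallyOfFinitePresentation f :=
  K597.locP_of_comp K597.etLoc_lfp (Q := @LocallyOfFiniteType)
    (fun A B C u v h h' => Groth.Agent.UnramA.LfpOfComp.lfp_of_comp u v h h') hA.hasAtlas hB.hasAtlas hC.hasAtlas hfg hg

end K602.FTy
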