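import Mathlib.Algebra.Category.Ring.Constructions
import Mathlib.RingTheory.Flat.FaithfullyFlat.Algebra
import Mathlib.RingTheory.Flat.FaithfullyFlat.Basic
import Mathlib.RingTheory.IsTensorProduct
import Mathlib.RingTheory.Noetherian.Basic
import Mathlib.RingTheory.RingHom.Flat
import Mathlib.RingTheory.RingHom.FaithfullyFlat

/-!
# Spans along ring homomorphisms and flat base change of submodules

`Sp β Z`: the `O`-span of a subset `Z` of `B` for a ring homomorphism `β : O →+* B`.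
-/

set_option autoImplicit false
universe u

open CategoryTheory CategoryTheory.Limits TensorProduct

namespace K602.SpanAlg

section basic

variable {O B O₁ B₁ : Type*} [CommRing O] [CommRing B] [CommRing O₁] [CommRing B₁]

/-- The `O`-span of `Z` in `B`. -/
def Sp (β : O →+* B) (Z : Set B) : AddSubgroup B :=
  AddSubgroup.closure {x | ∃ (o : O) (z : B), z ∈ Z ∧ β o * z = x}

variable (β : O →+* B) {Z Z' : Set B}

theorem smul_mem_Sp (o : O) {z : B} (hz : z ∈ Z) : β o * z ∈ Sp β Z :=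
  AddSubgroup.subset_closure ⟨o, z, hz, rfl⟩

theorem mem_Sp {z : B} (hz : z ∈ Z) : z ∈ Sp β Z := by
  have := smul_mem_Sp β (1 : O) hz
  rwa [map_one, one_mul] at this

theorem Sp_le {N : AddSubgroup B} (h : ∀ (o : O), ∀ z ∈ Z, β o * z ∈ N) : Sp β Z ≤ N := by
  refine (AddSubgroup.closure_le N).2 ?_
  rintro _ ⟨o, z, hz, rfl⟩
  exact h o z hz

theorem mul_mem_Sp (o : O) {x : B} (hx : x ∈ Sp β Z) : β o * x ∈ Sp β Z := by
  have : Sp β Z ≤ (Sp β Z).comap (AddMonoidHom.mulLeft (β o)) := Sp_le β fun o' z hz => by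
    change β o * (β o' * z) ∈ Sp β Z
    rw [← mul_assoc, ← map_mul]
    exact smul_mem_Sp β _ hz
  exact this hx

theorem Sp_le_iff (hZ : Z ⊆ Sp β Z') : Sp β Z ≤ Sp β Z' :=
  Sp_le β fun o _ hz => mul_mem_Sp β o (hZ hz)

theorem Sp_mono (h : Z ⊆ Z') : Sp β Z ≤ Sp β Z' :=
  Sp_le_iff β fun _ hz => mem_Sp β (h hz)

theorem Sp_eq_span (M : Set B) : let := β.toAlgebra; (Sp β M : Set B) = (Submodule.span O M : Set B) := by
  let := β.toAlgebra
  apply Set.Subset.antisymm
  · have : Sp β M ≤ (Submodule.span O M).toAddSubgroup := Sp_le β fun o z hz => by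
      change β o * z ∈ Submodule.span O M
      exact Submodule.smul_mem _ o (Submodule.subset_span hz)
    exact this
  · intro x hx
    induction hx using Submodule.span_induction with
    | mem x h => exact mem_Sp β h
    | zero => exact (Sp β M).zero_mem
    | add x y _ _ hx hy => exact (Sp β M).add_mem hx hy
    | smul a x _ hx => exact mul_mem_Sp β a hx

/-- Functoriality of the span. -/
theorem map_mem_Sp {β : O →+* B} {β₁ : O₁ →+* B₁} (φ : O →+* O₁) (ρ : B →+* B₁)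
    (h : ∀ o, ρ (β o) = β₁ (φ o)) {Z : Set B} {Z₁ : Set B₁} (hZ : ∀ z ∈ Z, ρ z ∈ Sp β₁ Z₁) {x : B}
    (hx : x ∈ Sp β Z) : ρ x ∈ Sp β₁ Z₁ := by
  have : Sp β Z ≤ (Sp β₁ Z₁).comap ρ.toAddMonoidHom := Sp_le β fun o z hz => by
    change ρ (β o * z) ∈ Sp β₁ Z₁
    rw [map_mul, h]
    exact mul_mem_Sp β₁ _ (hZ z hz)
  exact this hx

/-- An element of a span lies in the span of a finite subset. -/
theorem exists_finite {x : B} (hx : x ∈ Sp β Z) : ∃ F : Set B, F.Finite ∧ F ⊆ Z ∧ x ∈ Sp β F := by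
  refine AddSubgroup.closure_induction (p := fun x _ => ∃ F : Set B, F.Finite ∧ F ⊆ Z ∧ x ∈ Sp β F)
    ?_ ?_ ?_ ?_ hx
  · rintro _ ⟨o, z, hz, rfl⟩
    exact ⟨{z}, Set.finite_singleton z, Set.singleton_subset_iff.2 hz, smul_mem_Sp β o rfl⟩
  · exact ⟨∅, Set.finite_empty, Set.empty_subset _, AddSubgroup.zero_mem _⟩
  · rintro x y - - ⟨F, hF, hFZ, hx⟩ ⟨F', hF', hFZ', hy⟩
    exact ⟨F ∪ F', hF.union hF', Set.union_subset hFZ hFZ',
      AddSubgroup.add_mem _ (Sp_mono β Set.subset_union_left hx) (Sp_mono β Set.subset_union_right hy)⟩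
  · rintro x - ⟨F, hF, hFZ, hx⟩
    exact ⟨F, hF, hFZ, AddSubgroup.neg_mem _ hx⟩

/-- Products of elements of spans. -/
theorem mul_mem_Sp_of_mul {Z : Set B} (hZ : ∀ x ∈ Z, ∀ y ∈ Z, x * y ∈ Sp β Z) {x y : B} (hx : x ∈ Sp β Z)
    (hy : y ∈ Sp β Z) : x * y ∈ Sp β Z := by
  have h1 : ∀ z ∈ Z, ∀ y ∈ Sp β Z, z * y ∈ Sp β Z := fun z hz y hy => by
    have : Sp β Z ≤ (Sp β Z).comap (AddMonoidHom.mulLeft z) := Sp_le β fun o w hw => by
      change z * (β o * w) ∈ Sp β Z
      rw [mul_left_comm]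
      exact mul_mem_Sp β o (hZ z hz w hw)
    exact this hy
  have : Sp β Z ≤ (Sp β Z).comap (AddMonoidHom.mulRight y) := Sp_le β fun o w hw => by
    change β o * w * y ∈ Sp β Z
    rw [mul_assoc]
    exact mul_mem_Sp β o (h1 w hw y hy)
  exact this hx

end basic

section modules

variable {O O₁ : Type*} [CommRing O] [CommRing O₁] [Algebra O O₁] {M N M₁ N₁ : Type*} [AddCommGroup M]
  [AddCommGroup N] [AddCommGroup M₁] [AddCommGroup N₁] [Module O M] [Module O N] [Module O M₁] [Module O N₁]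
  [Module O₁ M₁] [Module O₁ N₁] [IsScalarTower O O₁ M₁] [IsScalarTower O O₁ N₁]

/-- Flat base change of the preimage of a submodule. -/
theorem mem_span_comap [Module.Flat O O₁] (ρ : M →ₗ[O] M₁) (hρ : IsBaseChange O₁ ρ) (γ : N →ₗ[O] N₁)
    (hγ : IsBaseChange O₁ γ) (σ : M →ₗ[O] N) (σ₁ : M₁ →ₗ[O₁] N₁) (h : ∀ m, σ₁ (ρ m) = γ (σ m))
    (P : Submodule O N) {x : M₁} (hx : σ₁ x ∈ Submodule.span O₁ (γ '' (P : Set N))) :
    x ∈ Submodule.span O₁ (ρ '' (P.comap σ : Set M)) := by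
  let q : N →ₗ[O] N ⧸ P := P.mkQ
  let τ : M →ₗ[O] N ⧸ P := q ∘ₗ σ
  let K : Submodule O M := P.comap σ
  have hex : Function.Exact K.subtype τ := by
    rw [LinearMap.exact_iff, Submodule.range_subtype]
    ext m
    rw [LinearMap.mem_ker, LinearMap.comp_apply, Submodule.mkQ_apply, Submodule.Quotient.mk_eq_zero]
    exact Iff.rfl
  obtain ⟨x', rfl⟩ := hρ.equiv.surjective x
  have h1 : ∀ y : O₁ ⊗[O] M, σ₁ (hρ.equiv y) = hγ.equiv (σ.baseChange O₁ y) := by
    intro y
    induction y with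
    | zero => simp only [map_zero]
    | add a b ha hb => simp only [map_add, ha, hb]
    | tmul a m =>
      rw [IsBaseChange.equiv_tmul, map_smul, h, LinearMap.baseChange_tmul, IsBaseChange.equiv_tmul]
  have h2 : ∀ z ∈ Submodule.span O₁ (γ '' (P : Set N)), q.baseChange O₁ (hγ.equiv.symm z) = 0 := by
    intro z hz
    induction hz using Submodule.span_induction with
    | mem z hz =>
      obtain ⟨n, hn, rfl⟩ := hz
      rw [IsBaseChange.equiv_symm_apply, LinearMap.baseChange_tmul, Submodule.mkQ_apply,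
        (Submodule.Quotient.mk_eq_zero P).2 hn, TensorProduct.tmul_zero]
    | zero => simp only [map_zero]
    | add x y _ _ hx hy => simp only [map_add, hx, hy, add_zero]
    | smul a x _ hx => simp only [map_smul, hx, smul_zero]
  have h3 : τ.baseChange O₁ x' = 0 := by
    have := h2 _ hx
    rw [h1, LinearEquiv.symm_apply_apply] at this
    rw [LinearMap.baseChange_comp]
    exact this
  have hex' := Module.Flat.lTensor_exact (R := O) O₁ hex
  obtain ⟨y, rfl⟩ := (hex' x').1 h3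
  clear h3 hx
  induction y with
  | zero => simp only [map_zero]; exact Submodule.zero_mem _
  | add a b ha hb => simp only [map_add]; exact Submodule.add_mem _ ha hb
  | tmul a k =>
    rw [LinearMap.lTensor_tmul, IsBaseChange.equiv_tmul]
    exact Submodule.smul_mem _ _ (Submodule.subset_span ⟨k, k.2, rfl⟩)

/-- Faithfully flat descent of membership in a submodule. -/
theorem mem_of_mem_span [Module.FaithfullyFlat O O₁] (ρ : M →ₗ[O] M₁) (hρ : IsBaseChange O₁ ρ)
    (P : Submodule O M) {x : M} (hx : ρ x ∈ Submodule.span O₁ (ρ '' (P : Set M))) : x ∈ P := by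
  let q : M →ₗ[O] M ⧸ P := P.mkQ
  have h2 : ∀ z ∈ Submodule.span O₁ (ρ '' (P : Set M)), q.baseChange O₁ (hρ.equiv.symm z) = 0 := by
    intro z hz
    induction hz using Submodule.span_induction with
    | mem z hz =>
      obtain ⟨n, hn, rfl⟩ := hz
      rw [IsBaseChange.equiv_symm_apply, LinearMap.baseChange_tmul, Submodule.mkQ_apply,
        (Submodule.Quotient.mk_eq_zero P).2 hn, TensorProduct.tmul_zero]
    | zero => simp only [map_zero]
    | add x y _ _ hx hy => simp only [map_add, hx, hy, add_zero]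
    | smul a x _ hx => simp only [map_smul, hx, smul_zero]
  have h3 := h2 _ hx
  rw [IsBaseChange.equiv_symm_apply, LinearMap.baseChange_tmul] at h3
  have h4 : q x = 0 := by
    apply Module.FaithfullyFlat.tensorProduct_mk_injective (A := O) (B := O₁) (M ⧸ P)
    rw [map_zero]
    exact h3
  exact (Submodule.Quotient.mk_eq_zero P).1 h4

end modules

section pushout

variable {O O₁ B B₁ : CommRingCat.{u}} {φ : O ⟶ O₁} {β : O ⟶ B} {β₁ : O₁ ⟶ B₁} {ρ : B ⟶ B₁}

/-- Generation of a pushout. -/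
theorem mem_Sp_range (h : IsPushout φ β β₁ ρ) (x : B₁) : x ∈ Sp β₁.hom (Set.range ρ) := by
  algebraize [φ.hom, β.hom, β₁.hom, ρ.hom, (φ ≫ β₁).hom]
  have e : φ ≫ β₁ = β ≫ ρ := h.w
  have : IsScalarTower O O₁ B₁ := IsScalarTower.of_algebraMap_eq' rfl
  have : IsScalarTower O B B₁ := IsScalarTower.of_algebraMap_eq' (by
    change (φ ≫ β₁).hom = (β ≫ ρ).hom
    rw [e])
  have h1 : Algebra.IsPushout O O₁ B B₁ := CommRingCat.isPushout_iff_isPushout.1 h
  have h2 := h1.out
  obtain ⟨y, rfl⟩ := h2.equiv.surjective x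
  induction y with
  | zero => simp only [map_zero]; exact AddSubgroup.zero_mem _
  | add a b ha hb => simp only [map_add]; exact AddSubgroup.add_mem _ ha hb
  | tmul a k =>
    rw [IsBaseChange.equiv_tmul, Algebra.smul_def]
    exact smul_mem_Sp _ _ ⟨k, rfl⟩

variable {Y Y₁ : CommRingCat.{u}} {η : O ⟶ Y} {η₁ : O₁ ⟶ Y₁} {γ : Y ⟶ Y₁}

/-- Flat base change of the preimage of a stable subgroup. -/
theorem mem_Sp_comap (hφ : φ.hom.Flat) (h : IsPushout φ β β₁ ρ) (h' : IsPushout φ η η₁ γ) (σ : B ⟶ Y)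
    (σ₁ : B₁ ⟶ Y₁) (hσ : β ≫ σ = η) (hσ₁ : β₁ ≫ σ₁ = η₁) (w : ρ ≫ σ₁ = σ ≫ γ) (M : AddSubgroup Y)
    (hM : ∀ (o : O), ∀ m ∈ M, η o * m ∈ M) {x : B₁} (hx : σ₁ x ∈ Sp η₁.hom (γ '' (M : Set Y))) :
    x ∈ Sp β₁.hom (ρ '' {b | σ b ∈ M}) := by
  algebraize [φ.hom, β.hom, β₁.hom, ρ.hom, (φ ≫ β₁).hom, η.hom, η₁.hom, γ.hom, (φ ≫ η₁).hom]
  have e : φ ≫ β₁ = β ≫ ρ := h.w
  have e' : φ ≫ η₁ = η ≫ γ := h'.w
  have : IsScalarTower O O₁ B₁ := IsScalarTower.of_algebraMap_eq' rfl
  have : IsScalarTower O B B₁ := IsScalarTower.of_algebraMap_eq' (by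
    change (φ ≫ β₁).hom = (β ≫ ρ).hom
    rw [e])
  have : IsScalarTower O O₁ Y₁ := IsScalarTower.of_algebraMap_eq' rfl
  have : IsScalarTower O Y Y₁ := IsScalarTower.of_algebraMap_eq' (by
    change (φ ≫ η₁).hom = (η ≫ γ).hom
    rw [e'])
  have h1 : Algebra.IsPushout O O₁ B B₁ := CommRingCat.isPushout_iff_isPushout.1 h
  have h2 : Algebra.IsPushout O O₁ Y Y₁ := CommRingCat.isPushout_iff_isPushout.1 h'
  let σl : B →ₗ[O] Y := { σ.hom.toAddMonoidHom with
    map_smul' := fun o b => by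
      change σ.hom (o • b) = o • σ.hom b
      rw [Algebra.smul_def, Algebra.smul_def, map_mul]
      congr 1
      exact DFunLike.congr_fun (congrArg CommRingCat.Hom.hom hσ) o }
  let σl₁ : B₁ →ₗ[O₁] Y₁ := { σ₁.hom.toAddMonoidHom with
    map_smul' := fun o b => by
      change σ₁.hom (o • b) = o • σ₁.hom b
      rw [Algebra.smul_def, Algebra.smul_def, map_mul]
      congr 1
      exact DFunLike.congr_fun (congrArg CommRingCat.Hom.hom hσ₁) o }
  let P : Submodule O Y := { M with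
    smul_mem' := fun o m hm => by
      change o • m ∈ M
      rw [Algebra.smul_def]
      exact hM o m hm }
  have key := mem_span_comap (O := O) (O₁ := O₁) (IsScalarTower.toAlgHom O B B₁).toLinearMap h1.out
    (IsScalarTower.toAlgHom O Y Y₁).toLinearMap h2.out σl σl₁
    (fun m => DFunLike.congr_fun (congrArg CommRingCat.Hom.hom w) m) P (x := x) (by
      have := Sp_eq_span η₁.hom (γ '' (M : Set Y))
      have hx' : σ₁ x ∈ (Sp η₁.hom (γ '' (M : Set Y)) : Set Y₁) := hx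
      rw [this] at hx'
      exact hx')
  have := Sp_eq_span β₁.hom (ρ '' {b | σ b ∈ M})
  have h3 : x ∈ (Sp β₁.hom (ρ '' {b | σ b ∈ M}) : Set B₁) := by
    rw [this]
    exact key
  exact h3

/-- Faithfully flat descent of membership in a stable subgroup. -/
theorem mem_of_mem_Sp (hφ : φ.hom.FaithfullyFlat) (h : IsPushout φ β β₁ ρ) (M : AddSubgroup B)
    (hM : ∀ (o : O), ∀ m ∈ M, β o * m ∈ M) {x : B} (hx : ρ x ∈ Sp β₁.hom (ρ '' (M : Set B))) : x ∈ M := by
  algebraize [φ.hom, β.hom, β₁.hom, ρ.hom, (φ ≫ β₁).hom]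
  have e : φ ≫ β₁ = β ≫ ρ := h.w
  have : IsScalarTower O O₁ B₁ := IsScalarTower.of_algebraMap_eq' rfl
  have : IsScalarTower O B B₁ := IsScalarTower.of_algebraMap_eq' (by
    change (φ ≫ β₁).hom = (β ≫ ρ).hom
    rw [e])
  have h1 : Algebra.IsPushout O O₁ B B₁ := CommRingCat.isPushout_iff_isPushout.1 h
  let P : Submodule O B := { M with
    smul_mem' := fun o m hm => by
      change o • m ∈ M
      rw [Algebra.smul_def]
      exact hM o m hm }
  refine mem_of_mem_span (O := O) (O₁ := O₁) (IsScalarTower.toAlgHom O B B₁).toLinearMap h1.out P ?_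
  have := Sp_eq_span β₁.hom (ρ '' (M : Set B))
  have hx' : ρ x ∈ (Sp β₁.hom (ρ '' (M : Set B)) : Set B₁) := hx
  rw [this] at hx'
  exact hx'

end pushout

end K602.SpanAlg
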