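import Groth.Agent.AlgSp.K615.Cov
import Groth.Agent.AlgSp.K602.SpanAlg

/-!
# Charts of a sheaf and functions on the base change of an affine morphism to charts
-/

set_option autoImplicit false
universe u

open CategoryTheory CategoryTheory.Limits AlgebraicGeometry Opposite AlgSp

namespace K602

variable {S : Scheme.{u}}

/-- A chart of `T`: a scheme over `S` with a map to `T`. -/
structure Ch (T : Sp S) where
  V : Over S
  v : (yon S).obj V ⟶ T

namespace Ch

variable {T X : Sp S}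

/-- Morphisms of charts. -/
@[ext]
structure Hom (a b : Ch T) where
  g : a.V ⟶ b.V
  w : (yon S).map g ≫ b.v = a.v

instance : Category (Ch T) where
  Hom := Hom
  id a := ⟨𝟙 _, by rw [(yon S).map_id, Category.id_comp]⟩
  comp f g := ⟨f.g ≫ g.g, by rw [(yon S).map_comp, Category.assoc, g.w, f.w]⟩
  id_comp f := Hom.ext (Category.id_comp _)
  comp_id f := Hom.ext (Category.comp_id _)
  assoc f g h := Hom.ext (Category.assoc _ _ _)

theorem id_g (a : Ch T) : Hom.g (𝟙 a) = 𝟙 a.V := rfl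
theorem comp_g {a b c : Ch T} (f : a ⟶ b) (g : b ⟶ c) : (f ≫ g).g = f.g ≫ g.g := rfl

@[ext]
theorem hom_ext {a b : Ch T} {f g : a ⟶ b} (h : f.g = g.g) : f = g := Hom.ext h

/-- The chart `V ⟶ a.V ⟶ T`. -/
abbrev pre (a : Ch T) {V : Over S} (g : V ⟶ a.V) : Ch T := ⟨V, (yon S).map g ≫ a.v⟩

/-- The canonical map of charts. -/
def preHom (a : Ch T) {V : Over S} (g : V ⟶ a.V) : a.pre g ⟶ a := ⟨g, rfl⟩

section W

variable {f : X ⟶ T} (hf : RepWith @IsAffineHom f)

/-- The base change of `X` to a chart. -/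
noncomputable def W (a : Ch T) : Over S := hf.1.pullback a.v

noncomputable def π (a : Ch T) : W hf a ⟶ a.V := hf.1.snd a.v

noncomputable def ι (a : Ch T) : (yon S).obj (W hf a) ⟶ X := hf.1.fst a.v

theorem sq (a : Ch T) : IsPullback (ι hf a) ((yon S).map (π hf a)) f a.v := hf.1.isPullback a.v

noncomputable def Wmap {a b : Ch T} (g : a ⟶ b) : W hf a ⟶ W hf b :=
  hf.1.lift (ι hf a) (π hf a ≫ g.g) (by
    rw [(sq hf a).w, (yon S).map_comp, Category.assoc, g.w])

theorem Wmap_ι {a b : Ch T} (g : a ⟶ b) : (yon S).map (Wmap hf g) ≫ ι hf b = ι hf a :=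
  hf.1.lift_fst _ _ _

theorem Wmap_π {a b : Ch T} (g : a ⟶ b) : Wmap hf g ≫ π hf b = π hf a ≫ g.g :=
  hf.1.lift_snd _ _ _

theorem W_ext {a : Ch T} {V : Over S} {x y : V ⟶ W hf a}
    (h1 : (yon S).map x ≫ ι hf a = (yon S).map y ≫ ι hf a) (h2 : x ≫ π hf a = y ≫ π hf a) : x = y :=
  hf.1.hom_ext h1 h2

theorem Wmap_id (a : Ch T) : Wmap hf (𝟙 a) = 𝟙 _ := by
  apply W_ext
  · rw [Wmap_ι, (yon S).map_id, Category.id_comp]
  · rw [Wmap_π, id_g, Category.comp_id, Category.id_comp]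

theorem Wmap_comp {a b c : Ch T} (g : a ⟶ b) (h : b ⟶ c) : Wmap hf (g ≫ h) = Wmap hf g ≫ Wmap hf h := by
  apply W_ext
  · rw [Wmap_ι, (yon S).map_comp, Category.assoc, Wmap_ι, Wmap_ι]
  · rw [Wmap_π, Category.assoc, Wmap_π, ← Category.assoc, Wmap_π, comp_g, Category.assoc]

theorem sq_map {a b : Ch T} (g : a ⟶ b) : IsPullback (Wmap hf g) (π hf a) (π hf b) g.g := by
  refine IsPullback.of_map (yon S) (Wmap_π hf g) ?_
  refine IsPullback.of_right (h₁₂ := ι hf b) (h₂₂ := b.v) (v₁₃ := f) ?_ ?_ (sq hf b)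
  · rw [Wmap_ι, g.w]
    exact sq hf a
  · rw [← (yon S).map_comp, ← (yon S).map_comp, Wmap_π]

theorem sq_map_left {a b : Ch T} (g : a ⟶ b) :
    IsPullback (Wmap hf g).left (π hf a).left (π hf b).left g.g.left :=
  (sq_map hf g).map (Over.forget S)

end W

section rings

/-- Functions on a chart. -/
abbrev O (a : Ch T) : CommRingCat.{u} := Γ(a.V.left, ⊤)

/-- Restriction of functions on charts. -/
noncomputable def ores {a b : Ch T} (g : a ⟶ b) : O b ⟶ O a := g.g.left.appTop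

theorem ores_id (a : Ch T) : ores (𝟙 a) = 𝟙 _ := by
  change (𝟙 a.V : a.V ⟶ a.V).left.appTop = _
  rw [Over.id_left, Scheme.Hom.id_appTop]

theorem ores_comp {a b c : Ch T} (g : a ⟶ b) (h : b ⟶ c) : ores (g ≫ h) = ores h ≫ ores g := by
  change (g.g ≫ h.g).left.appTop = _
  rw [Over.comp_left, Scheme.Hom.comp_appTop]
  rfl

variable {f : X ⟶ T} (hf : RepWith @IsAffineHom f)

/-- Functions on the base change of `X` to a chart. -/
noncomputable abbrev B (a : Ch T) : CommRingCat.{u} := Γ((W hf a).left, ⊤)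

noncomputable def β (a : Ch T) : O a ⟶ B hf a := (π hf a).left.appTop

noncomputable def res {a b : Ch T} (g : a ⟶ b) : B hf b ⟶ B hf a := (Wmap hf g).left.appTop

theorem res_id (a : Ch T) : res hf (𝟙 a) = 𝟙 _ := by
  rw [res, Wmap_id, Over.id_left, Scheme.Hom.id_appTop]

theorem res_comp {a b c : Ch T} (g : a ⟶ b) (h : b ⟶ c) : res hf (g ≫ h) = res hf h ≫ res hf g := by
  rw [res, Wmap_comp, Over.comp_left, Scheme.Hom.comp_appTop]
  rfl

theorem β_res {a b : Ch T} (g : a ⟶ b) : β hf b ≫ res hf g = ores g ≫ β hf a := by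
  rw [β, res, ores, β, ← Scheme.Hom.comp_appTop, ← Scheme.Hom.comp_appTop, ← Over.comp_left, ← Over.comp_left,
    Wmap_π]

instance isAffineHom_π (a : Ch T) : IsAffineHom (π hf a).left := hf.2 _ _ _ (sq hf a)

theorem isAffine_W (a : Ch T) [IsAffine a.V.left] : IsAffine (W hf a).left :=
  isAffine_of_isAffineHom (π hf a).left

theorem isPushout {a b : Ch T} (g : a ⟶ b) [IsAffine a.V.left] [IsAffine b.V.left] :
    IsPushout (ores g) (β hf b) (β hf a) (res hf g) := by
  have := isAffine_W hf b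
  exact (isPushout_appTop_of_isPullback (sq_map_left hf g)).flip

end rings

end Ch

end K602
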