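import Groth.Agent.Smoothlim.AffineApprox

/-!
# Fitting a quasi-compact open of an affine scheme into a finite type model

`P ⊂ V` open, `V` affine, `k : P ⟶ W` with `W` of finite type over the terminal scheme and covered by the nonvanishing
loci of functions `u l` which correspond to functions `g l` on `V`: there are a finite type affine scheme `V''` containing
`W` as an open subscheme and a map `V ⟶ V''` with `P` the preimage of `W`.
-/

set_option autoImplicit false
universe u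
open CategoryTheory AlgebraicGeometry Limits

namespace K602.FitOpen
open Groth.Agent.Smoothlim Groth.Agent.Smoothlim.GlueAlg Groth.Agent.Smoothlim.GlueGeom Groth.Agent.Smoothlim.Glue2
  Groth.Agent.Smoothlim.AffineApprox

theorem lft_iff {S : Scheme.{u}} (hS : IsTerminal S) (X : Scheme.{u}) (f : X ⟶ S) :
    LocallyOfFiniteType f ↔ LocallyOfFiniteType (specULiftZIsTerminal.from X) := by
  let e : S ≅ _ := hS.uniqueUpToIso specULiftZIsTerminal
  rw [← MorphismProperty.cancel_right_of_respectsIso @LocallyOfFiniteType f e.hom,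
    specULiftZIsTerminal.hom_ext (f ≫ e.hom) (specULiftZIsTerminal.from X)]

theorem exists_model {S : Scheme.{u}} (hS : IsTerminal S) {P V W : Scheme.{u}} (i : P ⟶ V) [IsOpenImmersion i]
    [IsAffine V] [CompactSpace P] [QuasiSeparatedSpace P] (k : P ⟶ W) (s : W ⟶ S) [hs : LocallyOfFiniteType s]
    [CompactSpace W] [QuasiSeparatedSpace W] {ι : Type*} [Finite ι] (g : ι → Γ(V, ⊤)) (u : ι → Γ(W, ⊤))
    (hgu : ∀ l, i.appTop.hom (g l) = k.appTop.hom (u l))
    (haff : ∀ l, IsAffineOpen (W.basicOpen (u l))) (hcov : ⨆ l, W.basicOpen (u l) = ⊤)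
    (hV : ∀ l, V.basicOpen (g l) ≤ i.opensRange) :
    ∃ (X : Scheme.{u}) (v : W ⟶ X) (q : V ⟶ X), IsAffine X ∧ IsOpenImmersion v ∧
      (∀ t : X ⟶ S, LocallyOfFiniteType t) ∧ IsPullback i k q v := by
  let ρ₁ : Γ(V, ⊤) →+* Γ(P, ⊤) := i.appTop.hom
  let ρ₂ : Γ(W, ⊤) →+* Γ(P, ⊤) := k.appTop.hom
  let B : Subring (Γ(V, ⊤) × Γ(W, ⊤)) := fib ρ₁ ρ₂
  let φ : ∀ l, Γ(W, ⊤) →+* Γ(W, W.basicOpen (u l)) := fun l =>
    (W.presheaf.map (homOfLE (W.basicOpen_le (u l))).op).hom
  have hB : ∀ l, IsAway (((φ l).comp (RingHom.snd _ _)).comp B.subtype) ⟨(g l, u l), hgu l⟩ :=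
    fun l => isAway_fib ρ₁ ρ₂ _ (φ l) (g l) (u l) (hgu l) (isAway_openImmersion i (g l) (hV l))
      (isAway_basicOpen _) (isAway_basicOpen (u l))
  have hTW : LocallyOfFiniteType (specULiftZIsTerminal.from W) := (lft_iff hS W s).1 hs
  obtain ⟨A, hA, -, ha, hAl⟩ := exists_finiteType_subring _ _ hB
    (fun l => FTZ.finiteType_Γ (haff l)) ∅
  let AA : CommRingCat.{u} := CommRingCat.of A
  let φW : AA ⟶ Γ(W, ⊤) := CommRingCat.ofHom (((RingHom.snd _ _).comp B.subtype).comp A.subtype)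
  let φV : AA ⟶ Γ(V, ⊤) := CommRingCat.ofHom (((RingHom.fst _ _).comp B.subtype).comp A.subtype)
  let a : ι → AA := fun l => ⟨⟨(g l, u l), hgu l⟩, ha l⟩
  have hv : ∀ l, IsAway ((φW ≫ W.presheaf.map 
      (homOfLE le_top : W.basicOpen (φW.hom (a l)) ⟶ ⊤).op).hom) (a l) := hAl
  let v : W ⟶ Spec AA := toSpecOf φW
  let q : V ⟶ Spec AA := toSpecOf φV
  have hvo : IsOpenImmersion v := isOpenImmersion_toSpecOf φW a haff hcov hv
  have hkv : k ≫ v = i ≫ q := by
    rw [comp_toSpecOf, comp_toSpecOf]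
    congr 1
    ext x
    exact x.1.2.symm
  have sq₂ : IsPullback i k q v := by
    refine (IsOpenImmersion.isPullback _ _ _ _ hkv.symm ?_).flip
    ext x
    constructor
    · intro hx
      obtain ⟨l, hl⟩ := (mem_range_toSpecOf φW a haff hcov hv _).mp hx
      exact hV l ((mem_basicOpen_iff φV _ _).mp hl)
    · rintro ⟨y, rfl⟩
      refine ⟨k y, ?_⟩
      change (k ≫ v) y = (i ≫ q) y
      rw [hkv]
  refine ⟨Spec AA, v, q, inferInstance, hvo, fun t => ?_, sq₂⟩
  rw [lft_iff hS]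
  exact FTZ.locallyOfFiniteType_Spec AA hA

end K602.FitOpen
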