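import Groth.Agent.AlgSp.K602.RingColim
import Groth.Agent.AlgSp.K602.FitOpen
import Mathlib.CategoryTheory.Limits.Constructions.Over.Connected

/-!
# An affine scheme as the limit of the spectra of finitely generated subrings containing given elements
-/

set_option autoImplicit false
set_option backward.isDefEq.respectTransparency false
universe u
open CategoryTheory CategoryTheory.Limits AlgebraicGeometry Opposite

namespace K602.FGSub

section ring

variable (A : CommRingCat.{u}) {ι : Type*} (g : ι → A)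

/-- finitely generated subrings containing the `g l` -/
def L : Type u := {C : Subring A // (∃ F : Finset A, C = Subring.closure (F : Set A)) ∧ ∀ l, g l ∈ C}

instance : PartialOrder (L A g) := inferInstanceAs (PartialOrder {C : Subring A // _})

variable {A g}

theorem exists_ge [Finite ι] (F : Set A) (hF : F.Finite) : ∃ C : L A g, F ⊆ (C.1 : Set A) := by
  classical
  cases nonempty_fintype ι
  refine ⟨⟨Subring.closure ((hF.toFinset ∪ Finset.univ.image g : Finset A) : Set A), ⟨_, rfl⟩, fun l => ?_⟩, ?_⟩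
  · exact Subring.subset_closure (by simp)
  · intro x hx
    exact Subring.subset_closure (by simp [hx])

instance [Finite ι] : Nonempty (L A g) := ⟨(exists_ge (g := g) ∅ Set.finite_empty).choose⟩

instance [Finite ι] : IsDirectedOrder (L A g) := ⟨fun C C' => by
  classical
  obtain ⟨F, hF⟩ := C.2.1
  obtain ⟨F', hF'⟩ := C'.2.1
  refine ⟨⟨C.1 ⊔ C'.1, ⟨F ∪ F', ?_⟩, fun l => (le_sup_left : C.1 ≤ C.1 ⊔ C'.1) (C.2.2 l)⟩, ?_, ?_⟩
  · rw [hF, hF', Finset.coe_union, Subring.closure_union]
  · exact (le_sup_left : C.1 ≤ C.1 ⊔ C'.1)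
  · exact (le_sup_right : C'.1 ≤ C.1 ⊔ C'.1)⟩

variable (A g)

/-- the diagram of the subrings -/
def F : L A g ⥤ CommRingCat.{u} where
  obj C := CommRingCat.of C.1
  map f := CommRingCat.ofHom (Subring.inclusion (leOfHom f))

/-- the cocone with vertex `A` -/
def cc : Cocone (F A g) where
  pt := A
  ι := { app := fun C => CommRingCat.ofHom C.1.subtype }

theorem finiteType (C : L A g) : Algebra.FiniteType ℤ C.1 := by
  obtain ⟨F, hF⟩ := C.2.1
  have h : Algebra.FiniteType ℤ (Algebra.adjoin ℤ (F : Set A)) :=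
    (Subalgebra.fg_iff_finiteType _).1 ⟨F, rfl⟩
  have e : (C.1 : Set A) = Algebra.adjoin ℤ (F : Set A) := by
    rw [hF, Algebra.adjoin_int]; rfl
  have e' : C.1 = (Algebra.adjoin ℤ (F : Set A)).toSubring := SetLike.coe_injective e
  rw [e']
  exact h

theorem isLimit [Finite ι] : Nonempty (IsLimit (Scheme.Spec.mapCone (cc A g).op)) := by
  refine RingColim.nonempty_isLimit_spec (F A g) (cc A g) (fun x => ?_) (fun j y hy => ?_)
  · obtain ⟨C, hC⟩ := exists_ge (g := g) {x} (Set.finite_singleton x)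
    exact ⟨C, ⟨x, hC rfl⟩, rfl⟩
  · refine ⟨j, 𝟙 j, ?_⟩
    have : y = 0 := Subtype.ext hy
    rw [this, map_zero]

end ring

variable {S : Scheme.{u}} (hS : IsTerminal S) (V : Over S) [IsAffine V.left] {ι : Type*} (g : ι → Γ(V.left, ⊤))

/-- the diagram of the spectra -/
noncomputable def D : (L Γ(V.left, ⊤) g)ᵒᵖ ⥤ Over S where
  obj C := Over.mk (hS.from (Spec (CommRingCat.of C.unop.1)))
  map f := Over.homMk (Spec.map ((F Γ(V.left, ⊤) g).map f.unop)) (hS.hom_ext _ _)
  map_id C := by
    ext1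
    exact (congrArg Spec.map ((F Γ(V.left, ⊤) g).map_id _)).trans (Spec.map_id _)
  map_comp f g' := by
    ext1
    exact (congrArg Spec.map ((F Γ(V.left, ⊤) g).map_comp g'.unop f.unop)).trans (Spec.map_comp _ _)

/-- the projections -/
noncomputable def π : (Functor.const (L Γ(V.left, ⊤) g)ᵒᵖ).obj V ⟶ D hS V g where
  app C := Over.homMk (V.left.isoSpec.hom ≫ Spec.map ((cc Γ(V.left, ⊤) g).ι.app C.unop)) (hS.hom_ext _ _)
  naturality C C' f := by
    ext1
    have h := (cc Γ(V.left, ⊤) g).w f.unop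
    change 𝟙 _ ≫ V.left.isoSpec.hom ≫ Spec.map ((cc Γ(V.left, ⊤) g).ι.app C'.unop) =
      (V.left.isoSpec.hom ≫ Spec.map ((cc Γ(V.left, ⊤) g).ι.app C.unop)) ≫ Spec.map ((F Γ(V.left, ⊤) g).map f.unop)
    rw [Category.id_comp, Category.assoc, ← Spec.map_comp, h]

theorem nonempty_isLimit [Finite ι] : Nonempty (IsLimit (Cone.mk V (π hS V g))) := by
  obtain ⟨hc⟩ := isLimit Γ(V.left, ⊤) g
  have : IsConnected (L Γ(V.left, ⊤) g)ᵒᵖ := IsCofiltered.isConnected _
  have e : IsLimit ((Over.forget S).mapCone (Cone.mk V (π hS V g))) :=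
    IsLimit.ofIsoLimit hc (Cone.ext (c := Scheme.Spec.mapCone (cc Γ(V.left, ⊤) g).op)
      (c' := (Over.forget S).mapCone (Cone.mk V (π hS V g))) V.left.isoSpec.symm (fun j => by
        change Spec.map ((cc Γ(V.left, ⊤) g).ι.app j.unop) = V.left.isoSpec.inv ≫ V.left.isoSpec.hom ≫
          Spec.map ((cc Γ(V.left, ⊤) g).ι.app j.unop)
        rw [Iso.inv_hom_id_assoc]))

  exact ⟨isLimitOfReflects (Over.forget S) e⟩

end K602.FGSub
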