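import Groth.Agent.AlgSp.K605.LfpLim
import Groth.Agent.AlgSp.K601.RelLimSp
import Groth.Agent.AlgSp.K601.RelAff
import Groth.Agent.AlgSp.K602.FGSub

/-!
# Factoring a map from a quasi-compact open of an affine scheme to a finitely presented algebraic space through a
finite type model
-/

set_option autoImplicit false
set_option backward.isDefEq.respectTransparency false
universe u
open CategoryTheory CategoryTheory.Limits AlgebraicGeometry Opposite
open AlgSp K605.SqEl K605.LfpLim

namespace K602.FacLim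

variable {S : Scheme.{u}}

/-- `h_S` is terminal. -/
noncomputable def isTerminalYon : IsTerminal ((yon S).obj (Over.mk (𝟙 S))) :=
  IsTerminal.isTerminalObj (yon S) _ Over.mkIdTerminal

theorem affEl_of_lfp {X Y : Sp S} (hX : IsAlgSpace X) (hY : IsAlgSpace Y) {f : X ⟶ Y}
    (hf : LocP @LocallyOfFinitePresentation f) : AffEl f :=
  (affEl_iff f).2 (K601.RelLimSp.isRelLimitPreserving_of_locP hX hY hf)

variable [QuasiSeparatedSpace S] {I : Type u} [SmallCategory I] [IsCofiltered I] {D : I ⥤ Sp S}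

/-- A map to a space of finite presentation over the terminal object from the base change to the limit of a qcqs
space over one of the stages factors through a stage. -/
theorem exists_factor_pb {X Y : Sp S} {f : X ⟶ Y} (hf : AffEl f) (hY : IsTerminal Y)
    (hD : ∀ i, IsAlgSpace (D.obj i)) (hDa : ∀ (i j : I) (φ : i ⟶ j), IsAffineMor (D.map φ)) {c : Cone D}
    (hc : IsLimit c) (i₀ : I) {G G' : Sp S} (g : G ⟶ D.obj i₀) (hG : IsAlgSpace G) (hGc : IsQuasiCompactSp G)
    (hGs : IsQuasiSeparatedSp G) {q : G' ⟶ G} {g' : G' ⟶ c.pt} (h : IsPullback q g' g (c.π.app i₀))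
    (x : G' ⟶ X) :
    ∃ (j : I) (φ : j ⟶ i₀), ∀ (Z : Sp S) (a : Z ⟶ G) (b : Z ⟶ D.obj j) (_ : IsPullback a b g (D.map φ))
      (k : G' ⟶ Z) (_ : k ≫ a = q) (_ : k ≫ b = g' ≫ c.π.app j), ∃ x' : Z ⟶ X, k ≫ x' = x := by
  let E := K601.PbDiag.pbDiag D i₀ g
  have e1 : ∀ j, IsAlgSpace (E.obj j) := fun j =>
    K613.Chart.isAlgSpace_of_isPullback (hD i₀).diag hG (hD j.left) (IsPullback.of_hasPullback g (D.map j.hom))
  have e2 : ∀ (j k : Over i₀) (φ : j ⟶ k), IsAffineMor (E.map φ) := fun j k φ =>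
    K601.RelAff.isAffineMor_bc (K601.PbDiag.isPullback_pbDiag_map D i₀ g φ).flip (hDa _ _ φ.left)
  have e3 : ∀ j : Over i₀, IsAffineMor (pullback.fst g (D.map j.hom)) := fun j =>
    K601.RelAff.isAffineMor_bc (IsPullback.of_hasPullback g (D.map j.hom)).flip (hDa _ _ j.hom)
  have e4 : ∀ j, IsQuasiCompactSp (E.obj j) := fun j => K601.RelAff.isQuasiCompactSp_of_affine (e3 j) hGc
  have e5 : ∀ j, IsQuasiSeparatedSp (E.obj j) := fun j => K601.RelAff.isQuasiSeparatedSp_of_affine (e3 j) hGs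
  obtain ⟨j, φ, x', hx', -⟩ := surj_of_affEl hf e1 e2 (K601.PbDiag.isLimitPbCone i₀ g c hc q g' h)
    (Over.mk (𝟙 i₀)) (e4 _) (e5 _) (hY.from _) x (hY.hom_ext _ _)
  refine ⟨j.left, j.hom, fun Z a b sq k ha hb => ?_⟩
  let m : Z ⟶ pullback g (D.map j.hom) := pullback.lift a b sq.w
  refine ⟨m ≫ x', ?_⟩
  have e : k ≫ m = (K601.PbDiag.pbCone i₀ g c q g' h.toCommSq).π.app j := by
    change k ≫ pullback.lift a b sq.w = pullback.lift q (g' ≫ c.π.app j.left) _
    apply pullback.hom_ext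
    · rw [Category.assoc, pullback.lift_fst, pullback.lift_fst, ha]
    · rw [Category.assoc, pullback.lift_snd, pullback.lift_snd, hb]
  rw [← Category.assoc, e]
  exact hx'

end K602.FacLim
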