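import Groth.Agent.AlgSp.K602.QDat

/-!
# An algebraic space affine over one of finite type over an affine Noetherian base is a limit of spaces affine and of
finite presentation over it
-/

set_option autoImplicit false
set_option backward.isDefEq.respectTransparency false
universe u

open CategoryTheory CategoryTheory.Limits AlgebraicGeometry Opposite AlgSp

namespace K602.AffLim

open Ch K602.Stab K602.Sub K602.SpecC K602.Trans K602.QC K602.QHom K602.FTy

variable {S : Scheme.{u}}

/-- S10032 over a space of finite type over an affine Noetherian base. -/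
theorem exists_limit [IsLocallyNoetherian S] (hS : IsAffine S) {X T : AlgSp.Sp S} (hX : IsAlgSpace X) (hT : FT T)
    (f : X ⟶ T) (hf : IsAffineMor f) :
    ∃ (I : Type u) (_ : Preorder I) (_ : IsDirected I (fun a b => a ≤ b)) (_ : Nonempty I) (D : Iᵒᵖ ⥤ AlgSp.Sp S)
      (t : D ⟶ (Functor.const Iᵒᵖ).obj T) (c : Cone D) (_ : IsLimit c) (e : c.pt ≅ X),
      (∀ i, AlgSp.IsAlgSpace (D.obj i)) ∧ (∀ (i j : Iᵒᵖ) (φ : i ⟶ j), AlgSp.IsAffineMor (D.map φ)) ∧
      (∀ i, AlgSp.IsAffineMor (t.app i) ∧ AlgSp.IsFinitePresentationMor (t.app i)) ∧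
      (∀ i, e.inv ≫ c.π.app i ≫ t.app i = f) := by
  have hqs : QuasiSeparatedSpace S := inferInstance
  have hf' := K597.Affine.repWith_of_isAffineMor hf
  obtain ⟨V, v, hV, he, hs⟩ := K600.LimAff.exists_affine_chart hT.qc
  let p : Ch T := ⟨V, v⟩
  have hpa : IsAffine p.V.left := hV
  obtain ⟨A, hA⟩ := QDat.exists_at (p := p) hS hT.alg hT.qs he hs
  have hlft : LocallyOfFiniteType p.V.hom := (lft_yon_iff V _).1 (lft_str_of_comp (IsAlgSpace.yon_obj V) hT.alg v
    (lft_of_etale (K597.locP_of_repWith K597.etLoc_etale.precomp he)) (hT.lft _))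
  have hN : IsNoetherianRing (O p) := QDat.isNoetherianRing_O hlft
  have hq := QDat.covPair A
  have hqa : IsAffine A.r'.V.left := A.affR'
  obtain ⟨hc⟩ := QLim.nonempty_isLimit (hf := hf') A hq
  obtain ⟨C₀, hC₀, -⟩ := exists_ft (hf := hf') hq 0
  refine ⟨QLim.Idx hf' p, inferInstance, inferInstance, ⟨⟨C₀, hC₀⟩⟩, QLim.D hf' A, QLim.toT hf' A, QLim.cX hf' A, hc,
    Iso.refl X, fun i => QFt.alg_Q A hT.alg _, fun i j φ => affine_qq A φ.unop.le, fun i => ⟨affine_qT A _,
      QFt.lfp_qT A hT.alg i.unop.2, K605.LimImg.isQuasiCompactMor_of_isAffineMor (QFt.alg_Q A hT.alg _) hT.alg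
        (affine_qT A _), K604.Approx.isQuasiSeparatedMor_of_isAffineMor (affine_qT A _)⟩, fun i => ?_⟩
  exact (Category.id_comp _).trans (xQ_qT A i.unop.1)

end K602.AffLim
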