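import Groth.Agent.AlgSp.K602.Step
import Groth.Agent.AlgSp.K602.AffLim
import Groth.Agent.S10766

/-!
# Absolute approximation: a qcqs algebraic space is affine over, and a limit of, ones of finite type over the terminal
scheme
-/

set_option autoImplicit false
set_option backward.isDefEq.respectTransparency false
universe u
open CategoryTheory CategoryTheory.Limits AlgebraicGeometry Opposite
open AlgSp K605.SqEl K605.LfpLim K602.FTy

namespace K602.Abs

variable {S : Scheme.{u}}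

theorem ft_base (hS : IsTerminal S) : FT ((yon S).obj (Over.mk (𝟙 S))) := by
  have hSa := isAffine_of_isTerminal hS
  have : IsAffine (Over.mk (𝟙 S)).left := hSa
  refine ⟨IsAlgSpace.yon_obj _, K596.QC.isQuasiCompactSp_yon _, isQuasiSeparatedSp_yon, fun f => ?_⟩
  rw [lft_yon_iff]
  exact inferInstanceAs (LocallyOfFiniteType (𝟙 S))

theorem ft_of_affine {A B : Sp S} (hA : IsAlgSpace A) (hB : FT B) (f : A ⟶ B) (hf : IsAffineMor f)
    (hfl : LocP @LocallyOfFiniteType f) : FT A :=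
  ⟨hA, K601.RelAff.isQuasiCompactSp_of_affine hf hB.qc, K601.RelAff.isQuasiSeparatedSp_of_affine hf hB.qs,
    fun g => by
      rw [str_uniq g (str A)]
      exact lft_str_of_comp hA hB.alg f hfl (hB.lft _)⟩

theorem isElemDistSq_iso {U V W U' V' : Sp S} {j : U ⟶ W} {f : V ⟶ W} (h : IsElemDistSq j f) (a : U' ⟶ U) (b : V' ⟶ V)
    [IsIso a] [IsIso b] : IsElemDistSq (a ≫ j) (b ≫ f) := by
  obtain ⟨hj, hf, T, P, i, p₁, p₂, hi, sq, hiso⟩ := h
  refine ⟨((RepWith @IsOpenImmersion).cancel_left_of_respectsIso a j).2 hj, fun U φ hφ => ?_, T, P, i, p₁,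
    p₂ ≫ inv b, ?_, ?_, hiso⟩
  · rw [← Category.assoc]
    exact hf _ ((RepWith @Etale).cancel_right_of_respectsIso φ b |>.2 hφ)
  · have e : Set.range (Points.map (a ≫ j)) = Set.range (Points.map j) := by
      ext x
      constructor
      · rintro ⟨y, rfl⟩
        exact ⟨Points.map a y, by rw [Points.map_comp]⟩
      · rintro ⟨y, rfl⟩
        exact ⟨Points.map (inv a) y, by rw [← Points.map_comp, IsIso.inv_hom_id_assoc]⟩
    rw [e]
    exact hi
  · refine IsPullback.of_iso sq (Iso.refl _) (Iso.refl _) (asIso (inv b)) (Iso.refl _) ?_ ?_ ?_ ?_ <;> simp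

/-- A qcqs algebraic space over the terminal scheme is affine over one of finite type. -/
theorem exists_affine_to_ft (hS : IsTerminal S) (X : Space S) (hXc : IsQuasiCompactSp X.obj)
    (hXs : IsQuasiSeparatedSp X.obj) : ∃ (T : Sp S) (t : X.obj ⟶ T), FT T ∧ IsAffineMor t := by
  have := quasiSeparated_of_isTerminal hS
  have hSa := isAffine_of_isTerminal hS
  have hSn := isLocallyNoetherian_of_isTerminal hS
  have hSa' : IsAffine (Over.mk (𝟙 S)).left := hSa
  have key := Groth.Agent.S10766.result X hXc hXs (fun W => ∃ (T : Sp S) (t : W.obj.left.obj ⟶ T), FT T ∧ IsAffineMor t)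
    ?_ ?_
  · have hid : IsEtaleMor (𝟙 X : X ⟶ X).hom := fun U φ hφ => by
      change RepWith @Etale (φ ≫ 𝟙 X.obj)
      rw [Category.comp_id]
      exact hφ
    exact key ⟨Over.mk (𝟙 X), hid⟩ hXc hXs
  · rintro W T hT ⟨e⟩
    refine ⟨_, e.inv ≫ (yon S).map (Over.mkIdTerminal.from T), ft_base hS, ?_⟩
    exact K597.Affine.isAffineMor_of_repWith (((RepWith @IsAffineHom).cancel_left_of_respectsIso _ _).2
      (K597.Affine.repWith_of_isAffineMor (isAffineMor_yon_map _)))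
  · rintro W U V UV j f p q hWc hWs hUc ⟨Z, hZ, ⟨e⟩⟩ hsq - ⟨T₀, t₀, hT₀, ht₀⟩ - -
    obtain ⟨I, _, _, _, D, t, c, hc, eU, hDalg, hDa, hDt, -⟩ := AffLim.exists_limit hSa U.obj.left.property hT₀ t₀ ht₀
    have hD : ∀ i, FT (D.obj i) := fun i => ft_of_affine (hDalg i) hT₀ (t.app i) (hDt i).1
      (lft_of_lfp (hDt i).2.1)
    have hsq' : IsElemDistSq (eU.hom ≫ j.hom.left.hom) (e.hom ≫ f.hom.left.hom) := isElemDistSq_iso hsq _ _
    obtain ⟨P, q, p, sq⟩ := hsq'.1.1 (e.hom ≫ f.hom.left.hom)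
    have hcA : IsAlgSpace c.pt := K600.LimSpace.isAlgSpace_limit hDalg hDa hc
    have hcc : IsQuasiCompactSp c.pt := by
      obtain ⟨i₀⟩ := IsCofiltered.nonempty (C := Iᵒᵖ)
      exact K601.RelAff.isQuasiCompactSp_of_affine (K600.LimAff.isAffineMor_π hDa hc i₀) (hD i₀).qc
    have hjq : IsQuasiCompactMor (eU.hom ≫ j.hom.left.hom) :=
      K596.QC2.isQuasiCompactMor_of_qc_of_qs hcA W.obj.left.property _ hcc hWs
    have hPc : CompactSpace P.left := K596.QC.compactSpace_of_isQuasiCompactSp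
      (hjq (IsAlgSpace.yon_obj _) (K596.QC.isQuasiCompactSp_yon Z) _ _ _ sq)
    exact Step.exists_affine_step hS hD hDa hc W.obj.left.property hsq' sq

/-- Absolute approximation: a qcqs algebraic space is a directed limit of finite type ones with affine transitions. -/
theorem exists_limit_ft (hS : IsTerminal S) (X : Space S) (hXc : IsQuasiCompactSp X.obj)
    (hXs : IsQuasiSeparatedSp X.obj) :
    ∃ (I : Type u) (_ : Preorder I) (_ : IsDirected I (fun a b => a ≤ b)) (_ : Nonempty I) (D : Iᵒᵖ ⥤ AlgSp.Sp S)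
      (c : Cone D) (_ : IsLimit c) (_ : c.pt ≅ X.obj), (∀ i, FT (D.obj i)) ∧
      (∀ (i j : Iᵒᵖ) (φ : i ⟶ j), IsAffineMor (D.map φ)) := by
  have hSa := isAffine_of_isTerminal hS
  have hSn := isLocallyNoetherian_of_isTerminal hS
  obtain ⟨T, t, hT, ht⟩ := exists_affine_to_ft hS X hXc hXs
  obtain ⟨I, h1, h2, h3, D, t, c, hc, e, hDalg, hDa, hDt, -⟩ := AffLim.exists_limit hSa X.property hT t ht
  exact ⟨I, h1, h2, h3, D, c, hc, e, fun i => ft_of_affine (hDalg i) hT (t.app i) (hDt i).1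
    (lft_of_lfp (hDt i).2.1), hDa⟩

/-- Absolute approximation. -/
theorem exists_limit (hS : IsTerminal S) {X : Sp S} (hX : IsAlgSpace X) (hXc : IsQuasiCompactSp X)
    (hXs : IsQuasiSeparatedSp X) :
    ∃ (I : Type u) (_ : Preorder I) (_ : IsDirected I (fun a b => a ≤ b)) (_ : Nonempty I) (D : Iᵒᵖ ⥤ Sp S)
      (c : Cone D) (_ : IsLimit c) (_ : c.pt ≅ X),
      (∀ i, IsAlgSpace (D.obj i)) ∧ (∀ (i j : Iᵒᵖ) (g : i ⟶ j), IsAffineMor (D.map g)) ∧
      (∀ i, IsQuasiSeparatedSp (D.obj i) ∧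
        ∀ q : D.obj i ⟶ (yon S).obj (Over.mk (𝟙 S)), IsFiniteTypeMor q) := by
  have := quasiSeparated_of_isTerminal hS
  obtain ⟨I, h1, h2, h3, D, c, hc, e, hD, hDa⟩ := exists_limit_ft hS ⟨X, hX⟩ hXc hXs
  exact ⟨I, h1, h2, h3, D, c, hc, e, fun i => (hD i).alg, hDa, fun i => ⟨(hD i).qs, fun q => ⟨(hD i).lft q,
    K596.QC2.isQuasiCompactMor_toBase (hD i).alg (hD i).qc q⟩⟩⟩

end K602.Abs
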