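import Groth.Agent.AlgSp.K636.Decomp
import Groth.Agent.AlgSp.K596.Univ
import Groth.Agent.AlgSp.K596.Pts
import Groth.Agent.AlgSp.K640.ElemDist
import Groth.Agent.AlgSp.K609.Points
import Groth.Agent.Smoothlim.Glue2

/-!
# Etale charts from two jointly surjective ones
-/

set_option autoImplicit false
set_option backward.isDefEq.respectTransparency false
universe u
open CategoryTheory CategoryTheory.Limits AlgebraicGeometry Opposite AlgSp

namespace K602.CopChart

open K636.Decomp

theorem of_two {P : MorphismProperty Scheme.{u}} [IsZariskiLocalAtSource P] {A B C V T : Scheme.{u}} (i : A ⟶ C)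
    (j : B ⟶ C) [IsOpenImmersion i] [IsOpenImmersion j] (h : ∀ x : C, x ∈ Set.range i ∨ x ∈ Set.range j) (φ : V ⟶ C)
    (f : V ⟶ T) (h1 : P (pullback.snd i φ ≫ f)) (h2 : P (pullback.snd j φ ≫ f)) : P f := by
  have hg : Groth.Agent.Smoothlim.Glue2.IsGlue (pullback.fst (pullback.snd i φ) (pullback.snd j φ))
      (pullback.snd (pullback.snd i φ) (pullback.snd j φ)) (pullback.snd i φ) (pullback.snd j φ) := by
    refine ⟨IsPullback.of_hasPullback _ _, inferInstance, inferInstance, fun x => ?_⟩
    rcases h (φ x) with ⟨a, ha⟩ | ⟨b, hb⟩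
    · obtain ⟨z, -, hz⟩ := Scheme.Pullback.exists_preimage_pullback (f := i) (g := φ) a x ha
      exact Or.inl ⟨z, hz⟩
    · obtain ⟨z, -, hz⟩ := Scheme.Pullback.exists_preimage_pullback (f := j) (g := φ) b x hb
      exact Or.inr ⟨z, hz⟩
  exact hg.of_source P f h1 h2

theorem of_two' {P : MorphismProperty Scheme.{u}} [IsZariskiLocalAtSource P] {A B C T : Scheme.{u}} (i : A ⟶ C)
    (j : B ⟶ C) [IsOpenImmersion i] [IsOpenImmersion j] (h : ∀ x : C, x ∈ Set.range i ∨ x ∈ Set.range j)
    (f : C ⟶ T) (h1 : P (i ≫ f)) (h2 : P (j ≫ f)) : P f := by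
  have hg : Groth.Agent.Smoothlim.Glue2.IsGlue (pullback.fst i j) (pullback.snd i j) i j :=
    ⟨IsPullback.of_hasPullback _ _, inferInstance, inferInstance, h⟩
  exact hg.of_source P f h1 h2

theorem jointly_surjective_coprod (A B : Scheme.{u}) (x : ↥(A ⨿ B)) :
    x ∈ Set.range (coprod.inl : A ⟶ A ⨿ B) ∨ x ∈ Set.range (coprod.inr : B ⟶ A ⨿ B) := by
  have h := (isCompl_range_inl_inr A B).codisjoint
  rw [codisjoint_iff] at h
  exact h.ge trivial

variable {S : Scheme.{u}}

theorem cop_hom {P : MorphismProperty Scheme.{u}} [IsZariskiLocalAtSource P] {A B : Over S} (hA : P A.hom)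
    (hB : P B.hom) : P (cop A B).hom := by
  have h1 : IsOpenImmersion (coprod.inl : A.left ⟶ A.left ⨿ B.left) := inferInstance
  have h2 : IsOpenImmersion (coprod.inr : B.left ⟶ A.left ⨿ B.left) := inferInstance
  refine of_two' (coprod.inl : A.left ⟶ A.left ⨿ B.left) (coprod.inr : B.left ⟶ A.left ⨿ B.left)
    (jointly_surjective_coprod _ _) (coprod.desc A.hom B.hom) ?_ ?_
  · rwa [coprod.inl_desc]
  · rwa [coprod.inr_desc]

theorem repWith_of_cop {P : MorphismProperty Scheme.{u}} [IsZariskiLocalAtSource P] {X : Sp S} (hX : IsAlgSpace X)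
    {A B : Over S} (g : (yon S).obj (cop A B) ⟶ X)
    (hA : RepWith P ((yon S).map (copl A B) ≫ g))
    (hB : RepWith P ((yon S).map (copr A B) ≫ g)) : RepWith P g := by
  refine ⟨Functor.relativelyRepresentable.of_diag hX.diag g, fun T V t fst snd sq => ?_⟩
  obtain ⟨φ, rfl⟩ := (yon S).map_surjective fst
  have key : ∀ (A' : Over S) (a : A' ⟶ cop A B) (ha : RepWith P ((yon S).map a ≫ g)),
      P (pullback.snd a.left φ.left ≫ snd.left) := by
    intro A' a ha
    let P : Over S := Over.mk (pullback.snd a.left φ.left ≫ V.hom)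
    let p : P ⟶ A' := Over.homMk (pullback.fst a.left φ.left) (by
      change pullback.fst a.left φ.left ≫ A'.hom = pullback.snd a.left φ.left ≫ V.hom
      rw [← Over.w a, ← Category.assoc, pullback.condition, Category.assoc, Over.w φ])
    let q : P ⟶ V := Over.homMk (pullback.snd a.left φ.left) rfl
    have sq1 : IsPullback p q a φ := K596.Univ.isPullback_over (Over.OverMorphism.ext pullback.condition)
      (IsPullback.of_hasPullback a.left φ.left)
    have sq2 := (sq1.map (yon S)).flip.paste_horiz sq.flip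
    rw [← Functor.map_comp] at sq2
    exact ha.2 _ _ _ sq2.flip
  have hl := key A (copl A B) hA
  have hr := key B (copr A B) hB
  have h1 : IsOpenImmersion (copl A B).left := inferInstanceAs (IsOpenImmersion (coprod.inl : A.left ⟶ A.left ⨿ B.left))
  have h2 : IsOpenImmersion (copr A B).left := inferInstanceAs (IsOpenImmersion (coprod.inr : B.left ⟶ A.left ⨿ B.left))
  refine of_two (copl A B).left (copr A B).left (fun x => ?_) φ.left snd.left hl hr
  have h := (isCompl_range_inl_inr A.left B.left).codisjoint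
  rw [codisjoint_iff] at h
  exact h.ge trivial

/-- A chart from two jointly surjective etale maps from schemes. -/
theorem exists_chart {X : Sp S} (hX : IsAlgSpace X) {A B : Over S} {a : (yon S).obj A ⟶ X} {b : (yon S).obj B ⟶ X}
    (ha : RepWith @Etale a) (hb : RepWith @Etale b)
    (h : ∀ x : Points X, x ∈ Set.range (Points.map a) ∨ x ∈ Set.range (Points.map b)) :
    ∃ g : (yon S).obj (cop A B) ⟶ X, (yon S).map (copl A B) ≫ g = a ∧ (yon S).map (copr A B) ≫ g = b ∧
      RepWith @Etale g ∧ RepWith @Surjective g := by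
  obtain ⟨g, h1, h2⟩ := (isDecomp_cop A B).exists_desc a b
  refine ⟨g, h1, h2, repWith_of_cop hX g (by rwa [h1]) (by rwa [h2]), ?_⟩
  refine (K596.Pts.repWith_surjective_iff (hX.representable_from_yon _)).2 fun x => ?_
  rcases h x with ⟨y, rfl⟩ | ⟨y, rfl⟩
  · exact ⟨Points.map ((yon S).map (copl A B)) y, by rw [← Points.map_comp, h1]⟩
  · exact ⟨Points.map ((yon S).map (copr A B)) y, by rw [← Points.map_comp, h2]⟩

/-- the two members of an elementary distinguished square are jointly surjective on points -/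
theorem cover_of_isElemDistSq {U V W : Sp S} {j : U ⟶ W} {f : V ⟶ W} (h : IsElemDistSq j f) (x : Points W) :
    x ∈ Set.range (Points.map j) ∨ x ∈ Set.range (Points.map f) := by
  obtain ⟨-, -, T, P', i, p₁, p₂, ⟨-, hrange, -⟩, sq, hiso⟩ := h
  by_cases hx : x ∈ Set.range (Points.map j)
  · exact Or.inl hx
  · right
    have h1 : x ∈ Set.range (Points.map i) := by rw [hrange]; exact hx
    obtain ⟨y, rfl⟩ := h1
    refine ⟨Points.map p₂ (Points.map (inv p₁) y), ?_⟩
    rw [← Points.map_comp, ← Points.map_comp]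
    congr 1
    rw [← sq.w, IsIso.inv_hom_id_assoc]

end K602.CopChart
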