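import Groth.Agent.AlgSp.K640.SchFam
import Groth.Agent.AlgSp.K640.ElemDist
import Groth.Agent.AlgSp.K598.RepKit

/-!
# Quasi-separatedness and elementary distinguished squares
-/

set_option autoImplicit false
set_option backward.isDefEq.respectTransparency false
universe u
open CategoryTheory CategoryTheory.Limits AlgebraicGeometry Opposite
open AlgSp K613.Basic K613.Cover K640.Joint K640.Equalizer K640.SchFam K640.ElemDist

namespace K602.ElemQs

variable {S : Scheme.{u}} {F : Sp S}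

theorem quasiCompact_of_cover {E E₁ E₂ R : Scheme.{u}} (e : E ⟶ R) (a₁ : E₁ ⟶ E) (a₂ : E₂ ⟶ E)
    (h₁ : QuasiCompact (a₁ ≫ e)) (h₂ : QuasiCompact (a₂ ≫ e)) (h : ∀ x : E, x ∈ Set.range a₁ ∨ x ∈ Set.range a₂) :
    QuasiCompact e := by
  refine ⟨fun U hU hc => ?_⟩
  have e1 : e ⁻¹' U = a₁ '' ((a₁ ≫ e) ⁻¹' U) ∪ a₂ '' ((a₂ ≫ e) ⁻¹' U) := by
    ext x
    constructor
    · intro hx
      rcases h x with ⟨y, rfl⟩ | ⟨y, rfl⟩
      · exact Or.inl ⟨y, by rw [Set.mem_preimage, Scheme.Hom.comp_apply]; exact hx, rfl⟩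
      · exact Or.inr ⟨y, by rw [Set.mem_preimage, Scheme.Hom.comp_apply]; exact hx, rfl⟩
    · rintro (⟨y, hy, rfl⟩ | ⟨y, hy, rfl⟩)
      · rw [Set.mem_preimage, Scheme.Hom.comp_apply] at hy; exact hy
      · rw [Set.mem_preimage, Scheme.Hom.comp_apply] at hy; exact hy
  rw [e1]
  exact ((h₁.isCompact_preimage U hU hc).image a₁.continuous).union
    ((h₂.isCompact_preimage U hU hc).image a₂.continuous)

/-- `RepWith P` of the absolute diagonal in terms of equalizers -/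
theorem repWith_diag_iff (hF : Representable (Limits.diag F)) (Pr : MorphismProperty Scheme.{u}) [Pr.RespectsIso] :
    RepWith Pr (Limits.diag F) ↔ ∀ (R E : Over S) (e : E ⟶ R) (u v : (yon S).obj R ⟶ F),
      IsEq e u v → Pr e.left := by
  constructor
  · intro h R E e u v he
    obtain ⟨E', e', fst, sq, he'⟩ := exists_isEq hF u v
    obtain ⟨i, hi⟩ := K640.SchFam.IsEq.uniq he he'
    have h1 : Pr e'.left := h.2 _ _ _ sq
    rw [← hi, Over.comp_left]
    have : IsIso i.hom.left := inferInstanceAs (IsIso ((Over.forget S).map i.hom))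
    exact Pr.cancel_left_of_respectsIso _ _ |>.2 h1
  · intro h
    refine ⟨hF, fun R E w fst snd sq => ?_⟩
    have hw : w = prod.lift (w ≫ prod.fst) (w ≫ prod.snd) := by
      apply Limits.prod.hom_ext <;> simp
    obtain ⟨E', e', fst', sq', he'⟩ := exists_isEq hF (w ≫ prod.fst) (w ≫ prod.snd)
    rw [← hw] at sq'
    have h1 := h _ _ _ _ _ he'
    let i := sq.isoIsPullback _ _ sq'
    have hi : i.hom ≫ (yon S).map e' = (yon S).map snd := sq.isoIsPullback_hom_snd _ _ sq'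
    obtain ⟨k, hk⟩ := (yon S).map_surjective i.hom
    have hk' : IsIso k := by
      have : IsIso ((yon S).map k) := by rw [hk]; infer_instance
      exact isIso_of_reflects_iso k (yon S)
    have e1 : k ≫ e' = snd := (yon S).map_injective (by rw [Functor.map_comp, hk, hi])
    change Pr snd.left
    rw [← e1, Over.comp_left]
    have : IsIso k.left := inferInstanceAs (IsIso ((Over.forget S).map k))
    exact Pr.cancel_left_of_respectsIso _ _ |>.2 h1

variable {U V W P : Sp S}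

theorem mono_of_isPullback {p : P ⟶ U} {q : P ⟶ V} {j : U ⟶ W} {f : V ⟶ W} (sq : IsPullback p q j f)
    (hj : Mono j) : Mono q :=
  ⟨fun x y hxy => sq.hom_ext (by
    rw [← cancel_mono j, Category.assoc, Category.assoc, sq.w, ← Category.assoc, ← Category.assoc, hxy]) hxy⟩

theorem mono_of_mono_yon {R E : Over S} (e : E ⟶ R) (h : Mono ((yon S).map e)) : Mono e :=
  ⟨fun x y hxy => (yon S).map_injective (by
    rw [← cancel_mono ((yon S).map e), ← Functor.map_comp, ← Functor.map_comp, hxy])⟩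

/-- the equalizer of a map to `U` and one to `V` -/
theorem qc_UV (hU : IsAlgSpace U) {j : U ⟶ W} {f : V ⟶ W} (hj : RepWith @IsOpenImmersion j) {p : P ⟶ U} {q : P ⟶ V}
    (sq : IsPullback p q j f) (hUqs : IsQuasiSeparatedSp U) (hq : RepWith @QuasiCompact q) {R E : Over S} {e : E ⟶ R}
    (a : (yon S).obj R ⟶ U) (b : (yon S).obj R ⟶ V) (he : IsEq e (a ≫ j) (b ≫ f)) : QuasiCompact e.left := by
  have hjm : Mono j := K598.RepKit.mono_of_repWith_isOpenImmersion hj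
  have hqm : Mono q := mono_of_isPullback sq hjm
  obtain ⟨R₁, c₁, z₁, sq₁⟩ := hq.1 b
  have hc₁ : QuasiCompact c₁.left := hq.2 _ _ _ sq₁
  have hcm : Mono c₁ := mono_of_mono_yon c₁ (mono_of_isPullback sq₁ hqm)
  obtain ⟨m, hm1, hm2⟩ : ∃ m : (yon S).obj E ⟶ P, m ≫ p = (yon S).map e ≫ a ∧ m ≫ q = (yon S).map e ≫ b :=
    ⟨sq.lift ((yon S).map e ≫ a) ((yon S).map e ≫ b) (by rw [Category.assoc, he.w, Category.assoc]),
      sq.lift_fst _ _ _, sq.lift_snd _ _ _⟩
  obtain ⟨l, hl⟩ := (yon S).map_surjective (sq₁.lift m ((yon S).map e) hm2)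
  have hl1 : (yon S).map l ≫ z₁ = m := by rw [hl, sq₁.lift_fst]
  have hl2 : l ≫ c₁ = e := (yon S).map_injective (by rw [Functor.map_comp, hl, sq₁.lift_snd])
  have heq : IsEq l (z₁ ≫ p) ((yon S).map c₁ ≫ a) := by
    refine ⟨?_, fun T t ht => ?_, ?_⟩
    · rw [← Category.assoc, hl1, hm1, ← Category.assoc, ← Functor.map_comp, hl2]
    · obtain ⟨k, hk⟩ := he.lift T (t ≫ c₁) (by
        have h1 := congrArg (fun z => z ≫ j) ht
        simp only [Category.assoc] at h1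
        rw [Functor.map_comp, Category.assoc, Category.assoc, ← h1, sq.w, ← Category.assoc z₁, sq₁.w, Category.assoc])
      exact ⟨k, by rw [← cancel_mono c₁, Category.assoc, hl2, hk]⟩
    · have := he.mono
      rw [← hl2] at this
      exact mono_of_mono l c₁
  have h2 : QuasiCompact l.left := (repWith_diag_iff hU.diag @QuasiCompact).1 hUqs _ _ _ _ _ heq
  rw [← hl2, Over.comp_left]
  infer_instance

/-- the equalizer of two maps to `V` -/
theorem qc_VV (hU : IsAlgSpace U) (hV : IsAlgSpace V) {j : U ⟶ W} {f : V ⟶ W} (hsq : IsElemDistSq j f) {p : P ⟶ U}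
    {q : P ⟶ V} (sq : IsPullback p q j f) (hUqs : IsQuasiSeparatedSp U) (hVqs : IsQuasiSeparatedSp V)
    (hq : RepWith @QuasiCompact q) {R E : Over S} {e : E ⟶ R} (a b : (yon S).obj R ⟶ V)
    (he : IsEq e (a ≫ f) (b ≫ f)) : QuasiCompact e.left := by
  have hme := he.mono
  have hjm : Mono j := K598.RepKit.mono_of_repWith_isOpenImmersion hsq.1
  have hqm : Mono q := mono_of_isPullback sq hjm
  -- the part where `a = b`
  obtain ⟨E₁, e₁, -, -, he₁⟩ := exists_isEq hV.diag a b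
  have hq₁ : QuasiCompact e₁.left := (repWith_diag_iff hV.diag @QuasiCompact).1 hVqs _ _ _ _ _ he₁
  obtain ⟨k₁, hk₁⟩ := he.lift E₁ e₁ (by rw [← Category.assoc, he₁.w, Category.assoc])
  -- the part over `U`
  obtain ⟨R₁, c₁, z₁, sq₁⟩ := hq.1 a
  have hc₁ : QuasiCompact c₁.left := hq.2 _ _ _ sq₁
  obtain ⟨R₂, c₂, z₂, sq₂⟩ := hq.1 b
  have hc₂ : QuasiCompact c₂.left := hq.2 _ _ _ sq₂
  let R₃ : Over S := pullback c₁ c₂
  let c₃ : R₃ ⟶ R := pullback.fst c₁ c₂ ≫ c₁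
  have hc₃ : QuasiCompact c₃.left := by
    have h1 : QuasiCompact (pullback.fst c₁ c₂).left :=
      MorphismProperty.of_isPullback (P := @QuasiCompact) ((IsPullback.of_hasPullback c₁ c₂).flip.map (Over.forget S)) hc₂
    change QuasiCompact (pullback.fst c₁ c₂ ≫ c₁).left
    rw [Over.comp_left]
    infer_instance
  obtain ⟨E₂, e₂, -, -, he₂⟩ := exists_isEq hU.diag ((yon S).map (pullback.fst c₁ c₂) ≫ z₁ ≫ p)
    ((yon S).map (pullback.snd c₁ c₂) ≫ z₂ ≫ p)
  have hq₂ : QuasiCompact e₂.left := (repWith_diag_iff hU.diag @QuasiCompact).1 hUqs _ _ _ _ _ he₂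
  have w1 : ∀ {T : Over S} (t : T ⟶ R₃), (yon S).map (t ≫ c₃) ≫ a ≫ f =
      (yon S).map t ≫ ((yon S).map (pullback.fst c₁ c₂) ≫ z₁ ≫ p) ≫ j := fun t => by
    simp only [Category.assoc, c₃, Functor.map_comp]
    rw [sq.w, ← Category.assoc z₁, sq₁.w, Category.assoc]
  have w2 : ∀ {T : Over S} (t : T ⟶ R₃), (yon S).map (t ≫ c₃) ≫ b ≫ f =
      (yon S).map t ≫ ((yon S).map (pullback.snd c₁ c₂) ≫ z₂ ≫ p) ≫ j := fun t => by
    change (yon S).map (t ≫ pullback.fst c₁ c₂ ≫ c₁) ≫ b ≫ f = _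
    rw [pullback.condition]
    simp only [Category.assoc, Functor.map_comp]
    rw [sq.w, ← Category.assoc z₂, sq₂.w, Category.assoc]
  obtain ⟨k₂, hk₂⟩ := he.lift E₂ (e₂ ≫ c₃) (by
    rw [w1, w2, ← Category.assoc ((yon S).map e₂), he₂.w, Category.assoc])
  refine quasiCompact_of_cover e.left k₁.left k₂.left ?_ ?_ fun x => ?_
  · rw [← Over.comp_left, hk₁]; exact hq₁
  · rw [← Over.comp_left, hk₂, Over.comp_left]; infer_instance
  · obtain ⟨T₁, T₂, d₁, d₂, y₁, hd, hy₁, hy₂⟩ := fpC₂_of_isElemDistSq hV hsq ((yon S).map e ≫ a) ((yon S).map e ≫ b)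
      (by rw [Category.assoc, Category.assoc, he.w])
    rcases hd.surj x with ⟨t, rfl⟩ | ⟨t, rfl⟩
    · -- over `U`
      right
      obtain ⟨m₁, hm1, hm1'⟩ : ∃ m : (yon S).obj T₁ ⟶ P, m ≫ p = y₁ ∧ m ≫ q = (yon S).map (d₁ ≫ e) ≫ a :=
        ⟨sq.lift y₁ ((yon S).map (d₁ ≫ e) ≫ a) (by rw [hy₁]; simp only [Category.assoc, Functor.map_comp]),
          sq.lift_fst _ _ _, sq.lift_snd _ _ _⟩
      obtain ⟨m₂, hm2, hm2'⟩ : ∃ m : (yon S).obj T₁ ⟶ P, m ≫ p = y₁ ∧ m ≫ q = (yon S).map (d₁ ≫ e) ≫ b :=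
        ⟨sq.lift y₁ ((yon S).map (d₁ ≫ e) ≫ b) (by
          rw [hy₁]; simp only [Category.assoc, Functor.map_comp]; rw [he.w]),
          sq.lift_fst _ _ _, sq.lift_snd _ _ _⟩
      obtain ⟨n₁, hn₁⟩ := (yon S).map_surjective (sq₁.lift m₁ ((yon S).map (d₁ ≫ e)) hm1')
      obtain ⟨n₂, hn₂⟩ := (yon S).map_surjective (sq₂.lift m₂ ((yon S).map (d₁ ≫ e)) hm2')
      have hn1 : (yon S).map n₁ ≫ z₁ = m₁ := by rw [hn₁, sq₁.lift_fst]
      have hn1' : n₁ ≫ c₁ = d₁ ≫ e := (yon S).map_injective (by rw [Functor.map_comp, hn₁, sq₁.lift_snd])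
      have hn2 : (yon S).map n₂ ≫ z₂ = m₂ := by rw [hn₂, sq₂.lift_fst]
      have hn2' : n₂ ≫ c₂ = d₁ ≫ e := (yon S).map_injective (by rw [Functor.map_comp, hn₂, sq₂.lift_snd])
      let n : T₁ ⟶ R₃ := pullback.lift n₁ n₂ (by rw [hn1', hn2'])
      obtain ⟨l, hl⟩ := he₂.lift T₁ n (by
        have f1 : n ≫ pullback.fst c₁ c₂ = n₁ := pullback.lift_fst _ _ _
        have f2 : n ≫ pullback.snd c₁ c₂ = n₂ := pullback.lift_snd _ _ _
        rw [← Category.assoc ((yon S).map n), ← Category.assoc ((yon S).map n), ← Functor.map_comp,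
          ← Functor.map_comp, f1, f2, ← Category.assoc, ← Category.assoc, hn1, hn2, hm1, hm2])
      refine ⟨l.left t, ?_⟩
      have e3 : l ≫ k₂ = d₁ := by
        rw [← cancel_mono e, Category.assoc, hk₂, ← Category.assoc, hl, ← hn1']
        change pullback.lift n₁ n₂ _ ≫ pullback.fst c₁ c₂ ≫ c₁ = _
        rw [pullback.lift_fst_assoc]
      rw [← e3, Over.comp_left, Scheme.Hom.comp_apply]
    · -- where the two maps agree
      left
      obtain ⟨l, hl⟩ := he₁.lift T₂ (d₂ ≫ e) (by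
        rw [Functor.map_comp, Category.assoc, Category.assoc]; exact hy₂)
      refine ⟨l.left t, ?_⟩
      have e3 : l ≫ k₁ = d₂ := by rw [← cancel_mono e, Category.assoc, hk₁, hl]
      rw [← e3, Over.comp_left, Scheme.Hom.comp_apply]

/-- An elementary distinguished square with quasi-separated `U`, `V` and `U ×_W V ⟶ V` quasi-compact has a
quasi-separated `W`. -/
theorem isQuasiSeparatedSp (hU : IsAlgSpace U) (hV : IsAlgSpace V) (hW : IsAlgSpace W) {j : U ⟶ W} {f : V ⟶ W}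
    (hsq : IsElemDistSq j f) {p : P ⟶ U} {q : P ⟶ V} (sq : IsPullback p q j f) (hUqs : IsQuasiSeparatedSp U)
    (hVqs : IsQuasiSeparatedSp V) (hq : RepWith @QuasiCompact q) : IsQuasiSeparatedSp W := by
  have hjs := jSurj_of_isElemDistSq hV hsq
  refine (repWith_diag_iff hW.diag @QuasiCompact).2 fun R E e u v he => ?_
  obtain ⟨ι, R', cc, k, z, hcc, hz⟩ := hjs R u
  refine of_fpF e hcc fun i => ?_
  obtain ⟨E', e', -, -, he'⟩ := exists_isEq hW.diag ((yon S).map (cc i) ≫ u) ((yon S).map (cc i) ≫ v)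
  obtain ⟨l, hl⟩ := he.isPullback (cc i) he'
  refine ⟨E', l, e', hl, ?_⟩
  obtain ⟨ι₂, R₂, cc₂, k₂, z₂, hcc₂, hz₂⟩ := hjs (R' i) ((yon S).map (cc i) ≫ v)
  refine of_fpF e' hcc₂ fun i₂ => ?_
  obtain ⟨E₂, e₂, -, -, he₂⟩ := exists_isEq hW.diag ((yon S).map (cc₂ i₂) ≫ (yon S).map (cc i) ≫ u)
    ((yon S).map (cc₂ i₂) ≫ (yon S).map (cc i) ≫ v)
  obtain ⟨l₂, hl₂⟩ := he'.isPullback (cc₂ i₂) he₂
  refine ⟨E₂, l₂, e₂, hl₂, ?_⟩
  have hu₂ : (yon S).map (cc₂ i₂) ≫ (yon S).map (cc i) ≫ u =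
      ((yon S).map (cc₂ i₂) ≫ z i) ≫ famMap j f (k i) := by rw [Category.assoc, hz]
  rw [hu₂, ← hz₂] at he₂
  generalize (yon S).map (cc₂ i₂) ≫ z i = a at he₂
  generalize z₂ i₂ = b at he₂
  generalize k i = m at a he₂
  generalize k₂ i₂ = n at b he₂
  match m, n with
  | true, true =>
    change (yon S).obj _ ⟶ U at a b
    change IsEq e₂ (a ≫ j) (b ≫ j) at he₂
    have hjm : Mono j := K598.RepKit.mono_of_repWith_isOpenImmersion hsq.1
    refine (repWith_diag_iff hU.diag @QuasiCompact).1 hUqs _ _ e₂ a b ⟨?_, fun T t ht => he₂.lift T t ?_, he₂.mono⟩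
    · rw [← cancel_mono j, Category.assoc, Category.assoc, he₂.w]
    · rw [← Category.assoc, ← Category.assoc, ht]
  | true, false =>
    change (yon S).obj _ ⟶ U at a
    change (yon S).obj _ ⟶ V at b
    change IsEq e₂ (a ≫ j) (b ≫ f) at he₂
    exact qc_UV hU hsq.1 sq hUqs hq a b he₂
  | false, true =>
    change (yon S).obj _ ⟶ V at a
    change (yon S).obj _ ⟶ U at b
    change IsEq e₂ (a ≫ f) (b ≫ j) at he₂
    exact qc_UV hU hsq.1 sq hUqs hq b a ⟨he₂.w.symm, fun T t ht => he₂.lift T t ht.symm, he₂.mono⟩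
  | false, false =>
    change (yon S).obj _ ⟶ V at a b
    change IsEq e₂ (a ≫ f) (b ≫ f) at he₂
    exact qc_VV hU hV hsq sq hUqs hVqs hq a b he₂

end K602.ElemQs
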