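import Groth.Agent.AlgSp.K602.Model
import Groth.Agent.AlgSp.K602.FTy
import Groth.Agent.AlgSp.K601.RelDesc
import Groth.Agent.AlgSp.K601.RelAff
import Groth.Agent.AlgSp.K600.LimSpace
import Groth.Agent.S0591

/-!
# Descending an etale map from a quasi-compact open of an affine scheme to a stage of finite type
-/

set_option autoImplicit false
set_option backward.isDefEq.respectTransparency false
universe u
open CategoryTheory CategoryTheory.Limits AlgebraicGeometry Opposite
open AlgSp K605.SqEl K605.LfpLim K602.FTy K601.RelDesc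

namespace K602.EtStep

variable {S : Scheme.{u}}

theorem exists_stage_aux [QuasiSeparatedSpace S] [IsLocallyNoetherian S] {I : Type u} [SmallCategory I] [IsCofiltered I]
    {D : I ⥤ Sp S} (hD : ∀ i, FT (D.obj i)) (hDa : ∀ (i j : I) (φ : i ⟶ j), IsAffineMor (D.map φ)) {c : Cone D}
    (hc : IsLimit c) {i₀ : I} {P P' : Over S} (k : P ⟶ P') [IsAffineHom k.left] [CompactSpace P'.left]
    [QuasiSeparatedSpace P'.left] [hl : LocallyOfFiniteType P'.hom] (x' : (yon S).obj P' ⟶ D.obj i₀)
    (a : (yon S).obj P ⟶ c.pt) (ha : RepWith @Etale a) (hx : (yon S).map k ≫ x' = a ≫ c.π.app i₀) :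
    ∃ (j : I) (W : Over S) (w : (yon S).obj W ⟶ D.obj j) (m : P ⟶ W) (r : W ⟶ P'), RepWith @Etale w ∧
      IsPullback a ((yon S).map m) (c.π.app j) w ∧ m ≫ r = k ∧ IsAffineHom r.left := by
  have hDr : ∀ (i j : I) (φ : i ⟶ j), RepWith @IsAffineHom (D.map φ) := fun i j φ =>
    K597.Affine.repWith_of_isAffineMor (hDa i j φ)
  let s : K600.LimSys.Sys D i₀ x' := K600.LimSys.Sys.ofRep (fun i j φ => (hDr i j φ).1) x'
  have hπ := K600.LimAff.isAffineMor_π hDa hc i₀
  have hπ' := K597.Affine.repWith_of_isAffineMor hπ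
  have hcA : IsAlgSpace c.pt := K600.LimSpace.isAlgSpace_of_isAffineMor hπ (hD i₀).alg
  obtain ⟨H, h, z, sqH⟩ := hπ'.1 x'
  have hh : IsAffineHom h.left := hπ'.2 x' z h sqH
  -- the map to `H`
  obtain ⟨m, hm⟩ := (yon S).map_surjective (sqH.lift a ((yon S).map k) hx.symm)
  have hm1 : (yon S).map m ≫ z = a := by rw [hm, sqH.lift_fst]
  have hm2 : m ≫ h = k := (yon S).map_injective (by rw [Functor.map_comp, hm, sqH.lift_snd])
  have hma : IsAffineHom m.left := by
    have h1 : IsAffineHom (m.left ≫ h.left) := by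
      rw [← Over.comp_left, hm2]; infer_instance
    exact IsAffineHom.of_comp m.left h.left
  -- finiteness
  have hx'l : LocP @LocallyOfFinitePresentation x' :=
    lfp_of_str (IsAlgSpace.yon_obj _) (hD i₀).alg x' ((lft_yon_iff P' _).2 hl) ((hD i₀).lft _)
  have hzl : LocP @LocallyOfFinitePresentation z :=
    K597.locP_bc K597.etLoc_lfp sqH.flip (IsAlgSpace.yon_obj _).hasAtlas (hD i₀).alg.hasAtlas hcA.hasAtlas hx'l
  have hal : LocP @Etale a := K597.locP_of_repWith K597.etLoc_etale.precomp ha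
  have hml : LocallyOfFinitePresentation m.left := locP_yon_map
    (lfp_cancel (IsAlgSpace.yon_obj _) (IsAlgSpace.yon_obj _) hcA (by rw [hm1]; exact lfp_of_etale hal) (lft_of_lfp hzl))
  -- descend `P ⟶ H` to a stage
  have hsn : ∀ j, IsAffineHom (s.snd j).left := fun j => (hDr _ _ j.hom).2 _ _ _ (s.sq j)
  have i1 : ∀ (j k : Over i₀) (f : j ⟶ k), IsAffineHom ((s.W ⋙ Over.forget S).map f) := fun j k f =>
    s.isAffineHom_map hDr f
  have i2 : ∀ j, CompactSpace ((s.W ⋙ Over.forget S).obj j) := fun j => by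
    have := hsn j
    exact QuasiCompact.compactSpace_of_compactSpace (s.snd j).left
  have i3 : ∀ j, QuasiSeparatedSpace ((s.W ⋙ Over.forget S).obj j) := fun j => by
    have := hsn j
    exact quasiSeparatedSpace_of_quasiSeparated (s.snd j).left
  obtain ⟨j, Xj, fj, g, hj1, hj2, hj3, sqj⟩ := Groth.Agent.S0591.result (s.W ⋙ Over.forget S)
    ((Over.forget S).mapCone (s.cone sqH)) (s.isLimitConeLeft sqH hc) P.left m.left
  let W₀ : Over S := Over.mk (fj ≫ (s.obj j).hom)
  let F : W₀ ⟶ s.obj j := Over.homMk fj rfl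
  have ew : g ≫ fj = m.left ≫ (s.proj sqH j).left := sqj.w
  let G : P ⟶ W₀ := Over.homMk g (by
    change g ≫ fj ≫ (s.obj j).hom = P.hom
    rw [← Category.assoc, ew, Category.assoc, Over.w, Over.w])
  have sqG : IsPullback G m F (s.proj sqH j) := IsPullback.of_map (Over.forget S) (Over.OverMorphism.ext ew) sqj
  have sqBig : IsPullback a ((yon S).map G) (c.π.app j.left) ((yon S).map F ≫ s.fst j) := by
    have := (sqG.map (yon S)).flip.paste_horiz (s.isPullback_proj sqH j)
    rwa [hm1] at this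
  -- properties
  have hW₀c : CompactSpace W₀.left := QuasiCompact.compactSpace_of_compactSpace fj
  have hW₀s : QuasiSeparatedSpace W₀.left := quasiSeparatedSpace_of_quasiSeparated fj
  have hqsy : ∀ T : Over S, QuasiSeparatedSpace T.left → IsQuasiSeparatedSp ((yon S).obj T) := fun T hT => by
    refine (repWith_diag_yon_iff _ _).2 ?_
    have : QuasiSeparated T.hom := inferInstance
    exact QuasiSeparated.quasiCompact_diagonal
  have hFl : LocP @LocallyOfFinitePresentation ((yon S).map F) :=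
    K597.locP_of_repWith K597.etLoc_lfp.precomp ((repWith_yon_map_iff _ _).2 hj1)
  have hsl : LocP @LocallyOfFinitePresentation (s.fst j) :=
    K597.locP_bc K597.etLoc_lfp (s.sq j).flip (IsAlgSpace.yon_obj _).hasAtlas (hD i₀).alg.hasAtlas
      (hD j.left).alg.hasAtlas hx'l
  have hwl : LocP @LocallyOfFinitePresentation ((yon S).map F ≫ s.fst j) :=
    K597.locP_comp K597.etLoc_lfp (IsAlgSpace.yon_obj _).hasAtlas (IsAlgSpace.yon_obj _).hasAtlas
      (hD j.left).alg.hasAtlas hFl hsl
  have ev1 := exists_ev_locP hDa hc (IsAlgSpace.yon_obj _) (hD j.left).alg ((yon S).map F ≫ s.fst j)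
    (𝟙 (D.obj j.left)) (K596.QC.isQuasiCompactSp_yon _) (hD j.left).qc (hD j.left).qs IsPullback.of_id_snd sqBig.flip
    K597.etLoc_etale K601.StDesc.stageDesc_etale hwl hal
  have ev2 := K601.RelAff.exists_ev_affine (fun i => (hD i).alg) hDa hc (IsAlgSpace.yon_obj _) (IsAlgSpace.yon_obj _)
    ((yon S).map F) (s.fst j) (K596.QC.isQuasiCompactSp_yon _) (hqsy _ hW₀s)
    (by have : CompactSpace (s.obj j).left := i2 j; exact K596.QC.isQuasiCompactSp_yon (s.obj j)) (hqsy _ (i3 j)) (s.isPullback_proj sqH j).flip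
    (sqG.map (yon S)) (K597.Affine.isAffineMor_of_repWith ((repWith_yon_map_iff _ _).2 hma))
  obtain ⟨i, φ, hA, hB⟩ := exists_common (A := fun i φ => Ev (LocP @Etale) D φ ((yon S).map F ≫ s.fst j) (𝟙 (D.obj j.left)))
    (B := fun i φ => Ev IsAffineMor D φ ((yon S).map F) (s.fst j)) (fun φ ψ h => Ev.mono h ψ) (fun φ ψ h => Ev.mono h ψ)
    ev1 ev2
  -- the stage `i`
  let j' : Over i₀ := Over.mk (φ ≫ j.hom)
  let ψ : j' ⟶ j := Over.homMk φ rfl
  let W : Over S := pullback F (s.W.map ψ)
  have sqW : IsPullback (pullback.fst F (s.W.map ψ)) (pullback.snd F (s.W.map ψ)) F (s.W.map ψ) :=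
    IsPullback.of_hasPullback _ _
  have sqm : IsPullback (s.fst j') ((yon S).map (s.W.map ψ)) (D.map φ) (s.fst j) := s.isPullback_map ψ
  let w : (yon S).obj W ⟶ D.obj i := (yon S).map (pullback.snd F (s.W.map ψ)) ≫ s.fst j'
  have sqw : IsPullback w ((yon S).map (pullback.fst F (s.W.map ψ))) (D.map φ) ((yon S).map F ≫ s.fst j) :=
    (sqW.map (yon S)).flip.paste_horiz sqm
  have hwe : LocP @Etale w := hA i (𝟙 i) _ _ w (D.map φ) (𝟙 _) (by rw [Category.id_comp]; exact IsPullback.of_id_snd)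
    ((yon S).map (pullback.fst F (s.W.map ψ))) sqw.flip
  have hsa : IsAffineMor ((yon S).map (pullback.snd F (s.W.map ψ))) :=
    hB i (𝟙 i) _ _ _ ((yon S).map (s.W.map ψ)) (s.fst j') (by rw [Category.id_comp]; exact sqm.flip)
      ((yon S).map (pullback.fst F (s.W.map ψ))) (sqW.map (yon S))
  have hsa' : IsAffineHom (pullback.snd F (s.W.map ψ)).left :=
    (repWith_yon_map_iff _ _).1 (K597.Affine.repWith_of_isAffineMor hsa)
  let m' : P ⟶ W := pullback.lift G (m ≫ s.proj sqH j') (by
    have h1 : s.proj sqH j' ≫ s.W.map ψ = s.proj sqH j := (s.cone sqH).w ψ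
    rw [Category.assoc, h1, sqG.w])
  have em1 : m' ≫ pullback.fst F (s.W.map ψ) = G := pullback.lift_fst _ _ _
  have em2 : m' ≫ pullback.snd F (s.W.map ψ) = m ≫ s.proj sqH j' := pullback.lift_snd _ _ _
  refine ⟨i, W, w, m', pullback.snd F (s.W.map ψ) ≫ s.snd j', ?_, ?_, ?_, ?_⟩
  · exact K597.repWith_of_locP K597.etLoc_etale (hD i).alg.hasAtlas ((hD i).alg.representable_from_yon _) hwe
  · refine IsPullback.of_bot ?_ ?_ sqw
    · rw [← Functor.map_comp, em1, c.w]
      exact sqBig
    · change _ = (yon S).map m' ≫ (yon S).map (pullback.snd F (s.W.map ψ)) ≫ s.fst j'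
      rw [← Category.assoc, ← Functor.map_comp, em2, Functor.map_comp, Category.assoc, s.proj_fst, ← Category.assoc,
        hm1]
      rfl
  · rw [← Category.assoc, em2, Category.assoc, s.proj_snd, hm2]
  · have := hsn j'
    rw [Over.comp_left]
    infer_instance

end K602.EtStep
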