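import Groth.Agent.AlgSp.K597.Affine
import Groth.Agent.AlgSp.K609.Points

/-!
# Affineness is local for jointly surjective etale families
-/

set_option autoImplicit false
set_option backward.isDefEq.respectTransparency false
set_option backward.isDefEq.respectTransparency.types false
universe u
open CategoryTheory CategoryTheory.Limits AlgebraicGeometry Opposite AlgSp

namespace K602.FamAff

open K594.Elem K594.Cover K597.FibF K597.EffDesc K597.Affine

variable {S : Scheme.{u}} {F G : Sp S} {f : F ⟶ G}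

/-- A section lifts etale locally near a point whose class comes from the source. -/
theorem exists_local_lift {G₀ : Sp S} {p : G₀ ⟶ G} (hp : RepWith @Etale p) (U : Over S) (y : G.obj.obj (op U))
    (t : U.left) (ht : Points.ofPt (secEquiv.symm y) t ∈ Set.range (Points.map p)) :
    ∃ (V : Over S) (v : V ⟶ U) (y₀ : G₀.obj.obj (op V)), IsAffine V.left ∧ Etale v.left ∧
      t ∈ Set.range v.left ∧ p.hom.app (op V) y₀ = G.obj.map v.op y := by
  obtain ⟨x, hx⟩ := ht
  obtain ⟨T, c, fst, sq⟩ := hp.1 (secEquiv.symm y)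
  have hc : Etale c.left := hp.2 _ _ _ sq
  have hT := isRep_of_isPullback sq
  rw [Equiv.apply_symm_apply] at hT
  obtain ⟨z, -, hz⟩ := K609.Points.exists_of_isPullback sq x (Points.ofScheme U t) (by
    rw [hx, Points.ofPt_eq_map_ofScheme])
  obtain ⟨t', rfl⟩ := K609.Points.ofScheme_surjective _ z
  rw [K609.Points.map_yon_map_ofScheme] at hz
  have ht' : c.left t' = t := K609.Points.ofScheme_injective _ hz
  obtain ⟨V, v, hV, hv, ⟨s, hs⟩, -⟩ := exists_affine_nhd T ⊤ t' trivial
  refine ⟨V, v ≫ c, G₀.obj.map v.op (secEquiv fst), hV, ?_, ⟨s, ?_⟩, ?_⟩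
  · rw [Over.comp_left]
    infer_instance
  · rw [Over.comp_left, Scheme.Hom.comp_apply, hs, ht']
  · rw [app_map, hT.w, ← map_comp_apply]

/-- Affineness descends along a jointly surjective family of etale maps. -/
theorem isAffineMor_of_family {κ : Type*} {F' G' : κ → Sp S} {g : ∀ k, G' k ⟶ G} {g' : ∀ k, F' k ⟶ F}
    {f' : ∀ k, F' k ⟶ G' k} (sq : ∀ k, IsPullback (g' k) (f' k) f (g k)) (hg : ∀ k, RepWith @Etale (g k))
    (hs : ∀ x : Points G, ∃ k, x ∈ Set.range (Points.map (g k))) (h : ∀ k, IsAffineMor (f' k)) : IsAffineMor f := by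
  have := descendsAlong_isAffineHom.{u}
  refine isAffineMor_of_repWith (repWith_of_etale_local _ fun U y t => ?_)
  obtain ⟨k, hk⟩ := hs (Points.ofPt (secEquiv.symm y) t)
  obtain ⟨V, v, y₀, hV, hv, ht, hy⟩ := exists_local_lift (hg k) U y t hk
  obtain ⟨W, w, ξ, h', hW⟩ := exists_isRep_of_isAffineMor (h k) hV y₀
  have h2 := isRep_of_bc (sq k) h'
  rw [hy] at h2
  exact ⟨V, v, W, w, _, hv, ht, h2, isAffineHom_of_isAffine _ hW hV,
    fun O hO => isQuasiAffine_open O hO⟩

end K602.FamAff
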