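import Groth.Prelude.Def_AlgSp4
import Mathlib.AlgebraicGeometry.AffineTransitionLimit

/-!
# Points of schemes over cofiltered limits of affine schemes
-/

set_option autoImplicit false
universe u
open CategoryTheory CategoryTheory.Limits AlgebraicGeometry Opposite

namespace K602.LimPts

variable {S : Scheme.{u}}

section
variable {I : Type u} [SmallCategory I] [IsCofiltered I] (D : I ⥤ Over S) (c : Cone D)
  (hc : IsLimit ((Over.forget S).mapCone c)) (hD : ∀ i, IsAffine (D.obj i).left)

/-- The structure maps to one stage. -/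
def toStage (i : I) : (Over.forget i ⋙ D ⋙ Over.forget S) ⟶ (Functor.const (Over i)).obj (D.obj i).left where
  app k := (D.map k.hom).left
  naturality k l f := by
    have h := Over.w f
    dsimp
    rw [Category.comp_id, ← Over.comp_left, ← D.map_comp, h]

include hc hD in
/-- A lift of the projection `c.pt ⟶ D i` to a scheme locally of finite presentation over `D i` comes from a
later stage. -/
theorem exists_lift {i : I} {Q : Over S} (q : Q ⟶ D.obj i) [LocallyOfFinitePresentation q.left]
    (m : c.pt ⟶ Q) (hm : m ≫ q = c.π.app i) :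
    ∃ (j : I) (φ : j ⟶ i) (m' : D.obj j ⟶ Q), c.π.app j ≫ m' = m ∧ m' ≫ q = D.map φ := by
  have hc' : IsLimit (((Over.forget S).mapCone c).whisker (Over.forget i)) :=
    (Functor.Initial.isLimitWhiskerEquiv (Over.forget i) _).symm hc
  have h1 : ∀ k, IsAffine ((Over.forget i ⋙ D ⋙ Over.forget S).obj k) := fun k => hD k.left
  have h2 : ∀ k, CompactSpace ((Over.forget i ⋙ D ⋙ Over.forget S).obj k) := fun k => inferInstance
  have h3 : ∀ k, QuasiSeparatedSpace ((Over.forget i ⋙ D ⋙ Over.forget S).obj k) := fun k => inferInstance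
  have h4 : ∀ {k l : Over i} (f : k ⟶ l), IsAffineHom ((Over.forget i ⋙ D ⋙ Over.forget S).map f) :=
    fun f => inferInstance
  obtain ⟨k, g, hg, hg'⟩ := Scheme.exists_π_app_comp_eq_of_locallyOfFinitePresentation
    (Over.forget i ⋙ D ⋙ Over.forget S) (toStage D i) q.left _ hc' m.left (by
      ext k : 2
      change (c.π.app k.left ≫ D.map k.hom).left = (m ≫ q).left
      rw [c.w, hm])
  have hw : g ≫ Q.hom = (D.obj k.left).hom := by
    have e1 : q.left ≫ (D.obj i).hom = Q.hom := Over.w q
    rw [← e1, ← Category.assoc, hg']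
    exact Over.w (D.map k.hom)
  refine ⟨k.left, k.hom, Over.homMk g hw, ?_, ?_⟩
  · ext1
    exact hg
  · ext1
    exact hg'

include hc hD in
/-- Two maps from a stage to a scheme locally of finite type over the stage which agree on the limit agree at a
later stage. -/
theorem exists_eq {i : I} {Q R : Over S} (q : Q ⟶ R) [LocallyOfFiniteType q.left]
    (a b : D.obj i ⟶ Q) (hab : a ≫ q = b ≫ q) (h : c.π.app i ≫ a = c.π.app i ≫ b) :
    ∃ (j : I) (φ : j ⟶ i), D.map φ ≫ a = D.map φ ≫ b := by
  have hc' : IsLimit (((Over.forget S).mapCone c).whisker (Over.forget i)) :=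
    (Functor.Initial.isLimitWhiskerEquiv (Over.forget i) _).symm hc
  have h1 : ∀ k, IsAffine ((Over.forget i ⋙ D ⋙ Over.forget S).obj k) := fun k => hD k.left
  have h2 : ∀ k, CompactSpace ((Over.forget i ⋙ D ⋙ Over.forget S).obj k) := fun k => inferInstance
  have h3 : ∀ k, QuasiSeparatedSpace ((Over.forget i ⋙ D ⋙ Over.forget S).obj k) := fun k => inferInstance
  have h4 : ∀ {k l : Over i} (f : k ⟶ l), IsAffineHom ((Over.forget i ⋙ D ⋙ Over.forget S).map f) :=
    fun f => inferInstance
  let t : (Over.forget i ⋙ D ⋙ Over.forget S) ⟶ (Functor.const (Over i)).obj R.left :=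
    { app := fun k => (D.map k.hom ≫ a ≫ q).left
      naturality := fun k l f => by
        have h := Over.w f
        dsimp
        rw [Category.comp_id, ← Over.comp_left, ← Over.comp_left, ← Over.comp_left, ← Over.comp_left,
          ← Category.assoc, ← D.map_comp, h] }
  obtain ⟨k, hk, heq⟩ := Scheme.exists_hom_comp_eq_comp_of_locallyOfFiniteType
    (Over.forget i ⋙ D ⋙ Over.forget S) t q.left _ hc' (i := Over.mk (𝟙 i)) a.left b.left
    (by
      dsimp [t]
      rw [D.map_id, Over.id_left, Category.id_comp])
    (by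
      dsimp [t]
      rw [D.map_id, Over.id_left, Category.id_comp, ← Over.comp_left, ← Over.comp_left, hab])
    (by
      change (c.π.app i ≫ a).left = (c.π.app i ≫ b).left
      rw [h])
  refine ⟨k.left, hk.left, ?_⟩
  ext1
  exact heq

end

end K602.LimPts
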