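import Groth.Agent.AlgSp.K602.FacLim
import Mathlib.AlgebraicGeometry.Morphisms.Separated
import Mathlib.AlgebraicGeometry.Noetherian

/-!
# A map from a quasi-compact open of an affine scheme to a space of finite presentation over the integers factors
through a finite type model
-/

set_option autoImplicit false
set_option backward.isDefEq.respectTransparency false
universe u
open CategoryTheory CategoryTheory.Limits AlgebraicGeometry Opposite
open AlgSp K605.SqEl K605.LfpLim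

namespace K602.Model

section scheme

theorem basicOpen_appTop {X Y : Scheme.{u}} (f : X ⟶ Y) (r : Γ(Y, ⊤)) :
    X.basicOpen (f.appTop.hom r) = f ⁻¹ᵁ Y.basicOpen r := by
  rw [Scheme.preimage_basicOpen]
  rfl

theorem comp_app {A B C : Scheme.{u}} (k : A ⟶ B) (z : B ⟶ C) (w : A ⟶ C) (e : k ≫ z = w) (r : Γ(C, ⊤)) :
    w.appTop.hom r = k.appTop.hom (z.appTop.hom r) := by
  subst e
  rw [Scheme.Hom.comp_appTop, CommRingCat.hom_comp, RingHom.comp_apply]

theorem exists_open {V V₀ : Scheme.{u}} (π : V ⟶ V₀) {P : Scheme.{u}} (i : P ⟶ V) [IsOpenImmersion i] {ι : Type*}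
    (g₀ : ι → Γ(V₀, ⊤)) (hU : i.opensRange = ⨆ l, V.basicOpen (π.appTop.hom (g₀ l))) :
    ∃ (P₀ : Scheme.{u}) (b₀ : P₀ ⟶ V₀) (q₀ : P ⟶ P₀) (_ : IsOpenImmersion b₀), IsPullback q₀ i b₀ π ∧
      b₀.opensRange = ⨆ l, V₀.basicOpen (g₀ l) := by
  let U : V₀.Opens := ⨆ l, V₀.basicOpen (g₀ l)
  have h1 : π ⁻¹ᵁ U = i.opensRange := by
    rw [hU]
    change π ⁻¹ᵁ (⨆ l, V₀.basicOpen (g₀ l)) = _
    rw [Scheme.Hom.preimage_iSup]
    congr 1
    ext1 l
    rw [basicOpen_appTop]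
  have h2 : Set.range (i ≫ π) ⊆ Set.range U.ι := by
    rintro _ ⟨x, rfl⟩
    rw [Scheme.Opens.range_ι]
    have h3 : i x ∈ i.opensRange := ⟨x, rfl⟩
    rw [← h1] at h3
    rw [Scheme.Hom.comp_apply]
    exact h3
  refine ⟨U, U.ι, IsOpenImmersion.lift U.ι (i ≫ π) h2, inferInstance, ?_, ?_⟩
  · refine IsOpenImmersion.isPullback _ i U.ι π ?_ ?_
    · rw [IsOpenImmersion.lift_fac]
    · rw [Scheme.Opens.opensRange_ι, h1]
  · exact Scheme.Opens.opensRange_ι _

theorem isAffineOpen_basicOpen {V₀ P₀ Z : Scheme.{u}} [IsAffine V₀] (b₀ : P₀ ⟶ V₀) [IsOpenImmersion b₀] {ι : Type*}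
    (g₀ : ι → Γ(V₀, ⊤)) (hb : b₀.opensRange = ⨆ l, V₀.basicOpen (g₀ l)) (z : Z ⟶ P₀) [IsAffineHom z] (l : ι) :
    IsAffineOpen (Z.basicOpen ((z ≫ b₀).appTop.hom (g₀ l))) := by
  rw [basicOpen_appTop, Scheme.Hom.comp_preimage]
  have h1 : IsAffineOpen (b₀ ⁻¹ᵁ V₀.basicOpen (g₀ l)) :=
    ((isAffineOpen_top V₀).basicOpen (g₀ l)).preimage_of_isOpenImmersion _ (by
      rw [hb]; exact le_iSup (fun l => V₀.basicOpen (g₀ l)) l)
  exact h1.preimage z

theorem iSup_basicOpen {V₀ P₀ Z : Scheme.{u}} (b₀ : P₀ ⟶ V₀) [IsOpenImmersion b₀] {ι : Type*}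
    (g₀ : ι → Γ(V₀, ⊤)) (hb : b₀.opensRange = ⨆ l, V₀.basicOpen (g₀ l)) (z : Z ⟶ P₀) :
    ⨆ l, Z.basicOpen ((z ≫ b₀).appTop.hom (g₀ l)) = ⊤ := by
  have h1 : ∀ l, Z.basicOpen ((z ≫ b₀).appTop.hom (g₀ l)) = (z ≫ b₀) ⁻¹ᵁ V₀.basicOpen (g₀ l) := fun l =>
    basicOpen_appTop _ _
  simp only [h1]
  rw [← Scheme.Hom.preimage_iSup, ← hb, Scheme.Hom.comp_preimage]
  ext x
  simp

end scheme

variable {S : Scheme.{u}}

/-- the functions at a stage -/
noncomputable def g₀ (hS : IsTerminal S) (V : Over S) [IsAffine V.left] {ι : Type*} (g : ι → Γ(V.left, ⊤))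
    (C : (FGSub.L Γ(V.left, ⊤) g)ᵒᵖ) (l : ι) : Γ(((FGSub.D hS V g).obj C).left, ⊤) :=
  (Scheme.ΓSpecIso (CommRingCat.of C.unop.1)).inv.hom ⟨g l, C.unop.2.2 l⟩

theorem appTop_isoSpec_comp {V : Scheme.{u}} [IsAffine V] {C : CommRingCat.{u}} (φ : C ⟶ Γ(V, ⊤)) (x : C) :
    (V.isoSpec.hom ≫ Spec.map φ).appTop.hom ((Scheme.ΓSpecIso C).inv.hom x) = φ.hom x := by
  have h1 : (V.isoSpec.hom ≫ Spec.map φ).appTop = (Scheme.ΓSpecIso C).hom ≫ φ := by
    rw [Scheme.Hom.comp_appTop, Scheme.isoSpec_hom, Scheme.toSpecΓ_appTop, Scheme.ΓSpecIso_naturality]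
  have h2 : (Scheme.ΓSpecIso C).hom.hom ((Scheme.ΓSpecIso C).inv.hom x) = x := by
    rw [← RingHom.comp_apply, ← CommRingCat.hom_comp, Iso.inv_hom_id]
    rfl
  rw [h1, CommRingCat.hom_comp, RingHom.comp_apply, h2]

theorem π_g₀ (hS : IsTerminal S) (V : Over S) [IsAffine V.left] {ι : Type*} (g : ι → Γ(V.left, ⊤))
    (C : (FGSub.L Γ(V.left, ⊤) g)ᵒᵖ) (l : ι) :
    ((FGSub.π hS V g).app C).left.appTop.hom (g₀ hS V g C l) = g l :=
  appTop_isoSpec_comp (CommRingCat.ofHom C.unop.1.subtype) ⟨g l, C.unop.2.2 l⟩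

instance isAffine_D (hS : IsTerminal S) (V : Over S) [IsAffine V.left] {ι : Type*} (g : ι → Γ(V.left, ⊤))
    (C : (FGSub.L Γ(V.left, ⊤) g)ᵒᵖ) : IsAffine ((FGSub.D hS V g).obj C).left :=
  inferInstanceAs (IsAffine (Spec (CommRingCat.of C.unop.1)))

theorem lft_D (hS : IsTerminal S) (V : Over S) [IsAffine V.left] {ι : Type*} (g : ι → Γ(V.left, ⊤))
    (C : (FGSub.L Γ(V.left, ⊤) g)ᵒᵖ) : LocallyOfFiniteType ((FGSub.D hS V g).obj C).hom := by
  rw [FitOpen.lft_iff hS]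
  exact Groth.Agent.Smoothlim.FTZ.locallyOfFiniteType_Spec _ (FGSub.finiteType _ _ C.unop)

theorem exists_basic {V P : Scheme.{u}} [IsAffine V] (i : P ⟶ V) [IsOpenImmersion i] [CompactSpace P] :
    ∃ (ι : Type u) (_ : Finite ι) (g : ι → Γ(V, ⊤)), i.opensRange = ⨆ l, V.basicOpen (g l) := by
  obtain ⟨s, hs, h⟩ := isCompact_and_isOpen_iff_finite_and_eq_biUnion_basicOpen.1
    ⟨isCompact_range i.continuous, i.opensRange.isOpen⟩
  refine ⟨s, hs, Subtype.val, ?_⟩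
  ext1
  change Set.range i = _
  rw [h]
  simp

variable [QuasiSeparatedSpace S]

theorem exists_model_map (hS : IsTerminal S) {X Y : Sp S} {f : X ⟶ Y} (hf : AffEl f) (hY : IsTerminal Y)
    (V : Over S) [IsAffine V.left] {P : Over S} (i : P ⟶ V) [IsOpenImmersion i.left] [CompactSpace P.left]
    (x : (yon S).obj P ⟶ X) :
    ∃ (P' : Over S) (k : P ⟶ P') (x' : (yon S).obj P' ⟶ X) (ι : Type u) (_ : Finite ι) (g : ι → Γ(V.left, ⊤))
      (u : ι → Γ(P'.left, ⊤)), (yon S).map k ≫ x' = x ∧ LocallyOfFiniteType P'.hom ∧ CompactSpace P'.left ∧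
      QuasiSeparatedSpace P'.left ∧ IsAffineHom k.left ∧
      (∀ l, i.left.appTop.hom (g l) = k.left.appTop.hom (u l)) ∧ (∀ l, IsAffineOpen (P'.left.basicOpen (u l))) ∧
      (⨆ l, P'.left.basicOpen (u l) = ⊤) ∧ (∀ l, V.left.basicOpen (g l) ≤ i.left.opensRange) := by
  obtain ⟨ι, _, g, hg⟩ := exists_basic i.left
  obtain ⟨hc⟩ := FGSub.nonempty_isLimit hS V g
  let D := FGSub.D hS V g
  let c : Cone D := Cone.mk V (FGSub.π hS V g)
  have hcy : IsLimit ((yon S).mapCone c) := isLimitOfPreserves (yon S) hc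
  obtain ⟨C₀⟩ : Nonempty (FGSub.L Γ(V.left, ⊤) g)ᵒᵖ := inferInstance
  obtain ⟨P₀, b₀, q₀, hb₀, sq₀, hr₀⟩ := exists_open (c.π.app C₀).left i.left (g₀ hS V g C₀) (by
    rw [hg]
    congr 1
    ext1 l
    exact congrArg _ (π_g₀ hS V g C₀ l).symm)
  have hlD : LocallyOfFiniteType (D.obj C₀).hom := lft_D hS V g C₀
  have haD : ∀ C, IsAffine (D.obj C).left := fun C => isAffine_D hS V g C
  have hV₀ : IsAffine (D.obj C₀).left := haD C₀
  let G₀ : Over S := Over.mk (b₀ ≫ (D.obj C₀).hom)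
  let B₀ : G₀ ⟶ D.obj C₀ := Over.homMk b₀ rfl
  let Q₀ : P ⟶ G₀ := Over.homMk q₀ (hS.hom_ext _ _)
  have sqO : IsPullback Q₀ i B₀ (c.π.app C₀) :=
    IsPullback.of_map (Over.forget S) (Over.OverMorphism.ext sq₀.w) sq₀
  have hcG : CompactSpace G₀.left := by
    have h1 : IsCompact (b₀.opensRange : Set (D.obj C₀).left) := by
      rw [hr₀, TopologicalSpace.Opens.coe_iSup]
      exact isCompact_iUnion fun l => ((isAffineOpen_top _).basicOpen _).isCompact
    have h2 : CompactSpace b₀.opensRange := isCompact_iff_compactSpace.1 h1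
    exact (IsOpenImmersion.isoOfRangeEq b₀ b₀.opensRange.ι (by simp)).hom.homeomorph.symm.compactSpace
  have hqG : QuasiSeparatedSpace G₀.left := quasiSeparatedSpace_of_quasiSeparated b₀
  have hqG' : IsQuasiSeparatedSp ((yon S).obj G₀) := by
    refine (repWith_diag_yon_iff _ _).2 ?_
    have : QuasiSeparated G₀.hom := inferInstance
    exact QuasiSeparated.quasiCompact_diagonal
  have hDa : ∀ (C C' : (FGSub.L Γ(V.left, ⊤) g)ᵒᵖ) (φ : C ⟶ C'), IsAffineMor ((D ⋙ yon S).map φ) := fun C C' φ => by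
    have := haD C
    have := haD C'
    exact isAffineMor_yon_map (D.map φ)
  obtain ⟨C, φ, H⟩ := FacLim.exists_factor_pb (D := D ⋙ yon S) hf hY (fun C => IsAlgSpace.yon_obj _) hDa hcy C₀
    ((yon S).map B₀) (IsAlgSpace.yon_obj _) (K596.QC.isQuasiCompactSp_yon _) hqG' (sqO.map (yon S)) x
  have hVC : IsAffine (D.obj C).left := haD C
  let P' : Over S := pullback B₀ (D.map φ)
  let k : P ⟶ P' := pullback.lift Q₀ (i ≫ c.π.app C) (by rw [Category.assoc, c.w, sqO.w])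
  obtain ⟨x', hx'⟩ := H ((yon S).obj P') ((yon S).map (pullback.fst B₀ (D.map φ)))
    ((yon S).map (pullback.snd B₀ (D.map φ))) ((IsPullback.of_hasPullback B₀ (D.map φ)).map (yon S))
    ((yon S).map k) (by rw [← Functor.map_comp, pullback.lift_fst]) (by
      change _ = (yon S).map i ≫ (yon S).map (c.π.app C)
      rw [← Functor.map_comp, ← Functor.map_comp, pullback.lift_snd])
  have sqP : IsPullback (pullback.fst B₀ (D.map φ)).left (pullback.snd B₀ (D.map φ)).left B₀.left (D.map φ).left :=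
    (IsPullback.of_hasPullback B₀ (D.map φ)).map (Over.forget S)
  have hφ : IsAffineHom (D.map φ).left := inferInstance
  have hB₀ : IsOpenImmersion B₀.left := hb₀
  have h1 : IsAffineHom (pullback.fst B₀ (D.map φ)).left := MorphismProperty.of_isPullback sqP.flip hφ
  have h2 : IsOpenImmersion (pullback.snd B₀ (D.map φ)).left := MorphismProperty.of_isPullback (P := @IsOpenImmersion) sqP hB₀
  have h3 : IsAffineHom (c.π.app C₀).left :=
    K597.Affine.isAffineHom_of_isAffine (c.π.app C₀).left ‹IsAffine V.left› (haD C₀)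
  have h4 : IsAffineHom Q₀.left := MorphismProperty.of_isPullback sq₀.flip h3
  have e1 : k.left ≫ (pullback.fst B₀ (D.map φ)).left = Q₀.left := by
    rw [← Over.comp_left, pullback.lift_fst]
  have h5 : LocallyOfFiniteType (D.obj C).hom := lft_D hS V g C
  refine ⟨P', k, x', ι, inferInstance, g,
    fun l => ((pullback.fst B₀ (D.map φ)).left ≫ b₀).appTop.hom (g₀ hS V g C₀ l), hx', ?_, ?_, ?_, ?_, ?_, ?_, ?_, ?_⟩
  · have e2 : P'.hom = (pullback.snd B₀ (D.map φ)).left ≫ (D.obj C).hom := (Over.w _).symm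
    rw [e2]
    infer_instance
  · have : QuasiCompact (pullback.fst B₀ (D.map φ)).left := inferInstance
    exact QuasiCompact.compactSpace_of_compactSpace (pullback.fst B₀ (D.map φ)).left
  · exact quasiSeparatedSpace_of_quasiSeparated (pullback.snd B₀ (D.map φ)).left
  · have : IsAffineHom (k.left ≫ (pullback.fst B₀ (D.map φ)).left) := by rw [e1]; exact h4
    exact IsAffineHom.of_comp k.left (pullback.fst B₀ (D.map φ)).left
  · intro l
    have e4 : k.left ≫ (pullback.fst B₀ (D.map φ)).left ≫ b₀ = i.left ≫ (c.π.app C₀).left :=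
      (Category.assoc _ _ _).symm.trans ((congrArg (fun z => z ≫ b₀) e1).trans sq₀.w)
    exact (congrArg (fun z => i.left.appTop.hom z) (π_g₀ hS V g C₀ l).symm).trans
      ((comp_app i.left (c.π.app C₀).left _ rfl (g₀ hS V g C₀ l)).symm.trans
        (comp_app k.left ((pullback.fst B₀ (D.map φ)).left ≫ b₀) _ e4 (g₀ hS V g C₀ l)))
  · exact fun l => isAffineOpen_basicOpen b₀ _ hr₀ _ l
  · exact iSup_basicOpen b₀ _ hr₀ _
  · intro l
    rw [hg]
    exact le_iSup (fun l => V.left.basicOpen (g l)) l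

end K602.Model
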