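import Groth.Agent.AlgSp.K602.Trans

/-!
# The affine morphism `Q C ⟶ T` attached to a stable subring
-/

set_option autoImplicit false
universe u

open CategoryTheory CategoryTheory.Limits AlgebraicGeometry Opposite AlgSp

namespace K602

/-- An affine étale atlas of `T` with the fibre product and an affine étale cover of the fibre product. -/
structure At {S : Scheme.{u}} {T : Sp S} (p : Ch T) where
  etale : RepWith @Etale p.v
  surj : RepWith @Surjective p.v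
  R : Over S
  s : R ⟶ p.V
  t : R ⟶ p.V
  sq : IsPullback ((yon S).map s) ((yon S).map t) p.v p.v
  R' : Over S
  c : R' ⟶ R
  affR' : IsAffine R'.left
  etalec : Etale c.left
  surjc : Surjective c.left

attribute [instance] At.affR' At.etalec At.surjc

namespace At

variable {S : Scheme.{u}} {T : AlgSp.Sp S} {p : Ch T} (A : At p)

instance : Etale A.s.left := A.etale.2 _ _ _ A.sq.flip
instance : Etale A.t.left := A.etale.2 _ _ _ A.sq

/-- The fibre product as a chart. -/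
abbrev r : Ch T := p.pre A.s
abbrev r' : Ch T := A.r.pre A.c

def κs : A.r ⟶ p := p.preHom A.s
def κt : A.r ⟶ p := ⟨A.t, A.sq.w.symm⟩
def κc : A.r' ⟶ A.r := A.r.preHom A.c

instance : Flat A.κs.g.left := inferInstanceAs (Flat A.s.left)
instance : Flat A.κt.g.left := inferInstanceAs (Flat A.t.left)
instance : Etale A.κc.g.left := inferInstanceAs (Etale A.c.left)
instance : Surjective A.κc.g.left := inferInstanceAs (Surjective A.c.left)

/-- The point of the fibre product. -/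
noncomputable def rl {V : Over S} (e u : V ⟶ p.V) (h : (yon S).map e ≫ p.v = (yon S).map u ≫ p.v) : V ⟶ A.R :=
  (yon S).preimage (A.sq.lift _ _ h)

theorem rl_s {V : Over S} (e u : V ⟶ p.V) (h : (yon S).map e ≫ p.v = (yon S).map u ≫ p.v) :
    A.rl e u h ≫ A.s = e := by
  apply (yon S).map_injective
  rw [(yon S).map_comp, rl, (yon S).map_preimage, A.sq.lift_fst]

theorem rl_t {V : Over S} (e u : V ⟶ p.V) (h : (yon S).map e ≫ p.v = (yon S).map u ≫ p.v) :
    A.rl e u h ≫ A.t = u := by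
  apply (yon S).map_injective
  rw [(yon S).map_comp, rl, (yon S).map_preimage, A.sq.lift_snd]

theorem rl_κs {V : Over S} (e u : V ⟶ p.V) (h : (yon S).map e ≫ p.v = (yon S).map u ≫ p.v) :
    A.rl e u h ≫ A.κs.g = e := A.rl_s e u h

theorem rl_κt {V : Over S} (e u : V ⟶ p.V) (h : (yon S).map e ≫ p.v = (yon S).map u ≫ p.v) :
    A.rl e u h ≫ A.κt.g = u := A.rl_t e u h

theorem rl_congr {V : Over S} {e e' u u' : V ⟶ p.V} (he : e = e') (hu : u = u')
    (h : (yon S).map e ≫ p.v = (yon S).map u ≫ p.v) (h' : (yon S).map e' ≫ p.v = (yon S).map u' ≫ p.v) :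
    A.rl e u h = A.rl e' u' h' := by
  subst he; subst hu; rfl

theorem R_ext {V : Over S} {a b : V ⟶ A.R} (h1 : a ≫ A.s = b ≫ A.s) (h2 : a ≫ A.t = b ≫ A.t) : a = b := by
  apply (yon S).map_injective
  apply A.sq.hom_ext
  · rw [← (yon S).map_comp, ← (yon S).map_comp, h1]
  · rw [← (yon S).map_comp, ← (yon S).map_comp, h2]

end At

namespace QC

open Ch K602.Stab K602.Sub K602.SpecC K602.Trans

variable {S : Scheme.{u}} {T X : AlgSp.Sp S} {f : X ⟶ T} {hf : RepWith @IsAffineHom f} {p : Ch T} (A : At p)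

section mv

variable (hf) in
/-- Transport of points of the base change of `X`. -/
noncomputable def mv {V : Over S} (m : V ⟶ W hf p) (u : V ⟶ p.V)
    (h : (yon S).map (m ≫ π hf p) ≫ p.v = (yon S).map u ≫ p.v) : V ⟶ W hf p :=
  hf.1.lift ((yon S).map m ≫ ι hf p) u (by
    rw [← h, (yon S).map_comp, Category.assoc, Category.assoc, (sq hf p).w])

variable {V : Over S} (m : V ⟶ W hf p) (u : V ⟶ p.V)
    (h : (yon S).map (m ≫ π hf p) ≫ p.v = (yon S).map u ≫ p.v)

theorem mv_ι : (yon S).map (mv hf m u h) ≫ ι hf p = (yon S).map m ≫ ι hf p := hf.1.lift_fst _ _ _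
theorem mv_π : mv hf m u h ≫ π hf p = u := hf.1.lift_snd _ _ _

end mv

variable [IsAffine p.V.left] (C : StSub hf p)

noncomputable def ψ : Zc C A.κs ⟶ Z C := (exists_psi C A.κs A.κt A.κc).choose

theorem ψ_ν : ψ A C ≫ ν C = zsnd C A.κs ≫ A.κt.g := (exists_psi C A.κs A.κt A.κc).choose_spec.1
theorem xc_ψ : xc C A.κs ≫ ψ A C = Wmap hf A.κt ≫ xE C := (exists_psi C A.κs A.κt A.κc).choose_spec.2

section tr

variable {V : Over S}

omit [IsAffine p.V.left] in
theorem pre_eq {V V' Z' : Over S} (g : V' ⟶ V) {n : V ⟶ Z'} {ν' : Z' ⟶ p.V} {b : V ⟶ p.V}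
    (h : (yon S).map (n ≫ ν') ≫ p.v = (yon S).map b ≫ p.v) :
    (yon S).map ((g ≫ n) ≫ ν') ≫ p.v = (yon S).map (g ≫ b) ≫ p.v := by
  rw [Category.assoc, (yon S).map_comp, Category.assoc, h, (yon S).map_comp, Category.assoc]

/-- Transport of points of `Spec C`. -/
noncomputable def tr (n : V ⟶ Z C) (u : V ⟶ p.V)
    (h : (yon S).map (n ≫ ν C) ≫ p.v = (yon S).map u ≫ p.v) : V ⟶ Z C :=
  zl C A.κs n (A.rl _ _ h) (A.rl_κs _ _ h).symm ≫ ψ A C

theorem tr_ν (n : V ⟶ Z C) (u : V ⟶ p.V) (h : (yon S).map (n ≫ ν C) ≫ p.v = (yon S).map u ≫ p.v) :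
    tr A C n u h ≫ ν C = u := by
  rw [tr, Category.assoc, ψ_ν, ← Category.assoc, zl_snd, A.rl_κt]

theorem tr_congr {n n' : V ⟶ Z C} (hn : n = n') {u u' : V ⟶ p.V} (hu : u = u')
    (h : (yon S).map (n ≫ ν C) ≫ p.v = (yon S).map u ≫ p.v)
    (h' : (yon S).map (n' ≫ ν C) ≫ p.v = (yon S).map u' ≫ p.v) : tr A C n u h = tr A C n' u' h' := by
  subst hn; subst hu; rfl

theorem tr_nat {V' : Over S} (g : V' ⟶ V) (n : V ⟶ Z C) (u : V ⟶ p.V)
    (h : (yon S).map (n ≫ ν C) ≫ p.v = (yon S).map u ≫ p.v)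
    (h' : (yon S).map ((g ≫ n) ≫ ν C) ≫ p.v = (yon S).map (g ≫ u) ≫ p.v) :
    tr A C (g ≫ n) (g ≫ u) h' = g ≫ tr A C n u h := by
  rw [tr, tr, ← Category.assoc]
  congr 1
  apply Zc_ext
  · rw [zl_fst, Category.assoc, zl_fst]
  · refine (zl_snd C A.κs _ _ _).trans (Eq.trans ?_ (Category.assoc g _ _).symm)
    rw [zl_snd]
    apply A.R_ext
    · refine (A.rl_s _ _ h').trans (Eq.trans ?_ (Category.assoc g _ _).symm)
      rw [A.rl_s, Category.assoc]
    · refine (A.rl_t _ _ h').trans (Eq.trans ?_ (Category.assoc g _ _).symm)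
      rw [A.rl_t]

/-- Transport of the points coming from `X`. -/
theorem tr_xE (m : V ⟶ W hf p) (u : V ⟶ p.V)
    (h : (yon S).map ((m ≫ xE C) ≫ ν C) ≫ p.v = (yon S).map u ≫ p.v)
    (h' : (yon S).map (m ≫ π hf p) ≫ p.v = (yon S).map u ≫ p.v) :
    tr A C (m ≫ xE C) u h = mv hf m u h' ≫ xE C := by
  let mr : V ⟶ W hf A.r := hf.1.lift ((yon S).map m ≫ ι hf p) (A.rl _ _ h') (by
    change _ = _ ≫ (yon S).map A.s ≫ p.v
    rw [← Category.assoc ((yon S).map (A.rl _ _ h')), ← (yon S).map_comp, A.rl_s, (yon S).map_comp, Category.assoc,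
      Category.assoc, (sq hf p).w])
  have h1 : (yon S).map mr ≫ ι hf A.r = (yon S).map m ≫ ι hf p := hf.1.lift_fst _ _ _
  have h2 : mr ≫ π hf A.r = A.rl _ _ h' := hf.1.lift_snd _ _ _
  have h3 : mr ≫ Wmap hf A.κs = m := by
    apply W_ext
    · rw [(yon S).map_comp, Category.assoc, Wmap_ι, h1]
    · rw [Category.assoc, Wmap_π, ← Category.assoc, h2]
      exact A.rl_s _ _ h'
  have h4 : mr ≫ Wmap hf A.κt = mv hf m u h' := by
    apply W_ext
    · rw [(yon S).map_comp, Category.assoc, Wmap_ι, h1, mv_ι]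
    · rw [Category.assoc, Wmap_π, ← Category.assoc, h2, mv_π]
      exact A.rl_t _ _ h'
  rw [← h4, Category.assoc, ← xc_ψ, ← Category.assoc, tr]
  congr 1
  apply Zc_ext
  · rw [zl_fst, Category.assoc, xc_fst, ← Category.assoc, h3]
  · refine (zl_snd C A.κs _ _ _).trans (Eq.trans ?_ (Category.assoc mr _ _).symm)
    rw [xc_snd, h2]
    exact A.rl_congr (by rw [Category.assoc, xE_ν]) rfl _ _

theorem tr_self (n : V ⟶ Z C) (h : (yon S).map (n ≫ ν C) ≫ p.v = (yon S).map (n ≫ ν C) ≫ p.v) :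
    tr A C n (n ≫ ν C) h = n := by
  have h1 : tr A C (𝟙 (Z C)) (ν C) (by rw [Category.id_comp]) = 𝟙 _ := by
    ext1
    refine StdDom.eq_of_std (xE C).left (ν C).left ?_ ?_
    · rw [← Over.comp_left, tr_ν, ← Over.comp_left, Category.id_comp]
    · rw [← Over.comp_left, ← Over.comp_left]
      congr 1
      rw [Category.comp_id, ← tr_nat A C (xE C) (𝟙 _) (ν C) _ (by rw [Category.comp_id])]
      have h2 : (yon S).map (𝟙 _ ≫ π hf p) ≫ p.v = (yon S).map (xE C ≫ ν C) ≫ p.v := by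
        rw [Category.id_comp, xE_ν]
      rw [tr_congr A C (n' := 𝟙 _ ≫ xE C) (by rw [Category.comp_id, Category.id_comp]) rfl _
        (by rw [Category.id_comp]), tr_xE A C (𝟙 _) (xE C ≫ ν C) _ h2]
      have h3 : mv hf (𝟙 _) (xE C ≫ ν C) h2 = 𝟙 _ := by
        apply W_ext
        · rw [mv_ι]
        · rw [mv_π, Category.id_comp, xE_ν]
      rw [h3, Category.id_comp]
  have h2 := tr_nat A C n (𝟙 _) (ν C) (by rw [Category.id_comp]) (by rw [Category.comp_id])
  rw [h1] at h2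
  exact (tr_congr A C (Category.comp_id n).symm rfl _ _).trans (h2.trans (Category.comp_id n))

theorem tr_tr (n : V ⟶ Z C) (u u' : V ⟶ p.V) (h : (yon S).map (n ≫ ν C) ≫ p.v = (yon S).map u ≫ p.v)
    (h' : (yon S).map (tr A C n u h ≫ ν C) ≫ p.v = (yon S).map u' ≫ p.v)
    (h'' : (yon S).map (n ≫ ν C) ≫ p.v = (yon S).map u' ≫ p.v) :
    tr A C (tr A C n u h) u' h' = tr A C n u' h'' := by
  -- the universal case
  let k : Ch T := A.r.pre (pullback.fst A.t A.s)
  let κ : k ⟶ p := A.r.preHom (pullback.fst A.t A.s) ≫ A.κs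
  have hflk : Flat κ.g.left := by
    have h3 : Flat (pullback.fst A.t A.s).left :=
      MorphismProperty.of_isPullback (P := @Flat)
        ((IsPullback.of_hasPullback A.t A.s).map (Over.forget S)).flip (inferInstanceAs (Flat A.s.left))
    change Flat ((pullback.fst A.t A.s).left ≫ A.s.left)
    infer_instance
  let n₀ : Zc C κ ⟶ Z C := zfst C κ
  let u₀ : Zc C κ ⟶ p.V := zsnd C κ ≫ pullback.fst A.t A.s ≫ A.t
  let u₀' : Zc C κ ⟶ p.V := zsnd C κ ≫ pullback.snd A.t A.s ≫ A.t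
  have e₀ : n₀ ≫ ν C = zsnd C κ ≫ pullback.fst A.t A.s ≫ A.s := pullback.condition
  have eu : u₀ = zsnd C κ ≫ pullback.snd A.t A.s ≫ A.s := by
    change zsnd C κ ≫ pullback.fst A.t A.s ≫ A.t = _
    rw [pullback.condition]
  have hst : (yon S).map A.s ≫ p.v = (yon S).map A.t ≫ p.v := A.sq.w
  have h₀ : (yon S).map (n₀ ≫ ν C) ≫ p.v = (yon S).map u₀ ≫ p.v := by
    rw [e₀]
    change _ = (yon S).map (zsnd C κ ≫ pullback.fst A.t A.s ≫ A.t) ≫ p.v
    simp only [(yon S).map_comp, Category.assoc]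
    rw [hst]
  have h₀'' : (yon S).map (n₀ ≫ ν C) ≫ p.v = (yon S).map u₀' ≫ p.v := by
    rw [h₀, eu]
    change _ = (yon S).map (zsnd C κ ≫ pullback.snd A.t A.s ≫ A.t) ≫ p.v
    simp only [(yon S).map_comp, Category.assoc]
    rw [hst]
  have h₀' : (yon S).map (tr A C n₀ u₀ h₀ ≫ ν C) ≫ p.v = (yon S).map u₀' ≫ p.v := by
    rw [tr_ν, ← h₀, h₀'']
  have key : tr A C (tr A C n₀ u₀ h₀) u₀' h₀' = tr A C n₀ u₀' h₀'' := by
    apply eq_of_xc
    · rw [tr_ν, tr_ν]
    · let m₀ : W hf k ⟶ W hf p := Wmap hf κ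
      have hm₀ : xc C κ ≫ n₀ = m₀ ≫ xE C := xc_fst C κ
      have g1 : (yon S).map ((xc C κ ≫ n₀) ≫ ν C) ≫ p.v = (yon S).map (xc C κ ≫ u₀) ≫ p.v := pre_eq _ h₀
      have g2 : (yon S).map ((xc C κ ≫ n₀) ≫ ν C) ≫ p.v = (yon S).map (xc C κ ≫ u₀') ≫ p.v := pre_eq _ h₀''
      have g3 : (yon S).map ((xc C κ ≫ tr A C n₀ u₀ h₀) ≫ ν C) ≫ p.v = (yon S).map (xc C κ ≫ u₀') ≫ p.v :=
        pre_eq _ h₀'
      have f1 : (yon S).map (m₀ ≫ π hf p) ≫ p.v = (yon S).map (xc C κ ≫ u₀) ≫ p.v := by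
        rw [← g1, hm₀, Category.assoc m₀, xE_ν]
      have f2 : (yon S).map (m₀ ≫ π hf p) ≫ p.v = (yon S).map (xc C κ ≫ u₀') ≫ p.v := by
        rw [← g2, hm₀, Category.assoc m₀, xE_ν]
      have f1' : (yon S).map ((m₀ ≫ xE C) ≫ ν C) ≫ p.v = (yon S).map (xc C κ ≫ u₀) ≫ p.v := by
        rw [← hm₀, g1]
      have f2' : (yon S).map ((m₀ ≫ xE C) ≫ ν C) ≫ p.v = (yon S).map (xc C κ ≫ u₀') ≫ p.v := by
        rw [← hm₀, g2]
      have f3 : (yon S).map (mv hf m₀ _ f1 ≫ π hf p) ≫ p.v = (yon S).map (xc C κ ≫ u₀') ≫ p.v := by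
        rw [mv_π, ← f1, f2]
      have f3' : (yon S).map ((mv hf m₀ _ f1 ≫ xE C) ≫ ν C) ≫ p.v = (yon S).map (xc C κ ≫ u₀') ≫ p.v := by
        rw [Category.assoc, xE_ν, f3]
      have t1 : xc C κ ≫ tr A C n₀ u₀ h₀ = mv hf m₀ _ f1 ≫ xE C := by
        rw [← tr_nat A C (xc C κ) n₀ u₀ h₀ g1, tr_congr A C hm₀ rfl g1 f1', tr_xE A C m₀ _ f1' f1]
      rw [← tr_nat A C (xc C κ) _ u₀' h₀' g3, ← tr_nat A C (xc C κ) n₀ u₀' h₀'' g2,
        tr_congr A C t1 rfl g3 f3', tr_xE A C _ _ f3' f3, tr_congr A C hm₀ rfl g2 f2', tr_xE A C m₀ _ f2' f2]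
      congr 1
      apply W_ext
      · rw [mv_ι, mv_ι, mv_ι]
      · rw [mv_π, mv_π]
  -- the general case
  have huu' : (yon S).map u ≫ p.v = (yon S).map u' ≫ p.v := by rw [← h, h'']
  let g : V ⟶ Zc C κ := zl C κ n (pullback.lift (A.rl _ _ h) (A.rl _ _ huu') (by
    rw [A.rl_t, A.rl_s])) (by
      change _ = _ ≫ pullback.fst A.t A.s ≫ A.s
      rw [← Category.assoc, pullback.lift_fst, A.rl_s])
  have hg1 : g ≫ n₀ = n := zl_fst _ _ _ _ _
  have hgs : g ≫ zsnd C κ = pullback.lift (A.rl _ _ h) (A.rl _ _ huu') (by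
    rw [A.rl_t, A.rl_s]) := zl_snd _ _ _ _ _
  have hg2 : g ≫ u₀ = u := by
    change g ≫ zsnd C κ ≫ _ = u
    rw [← Category.assoc, hgs, ← Category.assoc, pullback.lift_fst, A.rl_t]
  have hg3 : g ≫ u₀' = u' := by
    change g ≫ zsnd C κ ≫ _ = u'
    rw [← Category.assoc, hgs, ← Category.assoc, pullback.lift_snd, A.rl_t]
  have w1 : (yon S).map ((g ≫ n₀) ≫ ν C) ≫ p.v = (yon S).map (g ≫ u₀) ≫ p.v := by rw [hg1, hg2]; exact h
  have w2 : (yon S).map ((g ≫ n₀) ≫ ν C) ≫ p.v = (yon S).map (g ≫ u₀') ≫ p.v := by rw [hg1, hg3]; exact h''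
  have w3 : (yon S).map ((g ≫ tr A C n₀ u₀ h₀) ≫ ν C) ≫ p.v = (yon S).map (g ≫ u₀') ≫ p.v := pre_eq _ h₀'
  have t1 : tr A C n u h = g ≫ tr A C n₀ u₀ h₀ := by
    rw [← tr_nat A C g n₀ u₀ h₀ w1]
    exact tr_congr A C hg1.symm hg2.symm _ _
  rw [tr_congr A C t1 hg3.symm h' w3, tr_nat A C g _ u₀' h₀' w3, key, ← tr_nat A C g n₀ u₀' h₀'' w2]
  exact tr_congr A C hg1 hg3 _ _

end tr

section Q

theorem ddcond {V : Over S} {n : (yon S).obj V ⟶ (yon S).obj (Z C)} {u : (yon S).obj V ⟶ (yon S).obj p.V}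
    (h : n ≫ (yon S).map (ν C) ≫ p.v = u ≫ p.v) :
    (yon S).map ((yon S).preimage n ≫ ν C) ≫ p.v = (yon S).map ((yon S).preimage u) ≫ p.v := by
  rw [(yon S).map_comp, (yon S).map_preimage, (yon S).map_preimage, Category.assoc, h]

/-- The descent datum. -/
noncomputable def dd : K615.Glue.DD (X := T) (ι := PUnit.{u + 2}) (fun _ => (yon S).obj p.V) (fun _ => p.v)
    (fun _ => (yon S).obj (Z C)) (fun _ => (yon S).map (ν C)) where
  tr {V} _ _ n u h := (yon S).map (tr A C ((yon S).preimage n) ((yon S).preimage u) (ddcond C h))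
  tr_ν {V} _ _ n u h := by rw [← (yon S).map_comp, tr_ν, (yon S).map_preimage]
  tr_nat {V V'} g _ _ n u h h' := by
    rw [← (yon S).map_comp]
    congr 1
    have e1 : (yon S).preimage ((yon S).map g ≫ n) = g ≫ (yon S).preimage n := by
      apply (yon S).map_injective
      rw [(yon S).map_preimage, (yon S).map_comp, (yon S).map_preimage]
    have e2 : (yon S).preimage ((yon S).map g ≫ u) = g ≫ (yon S).preimage u := by
      apply (yon S).map_injective
      rw [(yon S).map_preimage, (yon S).map_comp, (yon S).map_preimage]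
    rw [← tr_nat A C g _ _ _ (pre_eq g (ddcond C h))]
    exact tr_congr A C e1 e2 _ _
  tr_self {V} _ n u h hn := by
    have e : (yon S).preimage u = (yon S).preimage n ≫ ν C := by
      apply (yon S).map_injective
      rw [(yon S).map_preimage, (yon S).map_comp, (yon S).map_preimage, hn]
    rw [tr_congr A C rfl e _ rfl, tr_self, (yon S).map_preimage]
  tr_tr {V} _ _ _ n u u' h h' h'' := by
    congr 1
    have e : (yon S).preimage ((yon S).map (tr A C ((yon S).preimage n) ((yon S).preimage u) (ddcond C h))) =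
      tr A C ((yon S).preimage n) ((yon S).preimage u) (ddcond C h) := (yon S).preimage_map _
    rw [tr_congr A C e rfl (ddcond C h') (by
      rw [tr_ν, ← ddcond C h, ddcond C h'']), tr_tr]

/-- The space attached to a stable subring. -/
noncomputable def Q : AlgSp.Sp S := K615.Glue.glued (dd A C)

noncomputable def qT : Q A C ⟶ T := K615.Glue.π (dd A C)

noncomputable def zQ : (yon S).obj (Z C) ⟶ Q A C := K615.Glue.m (dd A C) ⟨⟩

theorem sqQ : IsPullback (zQ A C) ((yon S).map (ν C)) (qT A C) p.v := K615.Glue.isPullback (D := dd A C) ⟨⟩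

/-- Transported points have the same image. -/
theorem tr_zQ {V : Over S} (n : V ⟶ Z C) (u : V ⟶ p.V)
    (h : (yon S).map (n ≫ ν C) ≫ p.v = (yon S).map u ≫ p.v) :
    (yon S).map (tr A C n u h) ≫ zQ A C = (yon S).map n ≫ zQ A C := by
  apply K615.Glue.toSec_injective
  have h' : (yon S).map n ≫ (yon S).map (ν C) ≫ p.v = (yon S).map u ≫ p.v := by
    rw [← h, (yon S).map_comp, Category.assoc]
  have e1 : (yon S).map (tr A C n u h) = (dd A C).tr ⟨⟩ ⟨⟩ ((yon S).map n) ((yon S).map u) h' := by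
    change _ = (yon S).map (tr A C ((yon S).preimage ((yon S).map n)) ((yon S).preimage ((yon S).map u)) _)
    congr 1
    exact tr_congr A C ((yon S).preimage_map n).symm ((yon S).preimage_map u).symm _ _
  rw [e1]
  refine (K615.Glue.toSec_m (D := dd A C) ⟨⟩ _).trans (Eq.trans ?_ (K615.Glue.toSec_m (D := dd A C) ⟨⟩ _).symm)
  refine K615.Glue.Sec.ext' ?_ ?_
  · change (dd A C).tr ⟨⟩ ⟨⟩ ((yon S).map n) ((yon S).map u) h' ≫ (yon S).map (ν C) ≫ p.v =
      (yon S).map n ≫ (yon S).map (ν C) ≫ p.v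
    rw [← Category.assoc, (dd A C).tr_ν, h']
  · intro i V' g u' h1 h2
    have h3 : ((yon S).map g ≫ (yon S).map n) ≫ (yon S).map (ν C) ≫ p.v = ((yon S).map g ≫ (yon S).map u) ≫ p.v := by
      rw [Category.assoc, h', Category.assoc]
    have h6 : ((yon S).map g ≫ (dd A C).tr ⟨⟩ ⟨⟩ ((yon S).map n) ((yon S).map u) h') ≫ (yon S).map (ν C) ≫ p.v =
        u' ≫ p.v := by
      rw [Category.assoc]; exact h1.symm
    have h7 : ((yon S).map g ≫ (yon S).map n) ≫ (yon S).map (ν C) ≫ p.v = u' ≫ p.v := by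
      rw [Category.assoc]; exact h2.symm
    change (dd A C).tr ⟨⟩ i ((yon S).map g ≫ (dd A C).tr ⟨⟩ ⟨⟩ ((yon S).map n) ((yon S).map u) h') u' h6 =
      (dd A C).tr ⟨⟩ i ((yon S).map g ≫ (yon S).map n) u' h7
    have e2 := (dd A C).tr_nat g ⟨⟩ ⟨⟩ _ _ h' h3
    have h4 : (dd A C).tr ⟨⟩ ⟨⟩ ((yon S).map g ≫ (yon S).map n) ((yon S).map g ≫ (yon S).map u) h3 ≫
        (yon S).map (ν C) ≫ p.v = u' ≫ p.v := by
      rw [← Category.assoc, (dd A C).tr_ν, Category.assoc, ← h', h2]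
      rfl
    refine (K615.Glue.DD.tr_congr (D := dd A C) (i := ⟨⟩) (j := i) e2.symm rfl h6 h4).trans ?_
    exact (dd A C).tr_tr ⟨⟩ ⟨⟩ i _ _ u' h3 h4 _

end Q

end QC

end K602
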