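import Groth.Agent.AlgSp.K602.QFt
import Groth.Agent.AlgSp.K605.LimImg
import Groth.Agent.AlgSp.K604.Approx3

/-!
# Existence of the data, and the approximation of affine morphisms over a space of finite type over the terminal scheme
-/

set_option autoImplicit false
set_option backward.isDefEq.respectTransparency false
universe u

open CategoryTheory CategoryTheory.Limits AlgebraicGeometry Opposite AlgSp

namespace K602.QDat

open Ch K602.Stab K602.Sub K602.SpecC K602.Trans K602.QC K602.QHom

variable {S : Scheme.{u}} {T : AlgSp.Sp S} {p : Ch T}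

/-- The affine cover of the fibre product covers pairs of charts. -/
theorem covPair (A : At p) [QuasiCompact A.c.left] : CovPair (A.κc ≫ A.κs) (A.κc ≫ A.κt) := by
  intro v' hv' g e
  have h : (yon S).map g.g ≫ p.v = (yon S).map e.g ≫ p.v := by rw [g.w, e.w]
  let r : v'.V ⟶ A.R := A.rl g.g e.g h
  let P : Over S := pullback A.c r
  have sq : IsPullback (pullback.fst A.c r) (pullback.snd A.c r) A.c r := IsPullback.of_hasPullback A.c r
  have sql := sq.map (Over.forget S)
  have h1 : Etale (pullback.snd A.c r).left :=
    MorphismProperty.of_isPullback (P := @Etale) sql (inferInstanceAs (Etale A.c.left))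
  have h2 : Surjective (pullback.snd A.c r).left :=
    MorphismProperty.of_isPullback (P := @Surjective) sql (inferInstanceAs (Surjective A.c.left))
  have h3 : QuasiCompact (pullback.snd A.c r).left :=
    MorphismProperty.of_isPullback (P := @QuasiCompact) sql (inferInstanceAs (QuasiCompact A.c.left))
  have h4 : CompactSpace (pullback A.c r).left := QuasiCompact.compactSpace_of_compactSpace (pullback.snd A.c r).left
  obtain ⟨Y, y, hy1, hy2, hy3⟩ := Scheme.exists_hom_isAffine_of_isZariskiLocalAtSource (P := @Etale)
    (pullback A.c r).left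
  let V : Over S := Over.mk (y ≫ (pullback A.c r).hom)
  let y' : V ⟶ pullback A.c r := Over.homMk y rfl
  let v'' : Ch T := v'.pre (y' ≫ pullback.snd A.c r)
  have hc : (yon S).map (y' ≫ pullback.fst A.c r) ≫ A.r'.v = v''.v := by
    change (yon S).map (y' ≫ pullback.fst A.c r) ≫ (yon S).map A.c ≫ (yon S).map A.s ≫ p.v =
      (yon S).map (y' ≫ pullback.snd A.c r) ≫ v'.v
    have e1 : (y' ≫ pullback.fst A.c r) ≫ A.c ≫ A.s = (y' ≫ pullback.snd A.c r) ≫ g.g := by
      rw [Category.assoc, pullback.condition_assoc, A.rl_s, Category.assoc]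
    have e2 : (yon S).map (y' ≫ pullback.fst A.c r) ≫ (yon S).map A.c ≫ (yon S).map A.s ≫ p.v =
      (yon S).map ((y' ≫ pullback.fst A.c r) ≫ A.c ≫ A.s) ≫ p.v := by
      simp only [(yon S).map_comp, Category.assoc]
    rw [e2, e1, (yon S).map_comp, Category.assoc, g.w]
  refine ⟨v'', hy3, v'.preHom _, ⟨y' ≫ pullback.fst A.c r, hc⟩, ?_, ?_, ?_⟩
  · have i1 : IsAffine v''.V.left := hy3
    have i2 : Etale (v'.preHom (y' ≫ pullback.snd A.c r)).g.left := by
      change Etale (y ≫ (pullback.snd A.c r).left)
      infer_instance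
    have i3 : Surjective (v'.preHom (y' ≫ pullback.snd A.c r)).g.left := by
      change Surjective (y ≫ (pullback.snd A.c r).left)
      infer_instance
    exact (Flat.flat_and_surjective_iff_faithfullyFlat_of_isAffine _).1 ⟨inferInstance, i3⟩
  · apply Ch.hom_ext
    change (y' ≫ pullback.fst A.c r) ≫ A.c ≫ A.s = (y' ≫ pullback.snd A.c r) ≫ g.g
    rw [Category.assoc, pullback.condition_assoc, A.rl_s, Category.assoc]
  · apply Ch.hom_ext
    change (y' ≫ pullback.fst A.c r) ≫ A.c ≫ A.t = (y' ≫ pullback.snd A.c r) ≫ e.g
    rw [Category.assoc, pullback.condition_assoc, A.rl_t, Category.assoc]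

/-- A quasi-separated criterion for the fibre product of charts. -/
theorem quasiSeparatedSpace_of_sq {V R : Over S} [IsAffine V.left] (hS : IsAffine S) {v : (yon S).obj V ⟶ T}
    {s t : R ⟶ V} (sq : IsPullback ((yon S).map s) ((yon S).map t) v v) : QuasiSeparatedSpace R.left := by
  let d : R.left ⟶ pullback V.hom V.hom := pullback.lift s.left t.left (by rw [Over.w, Over.w])
  have hd : Mono d := by
    constructor
    intro Z a b hab
    have h1 : a ≫ s.left = b ≫ s.left := by
      have := congrArg (· ≫ pullback.fst V.hom V.hom) hab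
      simpa only [d, Category.assoc, pullback.lift_fst] using this
    have h2 : a ≫ t.left = b ≫ t.left := by
      have := congrArg (· ≫ pullback.snd V.hom V.hom) hab
      simpa only [d, Category.assoc, pullback.lift_snd] using this
    let a' : Over.mk (a ≫ R.hom) ⟶ R := Over.homMk a rfl
    let b' : Over.mk (a ≫ R.hom) ⟶ R := Over.homMk b (by
      change b ≫ R.hom = a ≫ R.hom
      rw [← Over.w s, ← Category.assoc, ← Category.assoc, h1])
    have h3 : a' = b' := by
      apply (yon S).map_injective
      apply sq.hom_ext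
      · rw [← (yon S).map_comp, ← (yon S).map_comp]
        congr 1
        ext1
        exact h1
      · rw [← (yon S).map_comp, ← (yon S).map_comp]
        congr 1
        ext1
        exact h2
    exact congrArg (fun k => k.left) h3
  exact quasiSeparatedSpace_of_quasiSeparated d

/-- Existence of the data over a quasi-compact quasi-separated space. -/
theorem exists_at (hS : IsAffine S) (hT : IsAlgSpace T) (hTs : IsQuasiSeparatedSp T) [IsAffine p.V.left]
    (he : RepWith @Etale p.v) (hs : RepWith @Surjective p.v) : ∃ (A : At p), QuasiCompact A.c.left := by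
  obtain ⟨R, t, fst, sq⟩ := he.1 p.v
  obtain ⟨s, rfl⟩ := (yon S).map_surjective fst
  have hqc : IsQuasiCompactMor p.v := K596.QC2.isQuasiCompactMor_of_qc_of_qs (IsAlgSpace.yon_obj _) hT p.v
    (K596.QC.isQuasiCompactSp_yon _) hTs
  have hR : CompactSpace R.left := K596.QC.compactSpace_of_isQuasiCompactSp
    (hqc (IsAlgSpace.yon_obj _) (K596.QC.isQuasiCompactSp_yon p.V) _ _ _ sq)
  have hRs := quasiSeparatedSpace_of_sq hS sq
  obtain ⟨Y, y, hy1, hy2, hy3⟩ := Scheme.exists_hom_isAffine_of_isZariskiLocalAtSource (P := @Etale) R.left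
  let R' : Over S := Over.mk (y ≫ R.hom)
  let c : R' ⟶ R := Over.homMk y rfl
  exact ⟨⟨he, hs, R, s, t, sq, R', c, hy3, hy2, hy1⟩, quasiCompact_of_compactSpace y⟩

theorem isNoetherianRing_O [IsLocallyNoetherian S] (h : LocallyOfFiniteType p.V.hom) [IsAffine p.V.left] :
    IsNoetherianRing (O p) := by
  have h1 : IsLocallyNoetherian p.V.left := LocallyOfFiniteType.isLocallyNoetherian p.V.hom
  exact IsLocallyNoetherian.component_noetherian ⟨⊤, isAffineOpen_top p.V.left⟩

end K602.QDat
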