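import Groth.Agent.AlgSp.K602.QLim
import Groth.Agent.AlgSp.K602.FTy
import Groth.Agent.AlgSp.K600.LimAff
import Groth.Agent.AlgSp.K600.LimSpace
import Groth.Agent.AlgSp.K601.RelAff
import Groth.Agent.AlgSp.K596.QC2

/-!
# Affine spaces over a Noetherian algebraic space are limits of affine spaces of finite type
-/

set_option autoImplicit false
set_option backward.isDefEq.respectTransparency false
universe u

open CategoryTheory CategoryTheory.Limits AlgebraicGeometry Opposite AlgSp

namespace K602.QFt

open Ch K602.Stab K602.Sub K602.SpecC K602.Trans K602.QC K602.QHom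

variable {S : Scheme.{u}} {T X : AlgSp.Sp S} {f : X ⟶ T} {hf : RepWith @IsAffineHom f} {p : Ch T}

theorem finiteType_incl {C : StSub hf p} (hC : Sub.FT C) : (incl C).hom.FiniteType := by
  obtain ⟨F, hF, hCF⟩ := hC
  let := (β hf p).hom.toAlgebra
  let C' : Subalgebra (O p) (B hf p) := { C.C with algebraMap_mem' := C.β_mem }
  have h1 : C' = Algebra.adjoin (O p) F := by
    apply Subalgebra.toSubring_injective
    rw [Algebra.adjoin_eq_ring_closure]
    exact hCF
  have h2 : C'.FG := by
    rw [h1]
    exact ⟨hF.toFinset, by rw [Set.Finite.coe_toFinset]⟩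
  have h3 : Algebra.FiniteType (O p) C' := Subalgebra.fg_iff_finiteType _ |>.1 h2
  exact h3

variable [IsAffine p.V.left]

theorem lft_ν {C : StSub hf p} (hC : Sub.FT C) : LocallyOfFiniteType (ν C).left := by
  have h1 : LocallyOfFiniteType (Spec.map (incl C)) :=
    (HasRingHomProperty.Spec_iff (P := @LocallyOfFiniteType)).2 (finiteType_incl hC)
  change LocallyOfFiniteType (Spec.map (incl C) ≫ p.V.left.isoSpec.inv)
  infer_instance

theorem lfp_ν [IsNoetherianRing (O p)] {C : StSub hf p} (hC : Sub.FT C) :
    LocallyOfFinitePresentation (ν C).left := by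
  have h0 : (incl C).hom.FinitePresentation := by
    have := finiteType_incl hC
    exact RingHom.FinitePresentation.of_finiteType.1 this
  have h1 : LocallyOfFinitePresentation (Spec.map (incl C)) :=
    (HasRingHomProperty.Spec_iff (P := @LocallyOfFinitePresentation)).2 h0
  change LocallyOfFinitePresentation (Spec.map (incl C) ≫ p.V.left.isoSpec.inv)
  infer_instance

variable (A : At p)

theorem alg_Q (hT : IsAlgSpace T) (C : StSub hf p) : IsAlgSpace (Q A C) :=
  K600.LimSpace.isAlgSpace_of_isAffineMor (affine_qT A C) hT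

theorem lfp_qT (hT : IsAlgSpace T) [IsNoetherianRing (O p)] {C : StSub hf p} (hC : Sub.FT C) :
    LocP @LocallyOfFinitePresentation (qT A C) := by
  refine K597.locP_of_target K597.etLoc_lfp (sqQ A C) (alg_Q A hT C).hasAtlas (IsAlgSpace.yon_obj _).hasAtlas
    A.etale A.surj ?_
  rw [K597.locP_iff_repWith K597.etLoc_lfp (IsAlgSpace.yon_obj _).hasAtlas
    ((IsAlgSpace.yon_obj _).representable_from_yon _), repWith_yon_map_iff]
  exact lfp_ν hC

end K602.QFt
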