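import Groth.Agent.AlgSp.K602.QC
import Groth.Agent.AlgSp.K597.Affine
import Groth.Agent.AlgSp.K597.EtLoc
import Groth.Agent.AlgSp.K597.LocP

/-!
# Morphisms to `Q C`
-/

set_option autoImplicit false
set_option backward.isDefEq.respectTransparency false
universe u

open CategoryTheory CategoryTheory.Limits AlgebraicGeometry Opposite AlgSp

namespace K602.QHom

open Ch K602.Stab K602.Sub K602.SpecC K602.Trans K602.QC

variable {S : Scheme.{u}} {T X : AlgSp.Sp S} {f : X ⟶ T} {hf : RepWith @IsAffineHom f} {p : Ch T} (A : At p)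
  [IsAffine p.V.left] (C : StSub hf p)

theorem etale_zQ : RepWith @Etale (zQ A C) :=
  (repWith_isStableUnderBaseChange (S := S) @Etale).of_isPullback (sqQ A C).flip A.etale

theorem surj_zQ : RepWith @Surjective (zQ A C) :=
  (repWith_isStableUnderBaseChange (S := S) @Surjective).of_isPullback (sqQ A C).flip A.surj

theorem jsurj_zQ : K615.Pt.JSurj (fun _ : PUnit.{1} => (yon S).obj (Z C)) (fun _ => zQ A C) :=
  jsurj_of_etale _ (etale_zQ A C) (surj_zQ A C)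

theorem affine_ν : IsAffineMor ((yon S).map (ν C)) :=
  K597.Affine.isAffineMor_of_repWith ((repWith_yon_map_iff _ _).2 (inferInstanceAs (IsAffineHom (ν C).left)))

theorem affine_qT : IsAffineMor (qT A C) :=
  K597.Affine.isAffineMor_of_cover (sqQ A C) A.etale A.surj (affine_ν C)

theorem zQ_qT : zQ A C ≫ qT A C = (yon S).map (ν C) ≫ p.v := (sqQ A C).w

/-- Two points of `Spec C` with the same image in `Q C` are transports of each other. -/
theorem eq_tr {V : Over S} (n n' : V ⟶ Z C) (h : (yon S).map n ≫ zQ A C = (yon S).map n' ≫ zQ A C)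
    (h' : (yon S).map (n ≫ ν C) ≫ p.v = (yon S).map (n' ≫ ν C) ≫ p.v) : tr A C n (n' ≫ ν C) h' = n' := by
  apply (yon S).map_injective
  apply (sqQ A C).hom_ext
  · rw [tr_zQ, h]
  · rw [← (yon S).map_comp, tr_ν, (yon S).map_comp]

/-- The general construction of morphisms to `Q C`. -/
theorem exists_hom {F : AlgSp.Sp S} {h : F ⟶ T} {W' : Over S} {a : (yon S).obj W' ⟶ F} {b : W' ⟶ p.V}
    (sqF : IsPullback a ((yon S).map b) h p.v) (k : W' ⟶ Z C) (hk : k ≫ ν C = b)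
    (hc : ∀ (V : Over S) (m m' : V ⟶ W') (_ : (yon S).map m ≫ a = (yon S).map m' ≫ a)
      (h1 : (yon S).map ((m ≫ k) ≫ ν C) ≫ p.v = (yon S).map (m' ≫ b) ≫ p.v),
      tr A C (m ≫ k) (m' ≫ b) h1 = m' ≫ k) :
    ∃ g : F ⟶ Q A C, a ≫ g = (yon S).map k ≫ zQ A C ∧ g ≫ qT A C = h ∧
      IsPullback a ((yon S).map k) g (zQ A C) := by
  have hj : K615.Pt.JSurj (fun _ : PUnit.{1} => (yon S).obj W') (fun _ => a) :=
    jsurj_of_etale _ ((repWith_isStableUnderBaseChange (S := S) @Etale).of_isPullback sqF.flip A.etale)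
      ((repWith_isStableUnderBaseChange (S := S) @Surjective).of_isPullback sqF.flip A.surj)
  obtain ⟨g, hg⟩ := hj.exists_desc (fun _ => (yon S).map k ≫ zQ A C) (by
    rintro V _ _ y y' hyy
    obtain ⟨m, rfl⟩ := (yon S).map_surjective y
    obtain ⟨m', rfl⟩ := (yon S).map_surjective y'
    have e1 : (yon S).map (m ≫ b) ≫ p.v = (yon S).map (m' ≫ b) ≫ p.v := by
      rw [(yon S).map_comp, (yon S).map_comp, Category.assoc, Category.assoc, ← sqF.w, ← Category.assoc,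
        ← Category.assoc, hyy]
    have e2 : (yon S).map ((m ≫ k) ≫ ν C) ≫ p.v = (yon S).map (m' ≫ b) ≫ p.v := by
      rw [Category.assoc, hk, e1]
    have e3 := hc V m m' hyy e2
    have e4 := tr_zQ A C (m ≫ k) (m' ≫ b) e2
    rw [e3] at e4
    rw [← Category.assoc, ← Category.assoc, ← (yon S).map_comp, ← (yon S).map_comp]
    exact e4.symm)
  have hg' : a ≫ g = (yon S).map k ≫ zQ A C := hg ⟨⟩
  have hT : g ≫ qT A C = h := by
    refine hj.ext fun _ => ?_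
    rw [← Category.assoc, hg', Category.assoc, zQ_qT, ← Category.assoc, ← (yon S).map_comp, hk, sqF.w]
  refine ⟨g, hg', hT, ?_⟩
  refine IsPullback.of_bot (h₃₁ := p.v) (v₂₁ := (yon S).map (ν C)) (v₂₂ := qT A C) ?_ hg' (sqQ A C)
  rw [hT, ← (yon S).map_comp, hk]
  exact sqF

section X

omit [IsAffine p.V.left] in
/-- Transports of points of the base change of `X`. -/
theorem eq_mv {V : Over S} (m m' : V ⟶ W hf p) (h : (yon S).map m ≫ ι hf p = (yon S).map m' ≫ ι hf p)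
    (h' : (yon S).map (m ≫ π hf p) ≫ p.v = (yon S).map (m' ≫ π hf p) ≫ p.v) :
    mv hf m (m' ≫ π hf p) h' = m' := by
  apply W_ext
  · rw [mv_ι, h]
  · rw [mv_π]

theorem exists_xQ : ∃ g : X ⟶ Q A C, ι hf p ≫ g = (yon S).map (xE C) ≫ zQ A C ∧ g ≫ qT A C = f ∧
    IsPullback (ι hf p) ((yon S).map (xE C)) g (zQ A C) := by
  refine exists_hom A C (sq hf p) (xE C) (xE_ν C) ?_
  intro V m m' hmm h1
  have h2 : (yon S).map (m ≫ π hf p) ≫ p.v = (yon S).map (m' ≫ π hf p) ≫ p.v := by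
    rw [← h1, Category.assoc, xE_ν]
  rw [tr_xE A C m (m' ≫ π hf p) h1 h2, eq_mv m m' hmm h2]

/-- The map from `X`. -/
noncomputable def xQ : X ⟶ Q A C := (exists_xQ A C).choose

theorem ι_xQ : ι hf p ≫ xQ A C = (yon S).map (xE C) ≫ zQ A C := (exists_xQ A C).choose_spec.1
theorem xQ_qT : xQ A C ≫ qT A C = f := (exists_xQ A C).choose_spec.2.1
theorem sq_xQ : IsPullback (ι hf p) ((yon S).map (xE C)) (xQ A C) (zQ A C) := (exists_xQ A C).choose_spec.2.2

end X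

section map

variable {C} {C' C'' : StSub hf p} (hC : C.C ≤ C'.C) (hC' : C'.C ≤ C''.C)

/-- The map of spectra. -/
noncomputable def zz : Z C' ⟶ Z C :=
  mk C (ν C') (CommRingCat.ofHom (Subring.inclusion hC) ≫ ev C' (𝟙 _)) (by
    have h1 : incl C ≫ CommRingCat.ofHom (Subring.inclusion hC) = incl C' := rfl
    rw [← Category.assoc, h1, incl_ev, Category.id_comp])

theorem zz_ν : zz hC ≫ ν C = ν C' := mk_ν _ _ _ _

theorem ev_zz {V : Over S} (n : V ⟶ Z C') :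
    ev C (n ≫ zz hC) = CommRingCat.ofHom (Subring.inclusion hC) ≫ ev C' n := by
  rw [ev_comp, zz, ev_mk, Category.assoc, ← ev_comp, Category.comp_id]

theorem xE_zz : xE C' ≫ zz hC = xE C := by
  apply hom_ext_Z
  rw [ev_zz, ev_xE, ev_xE]
  rfl

theorem zz_zz : zz hC' ≫ zz hC = zz (hC.trans hC') := by
  apply hom_ext_Z
  rw [ev_zz, zz, ev_mk, zz, ev_mk, ← Category.assoc]
  rfl

theorem zz_self (h : C.C ≤ C.C) : zz h = 𝟙 _ := by
  apply hom_ext_Z
  rw [zz, ev_mk]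
  exact Category.id_comp _

/-- Transport commutes with the maps of spectra. -/
theorem tr_zz {V : Over S} (n : V ⟶ Z C') (u : V ⟶ p.V)
    (h : (yon S).map (n ≫ ν C') ≫ p.v = (yon S).map u ≫ p.v)
    (h' : (yon S).map ((n ≫ zz hC) ≫ ν C) ≫ p.v = (yon S).map u ≫ p.v) :
    tr A C (n ≫ zz hC) u h' = tr A C' n u h ≫ zz hC := by
  -- the universal case
  let n₀ : Zc C' A.κs ⟶ Z C' := zfst C' A.κs
  let u₀ : Zc C' A.κs ⟶ p.V := zsnd C' A.κs ≫ A.t
  have hst : (yon S).map A.s ≫ p.v = (yon S).map A.t ≫ p.v := A.sq.w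
  have e₀ : n₀ ≫ ν C' = zsnd C' A.κs ≫ A.s := pullback.condition
  have h₀ : (yon S).map (n₀ ≫ ν C') ≫ p.v = (yon S).map u₀ ≫ p.v := by
    rw [e₀]
    change _ = (yon S).map (zsnd C' A.κs ≫ A.t) ≫ p.v
    simp only [(yon S).map_comp, Category.assoc]
    rw [hst]
  have h₀' : (yon S).map ((n₀ ≫ zz hC) ≫ ν C) ≫ p.v = (yon S).map u₀ ≫ p.v := by
    rw [Category.assoc, zz_ν, h₀]
  have key : tr A C (n₀ ≫ zz hC) u₀ h₀' = tr A C' n₀ u₀ h₀ ≫ zz hC := by
    have := std_xc C' A.κs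
    ext1
    refine StdDom.eq_of_std (xc C' A.κs).left (ν C).left ?_ ?_
    · rw [← Over.comp_left, ← Over.comp_left, tr_ν, Category.assoc, zz_ν, tr_ν]
    · rw [← Over.comp_left, ← Over.comp_left]
      congr 1
      let m₀ : W hf A.r ⟶ W hf p := Wmap hf A.κs
      have hm₀ : xc C' A.κs ≫ n₀ = m₀ ≫ xE C' := xc_fst C' A.κs
      have hm₁ : xc C' A.κs ≫ n₀ ≫ zz hC = m₀ ≫ xE C := by rw [← Category.assoc, hm₀, Category.assoc, xE_zz]
      have g1 : (yon S).map ((xc C' A.κs ≫ n₀) ≫ ν C') ≫ p.v = (yon S).map (xc C' A.κs ≫ u₀) ≫ p.v := pre_eq _ h₀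
      have g2 : (yon S).map ((xc C' A.κs ≫ n₀ ≫ zz hC) ≫ ν C) ≫ p.v = (yon S).map (xc C' A.κs ≫ u₀) ≫ p.v :=
        pre_eq _ h₀'
      have f1 : (yon S).map (m₀ ≫ π hf p) ≫ p.v = (yon S).map (xc C' A.κs ≫ u₀) ≫ p.v := by
        rw [← g1, hm₀, Category.assoc m₀, xE_ν]
      have f1' : (yon S).map ((m₀ ≫ xE C') ≫ ν C') ≫ p.v = (yon S).map (xc C' A.κs ≫ u₀) ≫ p.v := by
        rw [← hm₀, g1]
      have f2' : (yon S).map ((m₀ ≫ xE C) ≫ ν C) ≫ p.v = (yon S).map (xc C' A.κs ≫ u₀) ≫ p.v := by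
        rw [← hm₁, g2]
      have t1 : xc C' A.κs ≫ tr A C (n₀ ≫ zz hC) u₀ h₀' = mv hf m₀ _ f1 ≫ xE C := by
        rw [← tr_nat A C (xc C' A.κs) _ u₀ h₀' g2, tr_congr A C hm₁ rfl g2 f2', tr_xE A C m₀ _ f2' f1]
      have t2 : xc C' A.κs ≫ tr A C' n₀ u₀ h₀ = mv hf m₀ _ f1 ≫ xE C' := by
        rw [← tr_nat A C' (xc C' A.κs) n₀ u₀ h₀ g1, tr_congr A C' hm₀ rfl g1 f1', tr_xE A C' m₀ _ f1' f1]
      exact t1.trans (((congrArg (mv hf m₀ _ f1 ≫ ·) (xE_zz hC)).symm.trans (Category.assoc _ _ _).symm).trans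
        ((congrArg (· ≫ zz hC) t2).symm.trans (Category.assoc _ _ _)))
  -- the general case
  let g : V ⟶ Zc C' A.κs := zl C' A.κs n (A.rl _ _ h) (A.rl_κs _ _ h).symm
  have hg1 : g ≫ n₀ = n := zl_fst _ _ _ _ _
  have hg2 : g ≫ u₀ = u := by
    change g ≫ zsnd C' A.κs ≫ _ = u
    rw [← Category.assoc, zl_snd]
    exact A.rl_t _ _ h
  have w1 : (yon S).map ((g ≫ n₀) ≫ ν C') ≫ p.v = (yon S).map (g ≫ u₀) ≫ p.v := by rw [hg1, hg2]; exact h
  have hg1' : g ≫ n₀ ≫ zz hC = n ≫ zz hC := by rw [← Category.assoc, hg1]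
  have w2 : (yon S).map ((g ≫ n₀ ≫ zz hC) ≫ ν C) ≫ p.v = (yon S).map (g ≫ u₀) ≫ p.v := by
    rw [hg1', hg2]; exact h'
  rw [tr_congr A C hg1'.symm hg2.symm h' w2, tr_nat A C g _ u₀ h₀' w2, key, ← Category.assoc,
    ← tr_nat A C' g n₀ u₀ h₀ w1, tr_congr A C' hg1 hg2 w1 h]

theorem exists_qq : ∃ g : Q A C' ⟶ Q A C, zQ A C' ≫ g = (yon S).map (zz hC) ≫ zQ A C ∧ g ≫ qT A C = qT A C' ∧
    IsPullback (zQ A C') ((yon S).map (zz hC)) g (zQ A C) := by
  refine exists_hom A C (sqQ A C') (zz hC) (zz_ν hC) ?_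
  intro V m m' hmm h1
  have h2 : (yon S).map (m ≫ ν C') ≫ p.v = (yon S).map (m' ≫ ν C') ≫ p.v := by
    rw [← h1, Category.assoc, zz_ν]
  rw [tr_zz A hC m (m' ≫ ν C') h2 h1, eq_tr A C' m m' hmm h2]

/-- The transition map. -/
noncomputable def qq : Q A C' ⟶ Q A C := (exists_qq A hC).choose

theorem zQ_qq : zQ A C' ≫ qq A hC = (yon S).map (zz hC) ≫ zQ A C := (exists_qq A hC).choose_spec.1
theorem qq_qT : qq A hC ≫ qT A C = qT A C' := (exists_qq A hC).choose_spec.2.1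
theorem sq_qq : IsPullback (zQ A C') ((yon S).map (zz hC)) (qq A hC) (zQ A C) := (exists_qq A hC).choose_spec.2.2

theorem qq_qq : qq A hC' ≫ qq A hC = qq A (hC.trans hC') := by
  refine (jsurj_zQ A C'').ext fun _ => ?_
  rw [← Category.assoc, zQ_qq, Category.assoc, zQ_qq, zQ_qq, ← Category.assoc, ← (yon S).map_comp, zz_zz]

theorem qq_self (h : C.C ≤ C.C) : qq A h = 𝟙 _ := by
  refine (jsurj_zQ A C).ext fun _ => ?_
  rw [zQ_qq, zz_self, (yon S).map_id, Category.id_comp, Category.comp_id]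

theorem xQ_qq : xQ A C' ≫ qq A hC = xQ A C := by
  have hj : K615.Pt.JSurj (fun _ : PUnit.{1} => (yon S).obj (W hf p)) (fun _ => ι hf p) :=
    jsurj_of_etale _ ((repWith_isStableUnderBaseChange (S := S) @Etale).of_isPullback (sq hf p).flip A.etale)
      ((repWith_isStableUnderBaseChange (S := S) @Surjective).of_isPullback (sq hf p).flip A.surj)
  refine hj.ext fun _ => ?_
  rw [← Category.assoc, ι_xQ, ι_xQ, Category.assoc, zQ_qq, ← Category.assoc, ← (yon S).map_comp, xE_zz]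

theorem affine_qq : IsAffineMor (qq A hC) :=
  K597.Affine.isAffineMor_of_cover (sq_qq A hC) (etale_zQ A C) (surj_zQ A C)
    (K597.Affine.isAffineMor_of_repWith ((repWith_yon_map_iff _ _).2 (by
      have h1 : IsAffine (Z C').left := inferInstance
      have h2 : IsAffine (Z C).left := inferInstance
      infer_instance)))

end map

end K602.QHom
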