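import Mathlib.Algebra.Category.Ring.FilteredColimits
import Mathlib.AlgebraicGeometry.AffineScheme
import Mathlib.AlgebraicGeometry.Limits
import Mathlib.CategoryTheory.Limits.Types.Filtered

/-!
# A criterion for a filtered cocone of commutative rings to be a colimit
-/

set_option autoImplicit false
universe u
open CategoryTheory CategoryTheory.Limits AlgebraicGeometry Opposite

namespace K602.RingColim

variable {J : Type u} [SmallCategory J] [IsFiltered J] (F : J ⥤ CommRingCat.{u}) (c : Cocone F)

/-- A filtered cocone of commutative rings which is jointly surjective and such that elements dying in the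
vertex die at a later stage is a colimit. -/
theorem nonempty_isColimit (h1 : ∀ x : c.pt, ∃ (j : J) (y : F.obj j), (c.ι.app j).hom y = x)
    (h2 : ∀ (j : J) (y : F.obj j), (c.ι.app j).hom y = 0 → ∃ (k : J) (f : j ⟶ k), (F.map f).hom y = 0) :
    Nonempty (IsColimit c) := by
  have : ReflectsColimitsOfShape J (forget CommRingCat.{u}) :=
    reflectsColimitsOfShape_of_reflectsIsomorphisms
  refine ⟨isColimitOfReflects (forget CommRingCat.{u}) ?_⟩
  refine Types.FilteredColimit.isColimitOf' _ _ (fun x => ?_) (fun i x y hxy => ?_)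
  · obtain ⟨j, y, hy⟩ := h1 x
    exact ⟨j, y, hy.symm⟩
  · change (c.ι.app i).hom x = (c.ι.app i).hom y at hxy
    obtain ⟨k, f, hf⟩ := h2 i ((x : F.obj i) - (y : F.obj i)) (by rw [map_sub, hxy, sub_self])
    refine ⟨k, f, ?_⟩
    change (F.map f).hom x = (F.map f).hom y
    rw [map_sub, sub_eq_zero] at hf
    exact hf

/-- The spectrum of such a colimit is a limit of schemes. -/
theorem nonempty_isLimit_spec (h1 : ∀ x : c.pt, ∃ (j : J) (y : F.obj j), (c.ι.app j).hom y = x)
    (h2 : ∀ (j : J) (y : F.obj j), (c.ι.app j).hom y = 0 → ∃ (k : J) (f : j ⟶ k), (F.map f).hom y = 0) :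
    Nonempty (IsLimit (Scheme.Spec.mapCone c.op)) := by
  obtain ⟨hc⟩ := nonempty_isColimit F c h1 h2
  exact ⟨isLimitOfPreserves Scheme.Spec hc.op⟩

end K602.RingColim
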