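import Groth.Agent.AlgSp.K602.QHom
import Groth.Agent.AlgSp.K602.RingColim
import Groth.Agent.AlgSp.K600.LimSys

/-!
# `X` is the limit of the `Q C`
-/

set_option autoImplicit false
set_option backward.isDefEq.respectTransparency false
universe u

open CategoryTheory CategoryTheory.Limits AlgebraicGeometry Opposite AlgSp

namespace K602.QLim

open Ch K602.Stab K602.Sub K602.SpecC K602.Trans K602.QC K602.QHom

variable {S : Scheme.{u}} {T X : AlgSp.Sp S} {f : X ⟶ T} (hf : RepWith @IsAffineHom f) (p : Ch T)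

/-- Stable subrings of finite type. -/
def Idx : Type u := {C : StSub hf p // Sub.FT C}

variable {hf p}

instance : Preorder (Idx hf p) where
  le C C' := C.1.C ≤ C'.1.C
  le_refl C := le_refl C.1.C
  le_trans _ _ _ h h' := le_trans (α := Subring (B hf p)) h h'

instance : IsDirected (Idx hf p) (· ≤ ·) where
  directed C C' := ⟨⟨sup C.1 C'.1, C.2.sup C'.2⟩, le_sup_left _ _, le_sup_right _ _⟩

variable (A : At p) [IsAffine p.V.left]

variable (hf) in
/-- The diagram. -/
noncomputable def D : (Idx hf p)ᵒᵖ ⥤ AlgSp.Sp S where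
  obj i := Q A i.unop.1
  map φ := qq A φ.unop.le
  map_id i := qq_self A _
  map_comp φ ψ := (qq_qq A ψ.unop.le φ.unop.le).symm

variable (hf) in
/-- The maps to `T`. -/
noncomputable def toT : D hf A ⟶ (Functor.const (Idx hf p)ᵒᵖ).obj T where
  app i := qT A i.unop.1
  naturality i j φ := by
    change qq A φ.unop.le ≫ qT A j.unop.1 = qT A i.unop.1 ≫ 𝟙 T
    rw [qq_qT, Category.comp_id]

variable (hf) in
/-- The cone with vertex `X`. -/
noncomputable def cX : Cone (D hf A) where
  pt := X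
  π :=
    { app := fun i => xQ A i.unop.1
      naturality := fun i j φ => by
        change 𝟙 X ≫ xQ A j.unop.1 = xQ A i.unop.1 ≫ qq A φ.unop.le
        rw [xQ_qq, Category.id_comp] }

/-- The system of charts. -/
noncomputable def sys (i : (Idx hf p)ᵒᵖ) : K600.LimSys.Sys (D hf A) i (zQ A i.unop.1) where
  obj j := Z j.left.unop.1
  fst j := zQ A j.left.unop.1
  snd j := zz (C := i.unop.1) j.hom.unop.le
  sq j := sq_qq A j.hom.unop.le

theorem sys_map (i : (Idx hf p)ᵒᵖ) {j k : Over i} (φ : j ⟶ k) :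
    (sys A i).W.map φ = zz (C := k.left.unop.1) (C' := j.left.unop.1) φ.left.unop.le := by
  refine K600.Basic.hom_ext ((sys A i).sq k) ?_ ?_
  · rw [(sys A i).W_map_fst]
    exact zQ_qq A _
  · rw [(sys A i).W_map_snd]
    exact (zz_zz _ _).symm

/-- The cone over the charts. -/
noncomputable def tX (i : (Idx hf p)ᵒᵖ) : Cone (sys A i).W where
  pt := W hf p
  π :=
    { app := fun j => xE j.left.unop.1
      naturality := fun j k φ => by
        rw [sys_map]
        change 𝟙 _ ≫ xE k.left.unop.1 = xE j.left.unop.1 ≫ zz _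
        rw [xE_zz, Category.id_comp] }

theorem exists_toAffine {V W : Scheme.{u}} [IsAffine W] (ρ : Γ(W, ⊤) ⟶ Γ(V, ⊤)) : ∃ m : V ⟶ W, m.appTop = ρ :=
  ⟨(V.toSpecΓ ≫ Spec.map ρ) ≫ W.isoSpec.inv, by rw [← evs_isoSpec, evs_mk]⟩

/-- The diagram of rings. -/
noncomputable def F (i : (Idx hf p)ᵒᵖ) : (Over i)ᵒᵖ ⥤ CommRingCat.{u} where
  obj j := SpecC.R j.unop.left.unop.1
  map φ := CommRingCat.ofHom (Subring.inclusion (show _ ≤ _ from φ.unop.left.unop.le))
  map_id _ := rfl
  map_comp _ _ := rfl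

/-- The cocone of rings. -/
noncomputable def cF (i : (Idx hf p)ᵒᵖ) : Cocone (F i) where
  pt := B hf p
  ι :=
    { app := fun j => subt j.unop.left.unop.1
      naturality := fun j k φ => rfl }

variable {q : Ch T} {g₀ : q ⟶ p} {e₀ : q ⟶ p} (hq : CovPair g₀ e₀) [IsAffine q.V.left] [IsNoetherianRing (O p)]

include hq in
theorem nonempty_isColimit (i : (Idx hf p)ᵒᵖ) : Nonempty (IsColimit (cF i)) := by
  have : Nonempty (Idx hf p) := ⟨i.unop⟩
  refine RingColim.nonempty_isColimit (F i) (cF i) ?_ ?_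
  · intro x
    obtain ⟨C, hC, hx⟩ := exists_ft hq (show B hf p from x)
    let C' : Idx hf p := ⟨sup C i.unop.1, hC.sup i.unop.2⟩
    have h1 : i.unop ≤ C' := le_sup_right C i.unop.1
    exact ⟨op (Over.mk (homOfLE h1).op), ⟨x, le_sup_left C i.unop.1 hx⟩, rfl⟩
  · intro j y hy
    refine ⟨j, 𝟙 j, ?_⟩
    have h1 : (subt j.unop.left.unop.1).hom y = 0 := hy
    have h2 : y = 0 := Subtype.ext h1
    rw [h2]
    exact map_zero _

theorem comp_appTop {U V W : Scheme.{u}} (f : U ⟶ V) (g : V ⟶ W) : (f ≫ g).appTop = g.appTop ≫ f.appTop :=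
  Scheme.Hom.comp_appTop _ _

/-- The cocone of evaluations. -/
noncomputable def cev (i : (Idx hf p)ᵒᵖ) (t : Cone (sys A i).W) : Cocone (F i) where
  pt := Γ(t.pt.left, ⊤)
  ι :=
    { app := fun j => ev j.unop.left.unop.1 (t.π.app j.unop)
      naturality := fun j k φ => by
        have h1 := t.w φ.unop
        rw [sys_map] at h1
        have h2 := ev_zz (C := j.unop.left.unop.1) (C' := k.unop.left.unop.1) (show _ ≤ _ from φ.unop.left.unop.le)
          (t.π.app k.unop)
        change CommRingCat.ofHom (Subring.inclusion _) ≫ ev k.unop.left.unop.1 (t.π.app k.unop) =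
          ev j.unop.left.unop.1 (t.π.app j.unop) ≫ 𝟙 _
        rw [Category.comp_id, ← h2]
        exact congrArg (ev j.unop.left.unop.1) h1 }

include hq in
theorem nonempty_isLimit_tX (i : (Idx hf p)ᵒᵖ) : Nonempty (IsLimit (tX A i)) := by
  have hW := isAffine_W hf p
  obtain ⟨hcol⟩ := nonempty_isColimit hq i
  have key : ∀ t : Cone (sys A i).W, ∃ l : t.pt ⟶ W hf p, (∀ j, l ≫ (tX A i).π.app j = t.π.app j) ∧
      ∀ m : t.pt ⟶ W hf p, (∀ j, m ≫ (tX A i).π.app j = t.π.app j) → m = l := by
    intro t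
    let ρ : B hf p ⟶ Γ(t.pt.left, ⊤) := hcol.desc (cev A i t)
    have hρ : ∀ j : Over i, subt j.left.unop.1 ≫ ρ = ev j.left.unop.1 (t.π.app j) :=
      fun j => hcol.fac (cev A i t) (op j)
    obtain ⟨m, hm⟩ := exists_toAffine (V := t.pt.left) (W := (W hf p).left) ρ
    let j₀ : Over i := Over.mk (𝟙 i)
    have h1 : m ≫ (π hf p).left = (t.π.app j₀ ≫ ν j₀.left.unop.1).left := by
      apply ext_of_isAffine
      refine (comp_appTop _ _).trans ?_
      rw [hm]
      have h2 := incl_ev j₀.left.unop.1 (t.π.app j₀)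
      rw [← hρ j₀, ← Category.assoc] at h2
      exact h2
    let l : t.pt ⟶ W hf p := Over.homMk m (by
      have h3 := Over.w (π hf p)
      rw [← h3, ← Category.assoc, h1]
      exact Over.w (t.π.app j₀ ≫ ν j₀.left.unop.1))
    refine ⟨l, fun j => ?_, fun l' hl' => ?_⟩
    · change l ≫ xE j.left.unop.1 = _
      apply hom_ext_Z
      rw [ev_comp, ev_xE, ← hρ]
      exact congrArg _ hm
    · ext1
      apply ext_of_isAffine
      have h4 : (l'.left.appTop : B hf p ⟶ _) = ρ := by
        refine hcol.hom_ext fun j => ?_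
        have h5 : l' ≫ xE j.unop.left.unop.1 = t.π.app j.unop := hl' j.unop
        have h6 : subt j.unop.left.unop.1 ≫ l'.left.appTop = subt j.unop.left.unop.1 ≫ ρ := by
          rw [hρ, ← h5, ev_comp, ev_xE]
        exact h6
      exact h4.trans hm.symm
  exact ⟨{ lift := fun t => (key t).choose
           fac := fun t j => (key t).choose_spec.1 j
           uniq := fun t m hm => (key t).choose_spec.2 m hm }⟩

include hq in
/-- `X` is the limit of the `Q C`, `C` stable of finite type. -/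
theorem nonempty_isLimit : Nonempty (IsLimit (cX hf A)) := by
  obtain ⟨C₀, hC₀, -⟩ := exists_ft hq (0 : B hf p)
  let i : (Idx hf p)ᵒᵖ := op ⟨C₀, hC₀⟩
  have : Nonempty (Idx hf p) := ⟨i.unop⟩
  obtain ⟨ht⟩ := nonempty_isLimit_tX A hq i
  let c : Cone (D hf A) := limit.cone _
  let hc : IsLimit c := limit.isLimit _
  obtain ⟨a, b, sqa, ha, hb⟩ := (sys A i).exists_isPullback_of_isLimit hc (tX A i) ht
  have hι : RepWith @Etale (ι hf p) ∧ RepWith @Surjective (ι hf p) :=
    ⟨(repWith_isStableUnderBaseChange (S := S) @Etale).of_isPullback (sq hf p).flip A.etale,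
      (repWith_isStableUnderBaseChange (S := S) @Surjective).of_isPullback (sq hf p).flip A.surj⟩
  have hj := jsurj_of_etale _ hι.1 hι.2
  have ha' : RepWith @Etale a ∧ RepWith @Surjective a :=
    ⟨(repWith_isStableUnderBaseChange (S := S) @Etale).of_isPullback sqa.flip (etale_zQ A C₀),
      (repWith_isStableUnderBaseChange (S := S) @Surjective).of_isPullback sqa.flip (surj_zQ A C₀)⟩
  have hja := jsurj_of_etale _ ha'.1 ha'.2
  let l : X ⟶ c.pt := hc.lift (cX hf A)
  have hl : ∀ j, l ≫ c.π.app j = xQ A j.unop.1 := fun j => hc.fac (cX hf A) j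
  have hlι : ι hf p ≫ l = a := by
    refine (K600.LimSys.Sys.isLimitWhisker (i := i) hc).hom_ext fun j => ?_
    change (ι hf p ≫ l) ≫ c.π.app j.left = a ≫ c.π.app j.left
    rw [Category.assoc, hl, ha]
    exact ι_xQ A j.left.unop.1
  have hsq : IsPullback (ι hf p) (𝟙 _) l a := by
    refine IsPullback.of_bot (h₃₁ := zQ A C₀) (v₂₁ := (yon S).map b) (v₂₂ := c.π.app i) ?_ ?_ sqa
    · rw [Category.id_comp, hl]
      have hb' := hb (Over.mk (𝟙 i))
      have e1 : b = xE C₀ := by
        rw [← hb']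
        exact xE_zz _
      rw [e1]
      exact sq_xQ A C₀
    · rw [Category.id_comp, hlι]
  have hiso : IsIso l := by
    obtain ⟨s, hs⟩ := hja.exists_desc (fun _ => ι hf p) (by
      rintro V _ _ y y' hyy
      have h1 : (y ≫ ι hf p) ≫ l = y' ≫ a := by rw [Category.assoc, hlι]; exact hyy
      have h2 := hsq.lift_fst _ _ h1
      have h3 := hsq.lift_snd _ _ h1
      rw [Category.comp_id] at h3
      rw [← h2, h3])
    have hs' : a ≫ s = ι hf p := hs ⟨⟩
    refine ⟨s, ?_, ?_⟩
    · refine hj.ext fun _ => ?_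
      rw [← Category.assoc, hlι, hs', Category.comp_id]
    · refine hja.ext fun _ => ?_
      rw [← Category.assoc, hs', hlι, Category.comp_id]
  exact ⟨IsLimit.ofPointIso hc (i := hiso)⟩

end K602.QLim
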