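import Groth.Prelude.Def_AlgSp4
import Groth.Agent.AlgSp.K602.LimPts
import Groth.Agent.AlgSp.K602.RingColim

/-!
# Retracts at a finite stage (for the finite presentation criterion)
-/

set_option autoImplicit false
universe u
open CategoryTheory CategoryTheory.Limits AlgebraicGeometry Opposite

namespace K602.Retract

open AlgSp

variable {S : Scheme.{u}}

/-- The surjectivity condition on points over limits. -/
def SurjComp {X Y : Sp S} (f : X ⟶ Y) : Prop :=
  ∀ ⦃I : Type u⦄ [SmallCategory I] [IsCofiltered I] (D : I ⥤ Over S) (c : Cone D),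
      IsLimit ((Over.forget S).mapCone c) → (∀ i, IsAffine (D.obj i).left) → IsAffine c.pt.left →
      ∀ (x : (AlgSp.yon S).obj c.pt ⟶ X) (i : I) (y : (AlgSp.yon S).obj (D.obj i) ⟶ Y),
        x ≫ f = (AlgSp.yon S).map (c.π.app i) ≫ y →
        ∃ (i' : I) (φ : i' ⟶ i) (x' : (AlgSp.yon S).obj (D.obj i') ⟶ X),
          (AlgSp.yon S).map (c.π.app i') ≫ x' = x ∧ x' ≫ f = (AlgSp.yon S).map (D.map φ) ≫ y

variable {X Y : Sp S} {f : X ⟶ Y} (h : SurjComp f)
include h

theorem exists_retract {I : Type u} [SmallCategory I] [IsCofiltered I] (D : I ⥤ Over S) (c : Cone D)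
    (hc : IsLimit ((Over.forget S).mapCone c)) (hD : ∀ i, IsAffine (D.obj i).left) (hpt : IsAffine c.pt.left)
    {V : Over S} (a : (yon S).obj c.pt ⟶ X) (b : (yon S).obj V ⟶ Y) (g : c.pt ⟶ V)
    (ha : RepWith @Etale a) (hb : RepWith @Etale b) (hab : a ≫ f = (yon S).map g ≫ b)
    (τ : ∀ i, D.obj i ⟶ V) (hτ : ∀ {i j : I} (φ : i ⟶ j), D.map φ ≫ τ j = τ i)
    (hg : ∀ i, c.π.app i ≫ τ i = g) :
    ∃ (i : I) (r : D.obj i ⟶ c.pt), c.π.app i ≫ r = 𝟙 _ ∧ r ≫ g = τ i := by
  obtain ⟨i0⟩ := IsCofiltered.nonempty (C := I)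
  obtain ⟨i1, φ, x', hx', hx''⟩ := h D c hc hD hpt a i0 ((yon S).map (τ i0) ≫ b) (by
    rw [hab, ← Category.assoc, ← Functor.map_comp, hg])
  rw [← Category.assoc, ← Functor.map_comp, hτ] at hx''
  -- pull back the etale chart `a` along `x'`
  obtain ⟨Q, q, fst, sq⟩ := ha.1 x'
  have hq : Etale q.left := ha.2 x' fst q sq
  obtain ⟨u, rfl⟩ := (yon S).map_surjective fst
  -- the section over the limit
  obtain ⟨m, hm⟩ := (yon S).map_surjective (sq.lift (𝟙 _) ((yon S).map (c.π.app i1)) (by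
    rw [Category.id_comp, hx']))
  have hm1 : m ≫ u = 𝟙 _ := (yon S).map_injective (by
    rw [Functor.map_comp, hm, sq.lift_fst]; exact ((yon S).map_id _).symm)
  have hm2 : m ≫ q = c.π.app i1 := (yon S).map_injective (by
    rw [Functor.map_comp, hm, sq.lift_snd])
  obtain ⟨j, ψ, m', hm', hm''⟩ := LimPts.exists_lift D c hc hD q m hm2
  -- kernel pair of `b`
  obtain ⟨K, k₂, k₁', sqK⟩ := hb.1 b
  have hk₂ : Etale k₂.left := hb.2 b _ k₂ sqK
  obtain ⟨k₁, rfl⟩ := (yon S).map_surjective k₁'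
  have e1 : (yon S).map (m' ≫ u ≫ g) ≫ b = (yon S).map (τ j) ≫ b := by
    calc (yon S).map (m' ≫ u ≫ g) ≫ b = (yon S).map m' ≫ (yon S).map u ≫ ((yon S).map g ≫ b) := by
          simp only [Functor.map_comp, Category.assoc]
      _ = (yon S).map m' ≫ ((yon S).map u ≫ a) ≫ f := by rw [← hab]; simp only [Category.assoc]
      _ = (yon S).map (m' ≫ q) ≫ x' ≫ f := by rw [sq.w]; simp only [Functor.map_comp, Category.assoc]
      _ = (yon S).map (D.map ψ) ≫ (yon S).map (τ i1) ≫ b := by rw [hm'', hx'']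
      _ = _ := by rw [← Category.assoc, ← Functor.map_comp, hτ]
  obtain ⟨κ₁, hκ₁⟩ := (yon S).map_surjective (sqK.lift ((yon S).map (m' ≫ u ≫ g)) ((yon S).map (τ j)) e1)
  obtain ⟨κ₂, hκ₂⟩ := (yon S).map_surjective (sqK.lift ((yon S).map (τ j)) ((yon S).map (τ j)) rfl)
  have h11 : κ₁ ≫ k₁ = m' ≫ u ≫ g := (yon S).map_injective (by rw [Functor.map_comp, hκ₁, sqK.lift_fst])
  have h12 : κ₁ ≫ k₂ = τ j := (yon S).map_injective (by rw [Functor.map_comp, hκ₁, sqK.lift_snd])
  have h21 : κ₂ ≫ k₁ = τ j := (yon S).map_injective (by rw [Functor.map_comp, hκ₂, sqK.lift_fst])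
  have h22 : κ₂ ≫ k₂ = τ j := (yon S).map_injective (by rw [Functor.map_comp, hκ₂, sqK.lift_snd])
  have hagree : c.π.app j ≫ κ₁ = c.π.app j ≫ κ₂ := by
    apply (yon S).map_injective
    apply sqK.hom_ext
    · rw [← Functor.map_comp, ← Functor.map_comp, Category.assoc, Category.assoc, h11, h21, ← Category.assoc,
        hm', ← Category.assoc, hm1, hg]
      exact congrArg _ (Category.id_comp g)
    · rw [← Functor.map_comp, ← Functor.map_comp, Category.assoc, Category.assoc, h12, h22]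
  obtain ⟨l, χ, hχ⟩ := LimPts.exists_eq D c hc hD k₂ κ₁ κ₂ (by rw [h12, h22]) hagree
  refine ⟨l, D.map χ ≫ m' ≫ u, ?_, ?_⟩
  · rw [← Category.assoc, c.w, ← Category.assoc, hm', hm1]
    rfl
  · have := congrArg (· ≫ k₁) hχ
    simp only [Category.assoc, h11, h21, hτ] at this
    simpa only [Category.assoc] using this

end K602.Retract
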