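import Groth.Agent.AlgSp.K602.RingColim
import Mathlib.CategoryTheory.Comma.Over.Basic
import Mathlib.RingTheory.FinitePresentation
import Mathlib.RingTheory.Ideal.Operations

/-!
# Diagrams of affine schemes over a base given by diagrams of rings
-/

set_option autoImplicit false
universe u
open CategoryTheory CategoryTheory.Limits AlgebraicGeometry Opposite

namespace K602.SpecDiag

variable {S : Scheme.{u}} {J : Type u} [SmallCategory J] {A : CommRingCat.{u}}
  (w : Spec A ⟶ S) (F : J ⥤ CommRingCat.{u}) (α : (Functor.const J).obj A ⟶ F)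

/-- The diagram of affine schemes over `S` attached to a diagram of `A`-algebras. -/
noncomputable def diag : Jᵒᵖ ⥤ Over S where
  obj j := Over.mk (Spec.map (α.app j.unop) ≫ w)
  map {j k} f := Over.homMk (Spec.map (F.map f.unop)) (by
    have h := α.naturality f.unop
    dsimp at h
    rw [Category.id_comp] at h
    dsimp
    rw [← Category.assoc, ← Spec.map_comp, ← h])
  map_id j := Over.OverMorphism.ext (show Spec.map (F.map (𝟙 j.unop)) = 𝟙 (Spec (F.obj j.unop)) by
    rw [F.map_id, Spec.map_id])
  map_comp {i j k} f g := Over.OverMorphism.ext (show Spec.map (F.map (g.unop ≫ f.unop)) =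
      Spec.map (F.map f.unop) ≫ Spec.map (F.map g.unop) by rw [F.map_comp, Spec.map_comp])

variable (c : Cocone F) (β : A ⟶ c.pt) (hβ : ∀ j, α.app j ≫ c.ι.app j = β)

/-- The cone with vertex the spectrum of the vertex of a cocone. -/
noncomputable def cone : Cone (diag w F α) where
  pt := Over.mk (Spec.map β ≫ w)
  π :=
    { app := fun j => Over.homMk (Spec.map (c.ι.app j.unop)) (by
        dsimp [diag]
        rw [← Category.assoc, ← Spec.map_comp, hβ])
      naturality := fun j k f => Over.OverMorphism.ext
        (show 𝟙 (Spec c.pt) ≫ Spec.map (c.ι.app k.unop) =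
          Spec.map (c.ι.app j.unop) ≫ Spec.map (F.map f.unop) by
        rw [Category.id_comp, ← Spec.map_comp, c.w f.unop]) }

variable [IsFiltered J]

theorem nonempty_isLimit (h1 : ∀ x : c.pt, ∃ (j : J) (y : F.obj j), (c.ι.app j).hom y = x)
    (h2 : ∀ (j : J) (y : F.obj j), (c.ι.app j).hom y = 0 → ∃ (k : J) (f : j ⟶ k), (F.map f).hom y = 0) :
    Nonempty (IsLimit ((Over.forget S).mapCone (cone w F α c β hβ))) := by
  obtain ⟨h⟩ := RingColim.nonempty_isLimit_spec F c h1 h2
  exact ⟨h⟩

end K602.SpecDiag

namespace K602.SpecDiag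

theorem finitePresentation_of_retract {A Q B : Type*} [CommRing A] [CommRing Q] [CommRing B] [Algebra A Q]
    [Algebra A B] [Algebra.FinitePresentation A Q] (q : Q →ₐ[A] B) (ρ : B →ₐ[A] Q)
    (h : ∀ b, q (ρ b) = b) : Algebra.FinitePresentation A B := by
  obtain ⟨s, hs⟩ := (inferInstance : Algebra.FiniteType A Q).out
  refine Algebra.FinitePresentation.of_surjective (f := q) (fun b => ⟨ρ b, h b⟩) ?_
  classical
  refine ⟨s.image (fun x => x - ρ (q x)), le_antisymm ?_ ?_⟩
  · rw [Ideal.span_le]
    intro y hy
    simp only [Finset.coe_image, Set.mem_image, Finset.mem_coe] at hy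
    obtain ⟨x, -, rfl⟩ := hy
    change q (x - ρ (q x)) = 0
    rw [map_sub, h, sub_self]
  · intro z hz
    have hz' : q z = 0 := hz
    set E := Ideal.span (((s.image (fun x => x - ρ (q x))) : Finset Q) : Set Q) with hE
    have key : (Ideal.Quotient.mkₐ A E) = (Ideal.Quotient.mkₐ A E).comp (ρ.comp q) := by
      refine AlgHom.ext_of_adjoin_eq_top hs fun x hx => ?_
      change Ideal.Quotient.mk E x = Ideal.Quotient.mk E (ρ (q x))
      rw [Ideal.Quotient.eq]
      exact Ideal.subset_span (by
        simp only [Finset.coe_image, Set.mem_image, Finset.mem_coe]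
        exact ⟨x, hx, rfl⟩)
    have := congrArg (fun f => f z) key
    change Ideal.Quotient.mk E z = Ideal.Quotient.mk E (ρ (q z)) at this
    rw [hz', map_zero, map_zero, Ideal.Quotient.eq_zero_iff_mem] at this
    exact this

end K602.SpecDiag
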