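import Groth.Agent.AlgSp.K602.Retract
import Groth.Agent.AlgSp.K602.SpecDiag

/-!
# Surjectivity on points over limits implies locally of finite presentation
-/

set_option autoImplicit false
universe u
open CategoryTheory CategoryTheory.Limits AlgebraicGeometry Opposite

namespace K602.S31

open AlgSp K602.Retract K602.SpecDiag

variable {S : Scheme.{u}} {X Y : Sp S} {f : X ⟶ Y} (h : SurjComp f)

section
variable {A B : CommRingCat.{u}} (w : Spec A ⟶ S) (β : A ⟶ B)
  (a : (yon S).obj (Over.mk (Spec.map β ≫ w)) ⟶ X) (b : (yon S).obj (Over.mk w) ⟶ Y)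
  (ha : RepWith @Etale a) (hb : RepWith @Etale b)
  (hab : a ≫ f = (yon S).map (Over.homMk (Spec.map β) : Over.mk (Spec.map β ≫ w) ⟶ Over.mk w) ≫ b)

include h ha hb hab

theorem exists_ring_retract {J : Type u} [SmallCategory J] [IsFiltered J] (F : J ⥤ CommRingCat.{u})
    (α : (Functor.const J).obj A ⟶ F) (ι : F ⟶ (Functor.const J).obj B)
    (hβ : ∀ j, α.app j ≫ ι.app j = β)
    (h1 : ∀ x : B, ∃ (j : J) (y : F.obj j), (ι.app j).hom y = x)
    (h2 : ∀ (j : J) (y : F.obj j), (ι.app j).hom y = 0 → ∃ (k : J) (f : j ⟶ k), (F.map f).hom y = 0) :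
    ∃ (j : J) (ρ : B ⟶ F.obj j), ρ ≫ ι.app j = 𝟙 B ∧ β ≫ ρ = α.app j := by
  let c : Cocone F := ⟨B, ι⟩
  obtain ⟨hc⟩ := nonempty_isLimit w F α c β hβ h1 h2
  obtain ⟨j, r, hr, hr'⟩ := exists_retract h (SpecDiag.diag w F α) (cone w F α c β hβ) hc
    (fun i => by dsimp [SpecDiag.diag]; infer_instance) (by dsimp [cone]; infer_instance) (V := Over.mk w) a b
    (Over.homMk (Spec.map β)) ha hb hab (fun j => Over.homMk (Spec.map (α.app j.unop)))
    (fun {i j} φ => by
      ext1
      change Spec.map (F.map φ.unop) ≫ Spec.map (α.app j.unop) = Spec.map (α.app i.unop)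
      rw [← Spec.map_comp, ← α.naturality]
      rfl)
    (fun j => by
      ext1
      change Spec.map (ι.app j.unop) ≫ Spec.map (α.app j.unop) = Spec.map β
      rw [← Spec.map_comp, hβ])
  obtain ⟨ρ, hρ⟩ := Spec.map_surjective (show Spec (F.obj j.unop) ⟶ Spec B from r.left)
  refine ⟨j.unop, ρ, Spec.map_injective ?_, Spec.map_injective ?_⟩
  · rw [Spec.map_comp, Spec.map_id, hρ]
    exact congrArg (fun t => t.left) hr
  · rw [Spec.map_comp, hρ]
    exact congrArg (fun t => t.left) hr'

theorem finiteType : β.hom.FiniteType := by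
  let := β.hom.toAlgebra
  let J := {s : Subalgebra A B // s.FG}
  have : Nonempty J := ⟨⟨⊥, Subalgebra.fg_bot⟩⟩
  have : IsDirectedOrder J := ⟨fun s t => ⟨⟨s.1 ⊔ t.1, s.2.sup t.2⟩, le_sup_left (a := s.1), le_sup_right (a := s.1)⟩⟩
  let F : J ⥤ CommRingCat.{u} :=
    { obj := fun s => .of s.1
      map := fun {s t} i => CommRingCat.ofHom (Subalgebra.inclusion i.le).toRingHom
      map_id := fun s => rfl
      map_comp := fun i j => rfl }
  let α : (Functor.const J).obj A ⟶ F :=
    { app := fun s => CommRingCat.ofHom (algebraMap A s.1)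
      naturality := fun s t i => rfl }
  let ι : F ⟶ (Functor.const J).obj B :=
    { app := fun s => CommRingCat.ofHom s.1.val.toRingHom
      naturality := fun s t i => rfl }
  obtain ⟨j, ρ, hρ, -⟩ := exists_ring_retract h w β a b ha hb hab F α ι (fun j => rfl) (fun x =>
    ⟨⟨Algebra.adjoin A {x}, ⟨{x}, by simp⟩⟩, ⟨x, Algebra.subset_adjoin rfl⟩, rfl⟩)
    (fun j y hy => ⟨j, 𝟙 _, by
      have : y = 0 := Subtype.ext hy
      rw [this, map_zero]⟩)
  have htop : j.1 = ⊤ := by
    rw [eq_top_iff]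
    intro x _
    have := congrArg (fun t => t.hom x) hρ
    change ((ρ.hom x : j.1) : B) = x at this
    rw [← this]
    exact (ρ.hom x : j.1).2
  exact ⟨htop ▸ j.2⟩

theorem finitePresentation : β.hom.FinitePresentation := by
  have hft := finiteType h w β a b ha hb hab
  let := β.hom.toAlgebra
  have hft' : Algebra.FiniteType A B := hft
  obtain ⟨n, π, hπ⟩ := Algebra.FiniteType.iff_quotient_mvPolynomial''.mp hft'
  let P := MvPolynomial (Fin n) A
  let J := {K : Ideal P // K.FG ∧ K ≤ RingHom.ker π}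
  have : Nonempty J := ⟨⟨⊥, Submodule.fg_bot, bot_le⟩⟩
  have : IsDirectedOrder J := ⟨fun s t => ⟨⟨s.1 ⊔ t.1, Submodule.FG.sup s.2.1 t.2.1, sup_le s.2.2 t.2.2⟩,
    le_sup_left (a := s.1), le_sup_right (a := s.1)⟩⟩
  let F : J ⥤ CommRingCat.{u} :=
    { obj := fun s => .of (P ⧸ s.1)
      map := fun {s t} i => CommRingCat.ofHom (Ideal.Quotient.factor (show s.1 ≤ t.1 from i.le))
      map_id := fun s => by
        apply CommRingCat.hom_ext
        apply Ideal.Quotient.ringHom_ext
        rfl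
      map_comp := fun i j => by
        apply CommRingCat.hom_ext
        apply Ideal.Quotient.ringHom_ext
        rfl }
  let α : (Functor.const J).obj A ⟶ F :=
    { app := fun s => CommRingCat.ofHom (algebraMap A (P ⧸ s.1))
      naturality := fun s t i => rfl }
  let ι : F ⟶ (Functor.const J).obj B :=
    { app := fun s => CommRingCat.ofHom (Ideal.Quotient.lift s.1 π.toRingHom (fun x hx => s.2.2 hx))
      naturality := fun s t i => by
        apply CommRingCat.hom_ext
        apply Ideal.Quotient.ringHom_ext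
        rfl }
  obtain ⟨j, ρ, hρ, hρ'⟩ := exists_ring_retract h w β a b ha hb hab F α ι (fun j => by
      apply CommRingCat.hom_ext
      ext x
      exact π.commutes x) (fun x => by
      obtain ⟨y, rfl⟩ := hπ x
      exact ⟨⟨⊥, Submodule.fg_bot, bot_le⟩, Ideal.Quotient.mk _ y, rfl⟩)
    (fun j y hy => by
      obtain ⟨y, rfl⟩ := Ideal.Quotient.mk_surjective y
      have hy' : π y = 0 := hy
      refine ⟨⟨j.1 ⊔ Ideal.span {y}, Submodule.FG.sup j.2.1 ⟨{y}, by simp⟩, sup_le j.2.2
        ((Ideal.span_singleton_le_iff_mem _).2 hy')⟩, homOfLE (le_sup_left (a := j.1)), ?_⟩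
      change Ideal.Quotient.mk _ y = 0
      rw [Ideal.Quotient.eq_zero_iff_mem]
      exact (le_sup_right : Ideal.span {y} ≤ j.1 ⊔ Ideal.span {y}) (Ideal.subset_span rfl))
  have hfp : Algebra.FinitePresentation A (P ⧸ j.1) := Algebra.FinitePresentation.quotient j.2.1
  let q : (P ⧸ j.1) →ₐ[A] B := Ideal.Quotient.liftₐ j.1 π (fun x hx => j.2.2 hx)
  let ρ' : B →ₐ[A] (P ⧸ j.1) := { ρ.hom with
    commutes' := fun x => congrArg (fun t => t.hom x) hρ' }
  exact finitePresentation_of_retract q ρ' (fun x => congrArg (fun t => t.hom x) hρ)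

end

end K602.S31
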