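import Groth.Agent.AlgSp.K602.Ch
import Mathlib.AlgebraicGeometry.Morphisms.SchemeTheoreticallyDominant
import Mathlib.AlgebraicGeometry.Morphisms.Separated

/-!
# Uniqueness of morphisms out of the target of a scheme theoretically dominant morphism
-/

set_option autoImplicit false
universe u

open CategoryTheory CategoryTheory.Limits AlgebraicGeometry Opposite AlgSp

namespace K602.StdDom

theorem eq_of_std {A B Y Z : Scheme.{u}} (x : A ⟶ B) [IsSchemeTheoreticallyDominant x] {f g : B ⟶ Y}
    (s : Y ⟶ Z) [IsSeparated s] (h : f ≫ s = g ≫ s) (hx : x ≫ f = x ≫ g) : f = g := by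
  let X' : Over Z := Over.mk (f ≫ s)
  let Y' : Over Z := Over.mk s
  let U' : Over Z := Over.mk (x ≫ f ≫ s)
  let f' : X' ⟶ Y' := Over.homMk f
  let g' : X' ⟶ Y' := Over.homMk g
  let ι' : U' ⟶ X' := Over.homMk x
  have : IsSeparated Y'.hom := ‹_›
  have h1 : (equalizer.lift ι' (by ext1; exact hx : ι' ≫ f' = ι' ≫ g')).left ≫ (equalizer.ι f' g').left = x := by
    rw [← Over.comp_left, equalizer.lift_ι]
    rfl
  have h2 : (equalizer.ι f' g').left.ker = ⊥ := by
    refine le_bot_iff.1 ?_
    refine le_trans (Scheme.Hom.le_ker_comp (equalizer.lift ι' (by ext1; exact hx : ι' ≫ f' = ι' ≫ g')).left _) ?_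
    rw [h1, x.ker_eq_bot]
  have := IsClosedImmersion.isIso_iff_ker_eq_bot.2 h2
  rw [← cancel_epi (equalizer.ι f' g').left]
  exact congr($(equalizer.condition f' g').left)

/-- A morphism of affine schemes which is injective on functions is scheme theoretically dominant. -/
theorem std_of_injective {A B : Scheme.{u}} [IsAffine A] [IsAffine B] (x : A ⟶ B)
    (h : Function.Injective x.appTop) : IsSchemeTheoreticallyDominant x := by
  constructor
  refine Scheme.IdealSheafData.ext_of_isAffine ?_
  rw [x.ker_apply ⟨⊤, isAffineOpen_top B⟩]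
  have : RingHom.ker (x.app ⊤).hom = ⊥ := (RingHom.injective_iff_ker_eq_bot _).1 h
  simpa using this

variable {S : Scheme.{u}} {T F : Sp S}

/-- Two points of `F` over a scheme with the same image in `T` agree if they agree after composing with a scheme
theoretically dominant morphism, when `F ⟶ T` is affine. -/
theorem eq_of_std_sheaf {b : F ⟶ T} (hb : RepWith @IsAffineHom b) {A V : Over S} (x : A ⟶ V)
    [IsSchemeTheoreticallyDominant x.left] {m m' : (yon S).obj V ⟶ F}
    (h : m ≫ b = m' ≫ b) (hx : (yon S).map x ≫ m = (yon S).map x ≫ m') : m = m' := by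
  let k : Ch T := ⟨V, m ≫ b⟩
  let l : V ⟶ Ch.W hb k := hb.1.lift m (𝟙 V) (by rw [(yon S).map_id, Category.id_comp])
  let l' : V ⟶ Ch.W hb k := hb.1.lift m' (𝟙 V) (by rw [(yon S).map_id, Category.id_comp]; exact h.symm)
  have hl : (yon S).map l ≫ Ch.ι hb k = m := hb.1.lift_fst _ _ _
  have hl' : (yon S).map l' ≫ Ch.ι hb k = m' := hb.1.lift_fst _ _ _
  have hs : l ≫ Ch.π hb k = 𝟙 V := hb.1.lift_snd _ _ _
  have hs' : l' ≫ Ch.π hb k = 𝟙 V := hb.1.lift_snd _ _ _
  have key : l = l' := by
    ext1
    refine eq_of_std x.left (Ch.π hb k).left ?_ ?_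
    · rw [← Over.comp_left, ← Over.comp_left, hs, hs']
    · rw [← Over.comp_left, ← Over.comp_left]
      congr 1
      apply Ch.W_ext
      · rw [(yon S).map_comp, (yon S).map_comp, Category.assoc, Category.assoc, hl, hl', hx]
      · rw [Category.assoc, Category.assoc, hs, hs']
  rw [← hl, ← hl', key]

end K602.StdDom
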