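import Groth.Agent.AlgSp.K602.Sub
import Groth.Agent.AlgSp.K602.StdDom

/-!
# The spectrum of a stable subring, over the atlas
-/

set_option autoImplicit false
universe u

open CategoryTheory CategoryTheory.Limits AlgebraicGeometry Opposite AlgSp

namespace K602.SpecC

section plain

variable {V : Scheme.{u}} {R : CommRingCat.{u}}

/-- Evaluation of the elements of `R` at a point of `Spec R`. -/
noncomputable def evs (a : V ⟶ Spec R) : R ⟶ Γ(V, ⊤) := (Scheme.ΓSpecIso R).inv ≫ a.appTop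

theorem evs_comp {V' : Scheme.{u}} (g : V' ⟶ V) (a : V ⟶ Spec R) : evs (g ≫ a) = evs a ≫ g.appTop := by
  rw [evs, evs, Scheme.Hom.comp_appTop, Category.assoc]

theorem evs_mk (ρ : R ⟶ Γ(V, ⊤)) : evs (V.toSpecΓ ≫ Spec.map ρ) = ρ := by
  rw [evs, Scheme.Hom.comp_appTop, Scheme.toSpecΓ_appTop, Scheme.ΓSpecIso_naturality, Iso.inv_hom_id_assoc]

theorem evs_injective {a b : V ⟶ Spec R} (h : evs a = evs b) : a = b := by
  apply ext_of_isAffine
  exact (cancel_epi (Scheme.ΓSpecIso R).inv).1 h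

theorem comp_evs {R' : CommRingCat.{u}} (φ : R' ⟶ R) (a : V ⟶ Spec R) : φ ≫ evs a = evs (a ≫ Spec.map φ) := by
  have h4 : (Scheme.ΓSpecIso R').inv ≫ (Spec.map φ).appTop = φ ≫ (Scheme.ΓSpecIso R).inv := by
    rw [Iso.inv_comp_eq, ← Category.assoc, Iso.eq_comp_inv]
    exact Scheme.ΓSpecIso_naturality _
  rw [evs, evs, Scheme.Hom.comp_appTop, ← Category.assoc, ← Category.assoc, h4]

theorem evs_isoSpec {E : Scheme.{u}} [IsAffine E] (a : V ⟶ Spec Γ(E, ⊤)) :
    evs a = (a ≫ E.isoSpec.inv).appTop := by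
  have h2 : E.isoSpec.hom.appTop = (Scheme.ΓSpecIso Γ(E, ⊤)).hom := Scheme.toSpecΓ_appTop _
  have h3 : E.isoSpec.hom.appTop ≫ E.isoSpec.inv.appTop = 𝟙 _ := by
    rw [← Scheme.Hom.comp_appTop, Iso.inv_hom_id, Scheme.Hom.id_appTop]
  rw [h2] at h3
  rw [evs, Scheme.Hom.comp_appTop]
  congr 1
  rw [← cancel_epi (Scheme.ΓSpecIso Γ(E, ⊤)).hom, Iso.hom_inv_id]
  exact h3.symm

theorem std_of_evs [IsAffine V] (a : V ⟶ Spec R) (h : Function.Injective (evs a)) :
    IsSchemeTheoreticallyDominant a := by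
  apply StdDom.std_of_injective
  have h1 : a.appTop = (Scheme.ΓSpecIso R).hom ≫ evs a := by rw [evs, Iso.hom_inv_id_assoc]
  rw [h1]
  exact h.comp (Scheme.ΓSpecIso R).commRingCatIsoToRingEquiv.injective

end plain

open Ch Stab K602.Sub

variable {S : Scheme.{u}} {T X : AlgSp.Sp S} {f : X ⟶ T} {hf : RepWith @IsAffineHom f} {p : Ch T}
  [IsAffine p.V.left] (C : StSub hf p)

/-- The subring as an object of `CommRingCat`. -/
noncomputable abbrev R : CommRingCat.{u} := CommRingCat.of C.C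

/-- The structure map on functions. -/
noncomputable def incl : O p ⟶ R C := CommRingCat.ofHom ((β hf p).hom.codRestrict C.C C.β_mem)

noncomputable def subt : R C ⟶ B hf p := CommRingCat.ofHom C.C.subtype

omit [IsAffine p.V.left] in
theorem incl_subt : incl C ≫ subt C = β hf p := rfl

noncomputable def νl : Spec (R C) ⟶ p.V.left := Spec.map (incl C) ≫ p.V.left.isoSpec.inv

/-- `Spec C` over `S`. -/
noncomputable def Z : Over S := Over.mk (νl C ≫ p.V.hom)

noncomputable def ν : Z C ⟶ p.V := Over.homMk (νl C)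

instance : IsAffine (Z C).left := inferInstanceAs (IsAffine (Spec (R C)))

instance : IsAffineHom (ν C).left := by
  change IsAffineHom (Spec.map (incl C) ≫ p.V.left.isoSpec.inv)
  infer_instance

theorem toSpec_νl {V : Scheme.{u}} (e : V ⟶ p.V.left) (ρ : R C ⟶ Γ(V, ⊤)) (h : incl C ≫ ρ = e.appTop) :
    (V.toSpecΓ ≫ Spec.map ρ) ≫ νl C = e := by
  rw [νl, Category.assoc, ← Spec.map_comp_assoc, h, ← Scheme.toSpecΓ_naturality_assoc]
  have : p.V.left.toSpecΓ = p.V.left.isoSpec.hom := rfl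
  rw [this, Iso.hom_inv_id, Category.comp_id]

/-- Points of `Spec C`. -/
noncomputable def mk {V : Over S} (e : V ⟶ p.V) (ρ : R C ⟶ Γ(V.left, ⊤)) (h : incl C ≫ ρ = e.left.appTop) :
    V ⟶ Z C :=
  Over.homMk (V.left.toSpecΓ ≫ Spec.map ρ) (by
    change (V.left.toSpecΓ ≫ Spec.map ρ) ≫ νl C ≫ p.V.hom = V.hom
    rw [← Category.assoc, toSpec_νl C e.left ρ h, Over.w])

theorem mk_ν {V : Over S} (e : V ⟶ p.V) (ρ : R C ⟶ Γ(V.left, ⊤)) (h : incl C ≫ ρ = e.left.appTop) :
    mk C e ρ h ≫ ν C = e := by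
  ext1
  exact toSpec_νl C e.left ρ h

/-- Evaluation of the elements of `C` at a point. -/
noncomputable def ev {V : Over S} (a : V ⟶ Z C) : R C ⟶ Γ(V.left, ⊤) := evs (R := R C) (V := V.left) a.left

theorem ev_comp {V V' : Over S} (g : V' ⟶ V) (a : V ⟶ Z C) : ev C (g ≫ a) = ev C a ≫ g.left.appTop :=
  evs_comp (R := R C) g.left a.left

theorem ev_mk {V : Over S} (e : V ⟶ p.V) (ρ : R C ⟶ Γ(V.left, ⊤)) (h : incl C ≫ ρ = e.left.appTop) :
    ev C (mk C e ρ h) = ρ := evs_mk ρ

theorem incl_ev {V : Over S} (a : V ⟶ Z C) : incl C ≫ ev C a = (a ≫ ν C).left.appTop := by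
  refine (comp_evs (R := R C) (V := V.left) (incl C) a.left).trans ((evs_isoSpec (E := p.V.left) _).trans ?_)
  congr 1

theorem hom_ext_Z {V : Over S} {a b : V ⟶ Z C} (h : ev C a = ev C b) : a = b := by
  ext1
  exact evs_injective h

/-- The map from the base change of `X`. -/
noncomputable def xE : W hf p ⟶ Z C := mk C (π hf p) (subt C) (incl_subt C)

theorem xE_ν : xE C ≫ ν C = π hf p := mk_ν _ _ _ _

theorem ev_xE : ev C (xE C) = subt C := ev_mk _ _ _ _

instance : IsAffineHom (xE C).left := by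
  have := isAffine_W hf p
  infer_instance

instance std_xE : IsSchemeTheoreticallyDominant (xE C).left := by
  have := isAffine_W hf p
  refine std_of_evs (R := R C) (xE C).left ?_
  have h : evs (R := R C) (xE C).left = subt C := ev_xE C
  rw [h]
  exact Subtype.val_injective

section chart

variable {k : Ch T} (κ : k ⟶ p)

/-- The base change of `Spec C` to a chart over the atlas. -/
noncomputable abbrev Zc : Over S := pullback (ν C) κ.g

noncomputable abbrev zfst : Zc C κ ⟶ Z C := pullback.fst (ν C) κ.g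
noncomputable abbrev zsnd : Zc C κ ⟶ k.V := pullback.snd (ν C) κ.g

noncomputable def xc : W hf k ⟶ Zc C κ :=
  pullback.lift (Wmap hf κ ≫ xE C) (π hf k) (by rw [Category.assoc, xE_ν, Wmap_π])

theorem xc_fst : xc C κ ≫ zfst C κ = Wmap hf κ ≫ xE C := pullback.lift_fst _ _ _
theorem xc_snd : xc C κ ≫ zsnd C κ = π hf k := pullback.lift_snd _ _ _

theorem isPullback_xc : IsPullback (Wmap hf κ) (xc C κ) (xE C) (zfst C κ) := by
  refine IsPullback.of_bot (h₃₁ := κ.g) (v₂₁ := zsnd C κ) (v₂₂ := ν C) ?_ (xc_fst C κ).symm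
    (IsPullback.of_hasPullback (ν C) κ.g)
  rw [xc_snd, xE_ν]
  exact sq_map hf κ

instance : IsAffineHom (xc C κ).left :=
  MorphismProperty.of_isPullback (P := @IsAffineHom) ((isPullback_xc C κ).map (Over.forget S))
    (inferInstanceAs (IsAffineHom (xE C).left))

theorem std_xc [Flat κ.g.left] : IsSchemeTheoreticallyDominant (xc C κ).left := by
  have h1 : IsPullback (zfst C κ).left (zsnd C κ).left (ν C).left κ.g.left :=
    (IsPullback.of_hasPullback (ν C) κ.g).map (Over.forget S)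
  have h2 : Flat (zfst C κ).left := MorphismProperty.of_isPullback (P := @Flat) h1.flip ‹_›
  exact IsSchemeTheoreticallyDominant.of_isPullback (f := (xE C).left) (g := (zfst C κ).left)
    (pX := (Wmap hf κ).left) ((isPullback_xc C κ).map (Over.forget S))

theorem isAffine_Zc [IsAffine k.V.left] : IsAffine (Zc C κ).left := by
  have h1 : IsPullback (zfst C κ).left (zsnd C κ).left (ν C).left κ.g.left :=
    (IsPullback.of_hasPullback (ν C) κ.g).map (Over.forget S)
  exact .of_isPullback h1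

end chart

end K602.SpecC
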