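import Groth.Agent.AlgSp.K602.Ch

/-!
# Stable submodules of the functions on an affine morphism

For an atlas `p` of `T` and a subset `G` of the functions `B p` on the base change of `X` to `p`, `Mem G v b` says that
`b`, a function on the base change to the chart `v`, lies locally in the span of `G`.
-/

set_option autoImplicit false
universe u

open CategoryTheory CategoryTheory.Limits AlgebraicGeometry Opposite AlgSp

namespace K602.Stab

open K602.SpanAlg Ch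

variable {S : Scheme.{u}} {T X : AlgSp.Sp S} {f : X ⟶ T} (hf : RepWith @IsAffineHom f)

/-- `q` covers the fibre product of the charts `v` and `p`. -/
def CovPair {q v p : Ch T} (g₀ : q ⟶ v) (e₀ : q ⟶ p) : Prop :=
  ∀ (v' : Ch T), IsAffine v'.V.left → ∀ (g : v' ⟶ v) (e : v' ⟶ p),
    ∃ (v'' : Ch T) (_ : IsAffine v''.V.left) (c : v'' ⟶ v') (d : v'' ⟶ q),
      (ores c).hom.FaithfullyFlat ∧ d ≫ g₀ = c ≫ g ∧ d ≫ e₀ = c ≫ e

variable {p : Ch T}

/-- `b` lies locally in the span of `G`. -/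
def Mem (G : Set (B hf p)) (v : Ch T) (b : B hf v) : Prop :=
  ∀ (v' : Ch T), IsAffine v'.V.left → ∀ (g : v' ⟶ v) (e : v' ⟶ p),
    res hf g b ∈ Sp (β hf v').hom (res hf e '' G)

theorem res_comp_apply {a b c : Ch T} (g : a ⟶ b) (h : b ⟶ c) (x : B hf c) :
    res hf (g ≫ h) x = res hf g (res hf h x) := by
  rw [res_comp]; rfl

theorem β_res_apply {a b : Ch T} (g : a ⟶ b) (o : O b) :
    res hf g (β hf b o) = β hf a (ores g o) := by
  have := congrArg (fun k => k.hom o) (β_res hf g)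
  exact this

/-- restriction of spans -/
theorem res_mem_Sp {a b : Ch T} (g : a ⟶ b) {Z : Set (B hf b)} {x : B hf b} (hx : x ∈ Sp (β hf b).hom Z) :
    res hf g x ∈ Sp (β hf a).hom (res hf g '' Z) :=
  map_mem_Sp (Z₁ := res hf g '' Z) (ores g).hom (res hf g).hom (fun o => β_res_apply hf g o)
    (fun z hz => mem_Sp _ ⟨z, hz, rfl⟩) hx

variable {hf}

theorem Mem.res {G : Set (B hf p)} {v v₁ : Ch T} {b : B hf v} (h : Mem hf G v b) (k : v₁ ⟶ v) :
    Mem hf G v₁ (res hf k b) := by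
  intro v' hv' g e
  rw [← res_comp_apply]
  exact h v' hv' (g ≫ k) e

theorem Mem.mono {G G' : Set (B hf p)} (hG : G ⊆ G') {v : Ch T} {b : B hf v} (h : Mem hf G v b) :
    Mem hf G' v b := fun v' hv' g e => Sp_mono _ (Set.image_mono hG) (h v' hv' g e)

theorem Mem.mem_Sp [IsAffine p.V.left] {G : Set (B hf p)} {b : B hf p} (h : Mem hf G p b) :
    b ∈ Sp (β hf p).hom G := by
  have := h p inferInstance (𝟙 p) (𝟙 p)
  rw [res_id] at this
  have h' : b ∈ Sp (β hf p).hom ((fun x => x) '' G) := this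
  rwa [Set.image_id'] at h'

theorem Mem.add {G : Set (B hf p)} {v : Ch T} {b b' : B hf v} (h : Mem hf G v b) (h' : Mem hf G v b') :
    Mem hf G v (b + b') := fun v' hv' g e => by
  rw [map_add]
  exact AddSubgroup.add_mem _ (h v' hv' g e) (h' v' hv' g e)

theorem Mem.zero {G : Set (B hf p)} {v : Ch T} : Mem hf G v (0 : B hf v) := fun v' hv' g e => by
  rw [map_zero]
  exact AddSubgroup.zero_mem _

theorem Mem.neg {G : Set (B hf p)} {v : Ch T} {b : B hf v} (h : Mem hf G v b) :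
    Mem hf G v (-b) := fun v' hv' g e => by
  rw [map_neg]
  exact AddSubgroup.neg_mem _ (h v' hv' g e)

theorem Mem.smul {G : Set (B hf p)} {v : Ch T} (o : O v) {b : B hf v} (h : Mem hf G v b) :
    Mem hf G v (β hf v o * b) := fun v' hv' g e => by
  rw [map_mul, β_res_apply]
  exact mul_mem_Sp _ _ (h v' hv' g e)

variable (hf) in
/-- The subgroup of elements which lie locally in the span of `G`. -/
def N (G : Set (B hf p)) (v : Ch T) : AddSubgroup (B hf v) where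
  carrier := {b | Mem hf G v b}
  add_mem' h h' := h.add h'
  zero_mem' := Mem.zero
  neg_mem' h := h.neg

section

variable {q v : Ch T} [IsAffine q.V.left] {g₀ : q ⟶ v} {e₀ : q ⟶ p} (hq : CovPair g₀ e₀)

include hq in
theorem mem_iff (G : Set (B hf p)) (b : B hf v) :
    Mem hf G v b ↔ Ch.res hf g₀ b ∈ Sp (β hf q).hom (Ch.res hf e₀ '' G) := by
  refine ⟨fun h => h q inferInstance g₀ e₀, fun h v' hv' g e => ?_⟩
  obtain ⟨v'', hv'', c, d, hc, h1, h2⟩ := hq v' hv' g e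
  refine mem_of_mem_Sp hc (isPushout hf c) _ (fun o m hm => mul_mem_Sp _ o hm) ?_
  rw [← res_comp_apply, ← h1, res_comp_apply]
  have h3 := res_mem_Sp hf d h
  refine Sp_mono _ ?_ h3
  rintro _ ⟨_, ⟨z, hz, rfl⟩, rfl⟩
  exact ⟨Ch.res hf e z, mem_Sp _ ⟨z, hz, rfl⟩, by rw [← res_comp_apply, ← res_comp_apply, h2]⟩

/-- The pullback of a chart. -/
noncomputable abbrev pb {v₁ v q : Ch T} (h : v₁ ⟶ v) (g₀ : q ⟶ v) : Ch T := q.pre (pullback.fst g₀.g h.g)

/-- The projection of the pullback. -/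
noncomputable def pbFst {v₁ v q : Ch T} (h : v₁ ⟶ v) (g₀ : q ⟶ v) : pb h g₀ ⟶ q := q.preHom _

noncomputable def pbSnd {v₁ v q : Ch T} (h : v₁ ⟶ v) (g₀ : q ⟶ v) : pb h g₀ ⟶ v₁ :=
  ⟨pullback.snd g₀.g h.g, by
    change (yon S).map (pullback.snd g₀.g h.g) ≫ v₁.v = (yon S).map (pullback.fst g₀.g h.g) ≫ q.v
    rw [← h.w, ← g₀.w, ← Category.assoc, ← (yon S).map_comp, ← pullback.condition, (yon S).map_comp,
      Category.assoc]⟩

theorem pb_w {v₁ v q : Ch T} (h : v₁ ⟶ v) (g₀ : q ⟶ v) : pbFst h g₀ ≫ g₀ = pbSnd h g₀ ≫ h :=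
  Ch.hom_ext pullback.condition

/-- The lift to the pullback. -/
noncomputable def pbLift {v₁ v q v' : Ch T} {h : v₁ ⟶ v} {g₀ : q ⟶ v} (a : v' ⟶ q) (b : v' ⟶ v₁)
    (w : a ≫ g₀ = b ≫ h) : v' ⟶ pb h g₀ :=
  ⟨pullback.lift a.g b.g (congrArg Hom.g w), by
    change (yon S).map _ ≫ (yon S).map _ ≫ q.v = v'.v
    rw [← Category.assoc, ← (yon S).map_comp, pullback.lift_fst, a.w]⟩

theorem pbLift_fst {v₁ v q v' : Ch T} {h : v₁ ⟶ v} {g₀ : q ⟶ v} (a : v' ⟶ q) (b : v' ⟶ v₁)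
    (w : a ≫ g₀ = b ≫ h) : pbLift a b w ≫ pbFst h g₀ = a := Ch.hom_ext (pullback.lift_fst _ _ _)

theorem pbLift_snd {v₁ v q v' : Ch T} {h : v₁ ⟶ v} {g₀ : q ⟶ v} (a : v' ⟶ q) (b : v' ⟶ v₁)
    (w : a ≫ g₀ = b ≫ h) : pbLift a b w ≫ pbSnd h g₀ = b := Ch.hom_ext (pullback.lift_snd _ _ _)

theorem isPullback_pb_left {v₁ v q : Ch T} (h : v₁ ⟶ v) (g₀ : q ⟶ v) :
    IsPullback (pbFst h g₀).g.left (pbSnd h g₀).g.left g₀.g.left h.g.left :=
  (IsPullback.of_hasPullback g₀.g h.g).map (Over.forget S)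

theorem isAffine_pb {v₁ v q : Ch T} [IsAffine v₁.V.left] [IsAffine v.V.left] [IsAffine q.V.left] (h : v₁ ⟶ v)
    (g₀ : q ⟶ v) : IsAffine (pb h g₀).V.left := .of_isPullback (isPullback_pb_left h g₀)

omit [IsAffine q.V.left] in
include hq in
theorem CovPair.pb {v₁ : Ch T} (h : v₁ ⟶ v) : CovPair (pbSnd h g₀) (pbFst h g₀ ≫ e₀) := by
  intro v' hv' g e
  obtain ⟨v'', hv'', c, d, hc, h1, h2⟩ := hq v' hv' (g ≫ h) e
  refine ⟨v'', hv'', c, pbLift d (c ≫ g) (by rw [h1, Category.assoc]), hc, pbLift_snd _ _ _, ?_⟩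
  rw [← Category.assoc, pbLift_fst, h2]

include hq in
/-- Flat base change. -/
theorem mem_Sp_of_flat (G : Set (B hf p)) {v₁ : Ch T} [IsAffine v₁.V.left] [IsAffine v.V.left] (h : v₁ ⟶ v)
    (hh : (ores h).hom.Flat) {x : B hf v₁} (hx : Mem hf G v₁ x) :
    x ∈ Sp (β hf v₁).hom (Ch.res hf h '' (N hf G v : Set (B hf v))) := by
  have hq₁a := isAffine_pb h g₀
  let q₁ := pb h g₀
  have h1 := (mem_iff (hq.pb h) G x).1 hx
  have hpO : IsPushout (ores h) (ores g₀) (ores (pbSnd h g₀)) (ores (pbFst h g₀)) :=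
    (isPushout_appTop_of_isPullback (isPullback_pb_left h g₀)).flip
  have hpB : IsPushout (ores h) (ores g₀ ≫ β hf q) (ores (pbSnd h g₀) ≫ β hf q₁) (Ch.res hf (pbFst h g₀)) :=
    hpO.paste_vert (isPushout hf (pbFst h g₀))
  let M : AddSubgroup (B hf q) := Sp (β hf q).hom (Ch.res hf e₀ '' G)
  have key := mem_Sp_comap hh (isPushout hf h) hpB (Ch.res hf g₀) (Ch.res hf (pbSnd h g₀)) (β_res hf g₀)
    (β_res hf (pbSnd h g₀)) (by rw [← Ch.res_comp, ← Ch.res_comp, pb_w]) M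
    (fun o m hm => mul_mem_Sp _ _ hm) (x := x) (by
      refine Sp_le (N := Sp (ores (pbSnd h g₀) ≫ β hf q₁).hom (Ch.res hf (pbFst h g₀) '' (M : Set (B hf q)))) _ ?_ h1
      rintro o _ ⟨z, hz, rfl⟩
      rw [res_comp_apply]
      have ho := mem_Sp_range hpO o
      have : Sp (ores (pbSnd h g₀)).hom (Set.range (ores (pbFst h g₀))) ≤
          (Sp (ores (pbSnd h g₀) ≫ β hf q₁).hom (Ch.res hf (pbFst h g₀) '' (M : Set (B hf q)))).comap
          ((AddMonoidHom.mulRight (Ch.res hf (pbFst h g₀) (Ch.res hf e₀ z))).comp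
            (β hf q₁).hom.toAddMonoidHom) := by
        refine Sp_le _ ?_
        rintro o' _ ⟨o'', rfl⟩
        change β hf q₁ (ores (pbSnd h g₀) o' * ores (pbFst h g₀) o'') *
          Ch.res hf (pbFst h g₀) (Ch.res hf e₀ z) ∈
          Sp (ores (pbSnd h g₀) ≫ β hf q₁).hom (Ch.res hf (pbFst h g₀) '' (M : Set (B hf q)))
        rw [map_mul, mul_assoc, ← β_res_apply hf (pbFst h g₀) o'', ← map_mul]
        refine smul_mem_Sp _ o' ⟨_, ?_, rfl⟩
        exact smul_mem_Sp _ _ ⟨z, hz, rfl⟩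
      exact this ho)
  refine Sp_mono _ (Set.image_mono ?_) key
  intro b hb
  exact (mem_iff hq G b).2 hb

include hq in
/-- Every element lies locally in the span of a finite set. -/
theorem exists_finite [IsAffine p.V.left] (b : B hf v) : ∃ F : Set (B hf p), F.Finite ∧ Mem hf F v b := by
  have h1 := mem_Sp_range (isPushout hf e₀) (Ch.res hf g₀ b)
  obtain ⟨F, hF, hFr, hb⟩ := K602.SpanAlg.exists_finite _ h1
  obtain ⟨F', hF', rfl⟩ : ∃ F' : Set (B hf p), F'.Finite ∧ Ch.res hf e₀ '' F' = F := by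
    have := hF.to_subtype
    refine ⟨Set.range (fun x : F => (hFr x.2).choose), Set.finite_range _, ?_⟩
    ext x
    constructor
    · rintro ⟨_, ⟨y, rfl⟩, rfl⟩
      rw [(hFr y.2).choose_spec]
      exact y.2
    · intro hx
      exact ⟨_, ⟨⟨x, hx⟩, rfl⟩, (hFr hx).choose_spec⟩
  exact ⟨F', hF', (mem_iff hq F' b).2 hb⟩

end

end K602.Stab
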