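import Groth.Agent.AlgSp.K640.ElemDist
import Groth.Agent.AlgSp.K597.Affine
import Groth.Agent.AlgSp.K598.RepKit
import Mathlib.CategoryTheory.Adhesive.Basic

/-!
# Elementary distinguished squares are van Kampen

A map of spans between the spans of two elementary distinguished squares which is cartesian extends to a map of the
squares, all of whose faces are cartesian.
-/

set_option autoImplicit false
set_option backward.isDefEq.respectTransparency false
universe u
open CategoryTheory CategoryTheory.Limits AlgebraicGeometry Opposite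
open AlgSp

namespace K602.VK

variable {S : Scheme.{u}}

instance adhesive_Sp : Adhesive (Sp S) :=
  adhesive_of_reflective (sheafificationAdjunction (J S) (Type (u + 1)))

theorem exists_desc {U V W P U' V' W' P' : Sp S} (hV : IsAlgSpace V) (hV' : IsAlgSpace V')
    {j : U ⟶ W} {f : V ⟶ W} {p : P ⟶ U} {q : P ⟶ V} (hsq : IsElemDistSq j f) (sq : IsPullback p q j f)
    {j' : U' ⟶ W'} {f' : V' ⟶ W'} {p' : P' ⟶ U'} {q' : P' ⟶ V'} (hsq' : IsElemDistSq j' f')
    (sq' : IsPullback p' q' j' f') {a : U ⟶ U'} {b : V ⟶ V'} {c : P ⟶ P'} (h1 : IsPullback p c a p')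
    (h2 : IsPullback q c b q') :
    ∃ t : W ⟶ W', IsPullback j a t j' ∧ IsPullback f b t f' := by
  have H := K640.ElemDist.isPushout_of_isElemDistSq hV hsq sq
  have H' := K640.ElemDist.isPushout_of_isElemDistSq hV' hsq' sq'
  have hj' : Mono j' := K598.RepKit.mono_of_repWith_isOpenImmersion hsq'.1
  have hq' : Mono q' := ⟨fun x y hxy => sq'.hom_ext (by
    rw [← cancel_mono j', Category.assoc, Category.assoc, sq'.w, ← Category.assoc, ← Category.assoc, hxy]) hxy⟩
  let t : W ⟶ W' := H.desc (a ≫ j') (b ≫ f') (by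
    rw [← Category.assoc, ← Category.assoc, h1.w, h2.w, Category.assoc, Category.assoc, sq'.w])
  have e1 : j ≫ t = a ≫ j' := H.inl_desc _ _ _
  have e2 : f ≫ t = b ≫ f' := H.inr_desc _ _ _
  have := (Adhesive.van_kampen' H') p q j f c a b t h1 h2 ⟨e1⟩ ⟨e2⟩ ⟨sq.w⟩
  exact ⟨t, this.1 H⟩

end K602.VK
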