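import Groth.Agent.AlgSp.K602.EtStep
import Groth.Agent.AlgSp.K602.FitOpen
import Groth.Agent.AlgSp.K602.VK
import Groth.Agent.AlgSp.K602.FamAff
import Groth.Agent.AlgSp.K602.ElemQs
import Groth.Agent.AlgSp.K602.CopChart
import Groth.Agent.AlgSp.K608.SepAbs
import Groth.Agent.S10696

/-!
# The induction step of absolute approximation: an elementary distinguished square over a limit of finite type spaces
-/

set_option autoImplicit false
set_option backward.isDefEq.respectTransparency false
universe u
open CategoryTheory CategoryTheory.Limits AlgebraicGeometry Opposite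
open AlgSp K605.SqEl K605.LfpLim K602.FTy

namespace K602.Step

variable {S : Scheme.{u}}

/-- A space glued from a finite type space and a finite type affine scheme along a finite type scheme. -/
theorem ft_of_isElemDistSq (hS : IsTerminal S) {U X : Sp S} (hU : FT U) (hX : IsAlgSpace X) {V W : Over S} [hV : IsAffine V.left]
    [hVl : LocallyOfFiniteType V.hom] [CompactSpace W.left] {j : U ⟶ X} {f : (yon S).obj V ⟶ X} (hsq : IsElemDistSq j f)
    {w : (yon S).obj W ⟶ U} {v : W ⟶ V} (sq : IsPullback w ((yon S).map v) j f) : FT X := by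
  have := quasiSeparated_of_isTerminal hS
  have hj : RepWith @Etale j := K597.repWith_mono (fun A B g hg => by
    have : IsOpenImmersion g := hg
    change Etale g
    infer_instance) hsq.1
  have hf : RepWith @Etale f := by
    have := hsq.2.1 (𝟙 _) (repWith_id _ V)
    rwa [Category.id_comp] at this
  obtain ⟨C, c, hC, hc, hcs⟩ := K600.LimAff.exists_affine_chart hU.qc
  have hcj : RepWith @Etale (c ≫ j) := (repWith_isMultiplicative (S := S) @Etale).comp_mem _ _ hc hj
  obtain ⟨p, hp1, hp2, hp, hps⟩ := CopChart.exists_chart hX hcj hf (fun x => by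
    rcases CopChart.cover_of_isElemDistSq hsq x with ⟨y, rfl⟩ | h
    · left
      obtain ⟨z, rfl⟩ := K596.Pts.surjective_of_repWith hcs y
      exact ⟨z, by rw [Points.map_comp]⟩
    · exact Or.inr h)
  have hCV : CompactSpace (K636.Decomp.cop C V).left := inferInstanceAs (CompactSpace ↥(C.left ⨿ V.left))
  refine ⟨hX, ⟨_, p, hp, hps, hCV⟩, ?_, ?_⟩
  · refine ElemQs.isQuasiSeparatedSp hU.alg (IsAlgSpace.yon_obj _) hX hsq sq hU.qs isQuasiSeparatedSp_yon ?_
    rw [repWith_yon_map_iff]
    infer_instance
  · intro g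
    have h1 : LocP @LocallyOfFiniteType ((yon S).map (Over.mkIdTerminal.from (K636.Decomp.cop C V))) := by
      rw [lft_yon_iff]
      refine CopChart.cop_hom (P := @LocallyOfFiniteType) ?_ hVl
      rw [← lft_yon_iff C (str _)]
      exact lft_str_of_comp (IsAlgSpace.yon_obj _) hU.alg c
        (lft_of_etale (K597.locP_of_repWith K597.etLoc_etale.precomp hc)) (hU.lft _)
    refine K597.locP_of_source K597.etLoc_lft (IsAlgSpace.yon_obj _).hasAtlas hasAtlas_base hp hps ?_
    rwa [str_uniq (p ≫ g) ((yon S).map (Over.mkIdTerminal.from (K636.Decomp.cop C V)))]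

theorem openImm_of_isPullback {P U V' W' : Sp S} {p : P ⟶ U} {q : P ⟶ V'} {j : U ⟶ W'} {f : V' ⟶ W'}
    (sq : IsPullback p q j f) (hj : RepWith @IsOpenImmersion j) : RepWith @IsOpenImmersion q :=
  K597.repWith_bc _ sq hj

theorem exists_affine_step (hS : IsTerminal S) {I : Type u} [SmallCategory I] [IsCofiltered I]
    {D : I ⥤ Sp S} (hD : ∀ i, FT (D.obj i)) (hDa : ∀ (i j : I) (φ : i ⟶ j), IsAffineMor (D.map φ)) {c : Cone D}
    (hc : IsLimit c) {X : Sp S} (hX : IsAlgSpace X) {V P : Over S} [IsAffine V.left] {j : c.pt ⟶ X}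
    {f : (yon S).obj V ⟶ X} (hsq : IsElemDistSq j f) {p : (yon S).obj P ⟶ c.pt} {q : P ⟶ V}
    (sq : IsPullback p ((yon S).map q) j f) [hP : CompactSpace P.left] :
    ∃ (T : Sp S) (t : X ⟶ T), FT T ∧ IsAffineMor t := by
  have := quasiSeparated_of_isTerminal hS
  have := isLocallyNoetherian_of_isTerminal hS
  have hSa := isAffine_of_isTerminal hS
  have hq : IsOpenImmersion q.left := (repWith_yon_map_iff _ _).1 (openImm_of_isPullback sq hsq.1)
  have hf : RepWith @Etale f := by
    have := hsq.2.1 (𝟙 _) (repWith_id _ V)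
    rwa [Category.id_comp] at this
  have hp : RepWith @Etale p := K597.repWith_bc _ sq.flip hf
  obtain ⟨i₀⟩ := IsCofiltered.nonempty (C := I)
  have hπ := K600.LimAff.isAffineMor_π hDa hc i₀
  have hcA : IsAlgSpace c.pt := K600.LimSpace.isAlgSpace_of_isAffineMor hπ (hD i₀).alg
  -- a finite type model of `P` over the stage `i₀`
  obtain ⟨P', k, x', ι, hι, g, u, hx', hl, hcP', hqP', hk, hgu, haff, hcov, hV⟩ := Model.exists_model_map hS
    (FacLim.affEl_of_lfp (hD i₀).alg (IsAlgSpace.yon_obj _) (lfp_str (hD i₀).alg ((hD i₀).lft (str _))))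
    FacLim.isTerminalYon V q (p ≫ c.π.app i₀)
  -- descend the etale map
  obtain ⟨i, W, w, m, r, hw, sqm, hmr, hr⟩ := EtStep.exists_stage_aux hD hDa hc k x' p hp hx'
  have hcW : CompactSpace W.left := QuasiCompact.compactSpace_of_compactSpace r.left
  have hqW : QuasiSeparatedSpace W.left := quasiSeparatedSpace_of_quasiSeparated r.left
  have hlW : LocallyOfFiniteType W.hom := by
    rw [← lft_yon_iff W (str _)]
    exact lft_str_of_comp (IsAlgSpace.yon_obj _) (hD i).alg w
        (lft_of_etale (K597.locP_of_repWith K597.etLoc_etale.precomp hw)) ((hD i).lft _)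
  have e1 : k.left = m.left ≫ r.left := by rw [← hmr, Over.comp_left]
  have hPq : QuasiSeparatedSpace P.left := quasiSeparatedSpace_of_quasiSeparated q.left
  obtain ⟨X₁, v, q₁, hX₁, hv, hX₁l, sqv⟩ := FitOpen.exists_model hS q.left m.left W.hom g
    (fun l => r.left.appTop.hom (u l)) (fun l => by
      rw [hgu l]
      exact Model.comp_app m.left r.left k.left e1.symm (u l))
    (fun l => by rw [Model.basicOpen_appTop]; exact (haff l).preimage r.left)
    (by
      simp only [Model.basicOpen_appTop]
      rw [← Scheme.Hom.preimage_iSup, hcov]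
      rfl) hV
  let V₁ : Over S := Over.mk (hS.from X₁)
  let v' : W ⟶ V₁ := Over.homMk v (hS.hom_ext _ _)
  let q' : V ⟶ V₁ := Over.homMk q₁ (hS.hom_ext _ _)
  have hV₁ : IsAffine V₁.left := hX₁
  have hV₁l : LocallyOfFiniteType V₁.hom := hX₁l _
  have sqO : IsPullback q m q' v' := IsPullback.of_map (Over.forget S) (Over.OverMorphism.ext sqv.w) sqv
  have hv' : RepWith @IsOpenImmersion ((yon S).map v') := (repWith_yon_map_iff _ _).2 hv
  have hWsep : IsSeparated W.hom := by
    have e : W.hom = v ≫ V₁.hom := hS.hom_ext _ _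
    rw [e]
    infer_instance
  have hwsep : IsSeparatedMor w := by
    refine K608.SepAbs.isSeparatedMor_of_isSeparatedSp w ?_
    exact (repWith_diag_yon_iff _ _).2 (inferInstance : IsClosedImmersion (pullback.diagonal W.hom))
  have hwet : IsEtaleMor w := K597.isEtaleMor_of_locP_etale K597.etLoc_etale (hD i).alg
    (K597.locP_of_repWith K597.etLoc_etale.precomp hw)
  obtain ⟨T, jT, fT, -, sqT, hsqT⟩ := Groth.Agent.S10696.result (S := S) (U := ⟨D.obj i, (hD i).alg⟩)
    (V := ⟨(yon S).obj V₁, IsAlgSpace.yon_obj _⟩) (V' := ⟨(yon S).obj W, IsAlgSpace.yon_obj _⟩)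
    (ObjectProperty.homMk ((yon S).map v')) hv' (ObjectProperty.homMk w) hwsep hwet
  obtain ⟨t, ht1, ht2⟩ := VK.exists_desc (IsAlgSpace.yon_obj V) (IsAlgSpace.yon_obj V₁) hsq sq hsqT sqT.flip
    (a := c.π.app i) (b := (yon S).map q') (c := (yon S).map m) sqm (sqO.map (yon S))
  refine ⟨T.obj, t, ft_of_isElemDistSq hS (hD i) T.property hsqT sqT.flip, ?_⟩
  have hjT : RepWith @Etale jT.hom := K597.repWith_mono (fun A B g hg => by
    have : IsOpenImmersion g := hg
    change Etale g
    infer_instance) hsqT.1
  have hfT : RepWith @Etale fT.hom := by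
    have := hsqT.2.1 (𝟙 _) (repWith_id _ V₁)
    rwa [Category.id_comp] at this
  have h1 : IsAffineMor (c.π.app i) := K600.LimAff.isAffineMor_π hDa hc i
  have h2 : IsAffineMor ((yon S).map q') := isAffineMor_yon_map q'
  refine FamAff.isAffineMor_of_family (κ := Bool) (F' := fun k => bif k then c.pt else (yon S).obj V)
    (G' := fun k => bif k then D.obj i else (yon S).obj V₁)
    (g := fun k => match k with | true => jT.hom | false => fT.hom)
    (g' := fun k => match k with | true => j | false => f)
    (f' := fun k => match k with | true => c.π.app i | false => (yon S).map q')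
    (fun k => match k with | true => ht1 | false => ht2)
    (fun k => match k with | true => hjT | false => hfT) (fun x => ?_)
    (fun k => match k with | true => h1 | false => h2)
  rcases CopChart.cover_of_isElemDistSq hsqT x with h | h
  · exact ⟨true, h⟩
  · exact ⟨false, h⟩

end K602.Step
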