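import Groth.Agent.AlgSp.K602.Stab
import Mathlib.RingTheory.FiniteType

/-!
# Stable subrings of finite type

`StSub hf p`: subrings of the ring of functions `B hf p` on the base change of `X` to the atlas `p`, containing the
functions on `p`, and stable under the descent datum.  If the functions on `p` form a Noetherian ring then these of
finite type are directed with union everything (`exists_ft`).
-/

set_option autoImplicit false
universe u

open CategoryTheory CategoryTheory.Limits AlgebraicGeometry Opposite AlgSp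

namespace K602.Sub

open K602.SpanAlg Ch Stab

variable {S : Scheme.{u}} {T X : AlgSp.Sp S} {f : X ⟶ T} (hf : RepWith @IsAffineHom f) (p : Ch T)

/-- Stable subrings. -/
@[ext]
structure StSub where
  C : Subring (B hf p)
  β_mem : ∀ o, β hf p o ∈ C
  stable : ∀ (w : Ch T), IsAffine w.V.left → ∀ (e e' : w ⟶ p), (ores e).hom.Flat →
    ∀ c ∈ C, res hf e' c ∈ SpanAlg.Sp (β hf w).hom (res hf e '' (C : Set (B hf p)))

variable {hf p}

/-- The subring generated by a set and the functions on the atlas. -/
noncomputable def gen (Z : Set (B hf p)) : Subring (B hf p) := Subring.closure (Set.range (β hf p) ∪ Z)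

theorem β_mem_gen (Z : Set (B hf p)) (o : O p) : β hf p o ∈ gen Z := Subring.subset_closure (Or.inl ⟨o, rfl⟩)

theorem subset_gen (Z : Set (B hf p)) : Z ⊆ gen Z := fun _ hz => Subring.subset_closure (Or.inr hz)

theorem gen_le {Z : Set (B hf p)} {C : Subring (B hf p)} (h1 : ∀ o, β hf p o ∈ C) (h2 : Z ⊆ C) : gen Z ≤ C := by
  refine Subring.closure_le.2 ?_
  rintro x (⟨o, rfl⟩ | hx)
  · exact h1 o
  · exact h2 hx

/-- The span of a subring is closed under multiplication. -/
theorem span_mul {w : Ch T} {C : Subring (B hf p)} (e : w ⟶ p) {x y : B hf w}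
    (hx : x ∈ SpanAlg.Sp (β hf w).hom (res hf e '' (C : Set (B hf p))))
    (hy : y ∈ SpanAlg.Sp (β hf w).hom (res hf e '' (C : Set (B hf p)))) :
    x * y ∈ SpanAlg.Sp (β hf w).hom (res hf e '' (C : Set (B hf p))) := by
  refine mul_mem_Sp_of_mul _ ?_ hx hy
  rintro _ ⟨a, ha, rfl⟩ _ ⟨b, hb, rfl⟩
  rw [← map_mul]
  exact mem_Sp _ ⟨_, C.mul_mem ha hb, rfl⟩

/-- A subring generated by elements whose transports lie in its span is stable. -/
noncomputable def ofGen (Z : Set (B hf p))
    (h : ∀ (w : Ch T), IsAffine w.V.left → ∀ (e e' : w ⟶ p), (ores e).hom.Flat →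
      ∀ c ∈ Z, res hf e' c ∈ SpanAlg.Sp (β hf w).hom (res hf e '' (gen Z : Set (B hf p)))) : StSub hf p where
  C := gen Z
  β_mem := β_mem_gen Z
  stable := by
    intro w hw e e' he c hc
    have h1 : (1 : B hf w) ∈ SpanAlg.Sp (β hf w).hom (res hf e '' (gen Z : Set (B hf p))) :=
      mem_Sp _ ⟨1, Subring.one_mem _, map_one _⟩
    refine Subring.closure_induction (p := fun c _ =>
      res hf e' c ∈ SpanAlg.Sp (β hf w).hom (res hf e '' (gen Z : Set (B hf p)))) ?_ ?_ ?_ ?_ ?_ ?_ hc
    · rintro x (⟨o, rfl⟩ | hx)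
      · rw [β_res_apply, ← mul_one (β hf w _)]
        exact mul_mem_Sp _ _ h1
      · exact h w hw e e' he x hx
    · rw [map_zero]; exact AddSubgroup.zero_mem _
    · rw [map_one]; exact h1
    · intro x y _ _ hx hy
      rw [map_add]; exact AddSubgroup.add_mem _ hx hy
    · intro x _ hx
      rw [map_neg]; exact AddSubgroup.neg_mem _ hx
    · intro x y _ _ hx hy
      rw [map_mul]; exact span_mul e hx hy

/-- The subring generated by two stable subrings. -/
noncomputable def sup (C C' : StSub hf p) : StSub hf p :=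
  ofGen (C.C ∪ C'.C) (by
    rintro w hw e e' he c (hc | hc)
    · exact Sp_mono _ (Set.image_mono (Set.subset_union_left.trans (subset_gen _))) (C.stable w hw e e' he c hc)
    · exact Sp_mono _ (Set.image_mono (Set.subset_union_right.trans (subset_gen _))) (C'.stable w hw e e' he c hc))

theorem le_sup_left (C C' : StSub hf p) : C.C ≤ (sup C C').C :=
  Set.subset_union_left.trans (subset_gen ((C.C : Set (B hf p)) ∪ C'.C))

theorem le_sup_right (C C' : StSub hf p) : C'.C ≤ (sup C C').C :=
  Set.subset_union_right.trans (subset_gen ((C.C : Set (B hf p)) ∪ C'.C))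

theorem sup_le {C C' C'' : StSub hf p} (h : C.C ≤ C''.C) (h' : C'.C ≤ C''.C) : (sup C C').C ≤ C''.C :=
  gen_le C''.β_mem (Set.union_subset h h')

/-- Finite type. -/
def FT (C : StSub hf p) : Prop := ∃ F : Set (B hf p), F.Finite ∧ C.C = gen F

theorem gen_mono {Z Z' : Set (B hf p)} (h : Z ⊆ Z') : gen Z ≤ gen Z' :=
  gen_le (β_mem_gen _) (h.trans (subset_gen _))

theorem FT.sup {C C' : StSub hf p} (h : FT C) (h' : FT C') : FT (Sub.sup C C') := by
  obtain ⟨F, hF, hC⟩ := h
  obtain ⟨F', hF', hC'⟩ := h'
  have h1 : C.C ≤ gen (F ∪ F') := by rw [hC]; exact gen_mono Set.subset_union_left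
  have h2 : C'.C ≤ gen (F ∪ F') := by rw [hC']; exact gen_mono Set.subset_union_right
  have h3 : F ⊆ C.C := by rw [hC]; exact subset_gen F
  have h4 : F' ⊆ C'.C := by rw [hC']; exact subset_gen F'
  exact ⟨F ∪ F', hF.union hF', le_antisymm (gen_le (β_mem_gen _) (Set.union_subset h1 h2))
    (gen_le (StSub.β_mem _) (Set.union_subset (h3.trans (le_sup_left C C')) (h4.trans (le_sup_right C C'))))⟩

section noeth

/-- A stable subgroup of a finitely generated module over a Noetherian ring is finitely generated. -/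
theorem exists_finite_span {O B : Type*} [CommRing O] [CommRing B] [IsNoetherianRing O] (β : O →+* B) {G : Set B}
    (hG : G.Finite) (N : AddSubgroup B) (hN : N ≤ SpanAlg.Sp β G) (hβ : ∀ (o : O), ∀ n ∈ N, β o * n ∈ N) :
    ∃ F : Set B, F.Finite ∧ F ⊆ N ∧ N ≤ SpanAlg.Sp β F := by
  let := β.toAlgebra
  let N' : Submodule O B := { N with smul_mem' := fun o n hn => hβ o n hn }
  have h1 : N' ≤ Submodule.span O G := fun x hx => by
    have := hN hx
    have h2 := Sp_eq_span β G
    have h3 : x ∈ (SpanAlg.Sp β G : Set B) := this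
    rw [h2] at h3
    exact h3
  have : IsNoetherian O (Submodule.span O G) := by
    have := Module.Finite.span_of_finite O hG
    infer_instance
  have h3 : N'.FG := Submodule.FG.of_le (Submodule.fg_span hG) h1
  obtain ⟨F, hF, hFN⟩ := Submodule.fg_def.1 h3
  refine ⟨F, hF, ?_, ?_⟩
  · intro x hx
    have : x ∈ N' := hFN ▸ Submodule.subset_span hx
    exact this
  · intro x hx
    have h4 : x ∈ N' := hx
    rw [← hFN] at h4
    have h2 := Sp_eq_span β F
    have h5 : x ∈ (SpanAlg.Sp β F : Set B) := by rw [h2]; exact h4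
    exact h5

end noeth

section main

variable {q : Ch T} {g₀ : q ⟶ p} {e₀ : q ⟶ p}

/-- The stable subring generated by the elements lying locally in the span of `G`. -/
noncomputable def ofMem [IsAffine q.V.left] [IsAffine p.V.left] (hq : CovPair g₀ e₀) (G : Set (B hf p)) : StSub hf p :=
  ofGen (N hf G p) (by
    intro w hw e e' he c hc
    have h1 : Mem hf G w (res hf e' c) := Mem.res (v := p) hc e'
    exact Sp_mono _ (Set.image_mono (subset_gen _)) (mem_Sp_of_flat hq G e he h1))

theorem ofMem_ft [IsAffine q.V.left] [IsAffine p.V.left] (hq : CovPair g₀ e₀) [IsNoetherianRing (O p)]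
    {G : Set (B hf p)} (hG : G.Finite) : FT (ofMem hq G) := by
  obtain ⟨F, hF, hFN, hNF⟩ := exists_finite_span (β hf p).hom hG (N hf G p) (fun b hb => Mem.mem_Sp hb)
    (fun o n hn => Mem.smul o hn)
  refine ⟨F, hF, le_antisymm ?_ ?_⟩
  · refine gen_le (β_mem_gen _) (fun x hx => ?_)
    have h1 : SpanAlg.Sp (β hf p).hom F ≤ (gen F).toAddSubgroup := Sp_le _ (fun o z hz =>
      Subring.mul_mem _ (β_mem_gen F o) (subset_gen F hz))
    exact h1 (hNF hx)
  · exact gen_le (StSub.β_mem _) (fun x hx => subset_gen (N hf G p : Set (B hf p)) (hFN hx))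

/-- Every element lies in a stable subring of finite type. -/
theorem exists_ft [IsAffine q.V.left] [IsAffine p.V.left] (hq : CovPair g₀ e₀) [IsNoetherianRing (O p)]
    (b : B hf p) : ∃ C : StSub hf p, FT C ∧ b ∈ C.C := by
  obtain ⟨G, hG, hb⟩ := Stab.exists_finite hq b
  exact ⟨ofMem hq G, ofMem_ft hq hG, subset_gen (N hf G p : Set (B hf p)) hb⟩

end main

end K602.Sub
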