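import Groth.Agent.AlgSp.K602.SpecC
import Groth.Agent.AlgSp.K615.Glue

/-!
# Transport of points of `Spec C` and the quotient `Q C ⟶ T`
-/

set_option autoImplicit false
universe u

open CategoryTheory CategoryTheory.Limits AlgebraicGeometry Opposite AlgSp

namespace K602.Trans

open Ch K602.Stab K602.Sub K602.SpecC K602.SpanAlg

variable {S : Scheme.{u}} {T X : AlgSp.Sp S} {f : X ⟶ T} {hf : RepWith @IsAffineHom f} {p : Ch T}
  [IsAffine p.V.left] (C : StSub hf p)

theorem exists_lift_ringHom {A B D : Type*} [CommRing A] [CommRing B] [CommRing D] (i : A →+* B)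
    (hi : Function.Injective i) (h : D →+* B) (hr : ∀ d, ∃ a, i a = h d) : ∃ ρ : D →+* A, ∀ d, i (ρ d) = h d := by
  choose ρ hρ using hr
  exact ⟨{ toFun := ρ
           map_one' := hi (by rw [hρ, map_one, map_one])
           map_zero' := hi (by rw [hρ, map_zero, map_zero])
           map_add' := fun a b => hi (by rw [hρ, map_add, map_add, hρ, hρ])
           map_mul' := fun a b => hi (by rw [hρ, map_mul, map_mul, hρ, hρ]) }, hρ⟩

/-- Transport over an affine chart. -/
theorem exists_psi_affine (w : Ch T) [IsAffine w.V.left] (κ κ' : w ⟶ p) [Flat κ.g.left] :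
    ∃ ψ : Zc C κ ⟶ Z C, ψ ≫ ν C = zsnd C κ ≫ κ'.g ∧ xc C κ ≫ ψ = Wmap hf κ' ≫ xE C := by
  have hstd := std_xc C κ
  have haff := isAffine_Zc C κ
  have hinj : Function.Injective (xc C κ).left.appTop := (xc C κ).left.app_injective ⊤
  have hflat : (ores κ).hom.Flat := by
    have : Flat κ.g.left := inferInstance
    exact κ.g.left.flat_appTop
  have e1 : (zsnd C κ).left.appTop ≫ (xc C κ).left.appTop = β hf w := by
    rw [← Scheme.Hom.comp_appTop, ← Over.comp_left, xc_snd]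
    rfl
  have e2 : ev C (zfst C κ) ≫ (xc C κ).left.appTop = subt C ≫ res hf κ := by
    rw [← ev_comp, xc_fst, ev_comp, ev_xE]
    rfl
  have hr : ∀ c : C.C, ∃ a, (xc C κ).left.appTop a = (subt C ≫ res hf κ') c := by
    intro c
    have h1 := C.stable w inferInstance κ κ' hflat c c.2
    have h2 : Sp (β hf w).hom (res hf κ '' (C.C : Set (B hf p))) ≤
        (xc C κ).left.appTop.hom.range.toAddSubgroup := by
      refine Sp_le _ ?_
      rintro o _ ⟨d, hd, rfl⟩
      refine ⟨(zsnd C κ).left.appTop o * ev C (zfst C κ) ⟨d, hd⟩, ?_⟩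
      rw [map_mul]
      congr 1
      · exact congrArg (fun k => k.hom o) e1
      · exact congrArg (fun k => k.hom ⟨d, hd⟩) e2
    exact h2 h1
  obtain ⟨ρ, hρ⟩ := exists_lift_ringHom (xc C κ).left.appTop.hom hinj (subt C ≫ res hf κ').hom hr
  have e3 : CommRingCat.ofHom ρ ≫ (xc C κ).left.appTop = subt C ≫ res hf κ' := by
    ext d
    exact hρ d
  refine ⟨mk C (zsnd C κ ≫ κ'.g) (CommRingCat.ofHom ρ) ?_, mk_ν _ _ _ _, ?_⟩
  · have hmono : Mono (xc C κ).left.appTop := ConcreteCategory.mono_of_injective _ hinj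
    rw [← cancel_mono (xc C κ).left.appTop, Category.assoc, e3, ← Category.assoc, incl_subt, β_res,
      Over.comp_left, Scheme.Hom.comp_appTop, Category.assoc, e1]
    rfl
  · apply hom_ext_Z
    rw [ev_comp, ev_mk, e3, ev_comp, ev_xE]
    rfl

theorem eq_of_xc {k : Ch T} (κ : k ⟶ p) [Flat κ.g.left] {a b : Zc C κ ⟶ Z C} (h : a ≫ ν C = b ≫ ν C)
    (hx : xc C κ ≫ a = xc C κ ≫ b) : a = b := by
  have := std_xc C κ
  ext1
  refine StdDom.eq_of_std (xc C κ).left (ν C).left ?_ ?_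
  · rw [← Over.comp_left, h, Over.comp_left]
  · rw [← Over.comp_left, hx, Over.comp_left]

section zl

variable {k : Ch T} (κ : k ⟶ p) {V : Over S}

/-- The point of the base change of `Spec C`. -/
noncomputable def zl (n : V ⟶ Z C) (a : V ⟶ k.V) (h : n ≫ ν C = a ≫ κ.g) : V ⟶ Zc C κ := pullback.lift n a h

theorem zl_fst (n : V ⟶ Z C) (a : V ⟶ k.V) (h : n ≫ ν C = a ≫ κ.g) : zl C κ n a h ≫ zfst C κ = n :=
  pullback.lift_fst _ _ _

theorem zl_snd (n : V ⟶ Z C) (a : V ⟶ k.V) (h : n ≫ ν C = a ≫ κ.g) : zl C κ n a h ≫ zsnd C κ = a :=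
  pullback.lift_snd _ _ _

theorem Zc_ext {a b : V ⟶ Zc C κ} (h1 : a ≫ zfst C κ = b ≫ zfst C κ) (h2 : a ≫ zsnd C κ = b ≫ zsnd C κ) : a = b :=
  pullback.hom_ext h1 h2

end zl

/-- Functoriality of the base change of `Spec C`. -/
noncomputable def zmap {k l : Ch T} (α : k ⟶ l) (κl : l ⟶ p) (κk : k ⟶ p) (h : α ≫ κl = κk) :
    Zc C κk ⟶ Zc C κl :=
  pullback.lift (zfst C κk) (zsnd C κk ≫ α.g) (by
    subst h
    rw [pullback.condition, Category.assoc]
    rfl)

section zmap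

variable {k l : Ch T} (α : k ⟶ l) (κl : l ⟶ p) (κk : k ⟶ p) (h : α ≫ κl = κk)

theorem zmap_fst : zmap C α κl κk h ≫ zfst C κl = zfst C κk := pullback.lift_fst _ _ _
theorem zmap_snd : zmap C α κl κk h ≫ zsnd C κl = zsnd C κk ≫ α.g := pullback.lift_snd _ _ _

theorem xc_zmap : xc C κk ≫ zmap C α κl κk h = Wmap hf α ≫ xc C κl := by
  apply pullback.hom_ext
  · rw [Category.assoc, Category.assoc]
    change _ ≫ zmap C α κl κk h ≫ zfst C κl = _ ≫ xc C κl ≫ zfst C κl
    rw [zmap_fst, xc_fst, xc_fst, ← h, Wmap_comp, Category.assoc]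
  · rw [Category.assoc, Category.assoc]
    change _ ≫ zmap C α κl κk h ≫ zsnd C κl = _ ≫ xc C κl ≫ zsnd C κl
    rw [zmap_snd, ← Category.assoc, xc_snd, xc_snd, Wmap_π]

theorem isPullback_zmap : IsPullback (zmap C α κl κk h) (zsnd C κk) (zsnd C κl) α.g := by
  refine IsPullback.of_right (h₁₂ := zfst C κl) (h₂₂ := κl.g) (v₁₃ := ν C) ?_ (zmap_snd C α κl κk h)
    (IsPullback.of_hasPullback (ν C) κl.g).flip.flip
  rw [zmap_fst]
  have : α.g ≫ κl.g = κk.g := congrArg Hom.g h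
  rw [this]
  exact IsPullback.of_hasPullback (ν C) κk.g

end zmap

theorem jsurj_of_etale {Y Y' : AlgSp.Sp S} (q : Y' ⟶ Y) (h1 : RepWith @Etale q) (h2 : RepWith @Surjective q) :
    K615.Pt.JSurj (fun _ : PUnit.{1} => Y') (fun _ => q) := by
  intro V x
  obtain ⟨R, hR, H⟩ := K615.Cov.exists_lift q h1 h2 V x
  exact ⟨R, hR, fun V' g hg => ⟨⟨⟩, H V' g hg⟩⟩

/-- Transport over a chart. -/
theorem exists_psi {r r' : Ch T} (κ κ' : r ⟶ p) [Flat κ.g.left] (c : r' ⟶ r) [IsAffine r'.V.left]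
    [Etale c.g.left] [Surjective c.g.left] :
    ∃ ψ : Zc C κ ⟶ Z C, ψ ≫ ν C = zsnd C κ ≫ κ'.g ∧ xc C κ ≫ ψ = Wmap hf κ' ≫ xE C := by
  have hfl : Flat (c ≫ κ).g.left := by
    rw [comp_g, Over.comp_left]
    infer_instance
  obtain ⟨ψ', h1, h2⟩ := exists_psi_affine C r' (c ≫ κ) (c ≫ κ')
  let q : Zc C (c ≫ κ) ⟶ Zc C κ := zmap C c κ (c ≫ κ) rfl
  have hq := (isPullback_zmap C c κ (c ≫ κ) rfl).map (Over.forget S)
  have hqe : Etale q.left := MorphismProperty.of_isPullback (P := @Etale) hq.flip ‹_›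
  have hqs : Surjective q.left := MorphismProperty.of_isPullback (P := @Surjective) hq.flip ‹_›
  have hj := jsurj_of_etale ((yon S).map q) ((repWith_yon_map_iff _ q).2 hqe) ((repWith_yon_map_iff _ q).2 hqs)
  have hk : ∀ (V : Over S) (y y' : (yon S).obj V ⟶ (yon S).obj (Zc C (c ≫ κ))),
      y ≫ (yon S).map q = y' ≫ (yon S).map q → y ≫ (yon S).map ψ' = y' ≫ (yon S).map ψ' := by
    intro V y y' hyy
    obtain ⟨m, rfl⟩ := (yon S).map_surjective y
    obtain ⟨m', rfl⟩ := (yon S).map_surjective y'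
    rw [← (yon S).map_comp, ← (yon S).map_comp] at hyy ⊢
    congr 1
    have hm : m ≫ q = m' ≫ q := (yon S).map_injective hyy
    have hm1 : m ≫ zfst C (c ≫ κ) = m' ≫ zfst C (c ≫ κ) := by
      rw [← zmap_fst C c κ (c ≫ κ) rfl, ← Category.assoc, ← Category.assoc]
      exact congrArg (· ≫ zfst C κ) hm
    have hm2 : (m ≫ zsnd C (c ≫ κ)) ≫ c.g = (m' ≫ zsnd C (c ≫ κ)) ≫ c.g := by
      rw [Category.assoc, Category.assoc, ← zmap_snd C c κ (c ≫ κ) rfl, ← Category.assoc, ← Category.assoc]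
      exact congrArg (· ≫ zsnd C κ) hm
    let k : Ch T := r'.pre (pullback.fst c.g c.g)
    let pr₁ : k ⟶ r' := r'.preHom _
    let pr₂ : k ⟶ r' := ⟨pullback.snd c.g c.g, by
      change _ = (yon S).map (pullback.fst c.g c.g) ≫ r'.v
      rw [← c.w, ← Category.assoc, ← Category.assoc, ← (yon S).map_comp, ← (yon S).map_comp,
        pullback.condition]⟩
    have hpr : pr₁ ≫ c = pr₂ ≫ c := Ch.hom_ext pullback.condition
    have hpr' : pr₁ ≫ (c ≫ κ') = pr₂ ≫ (c ≫ κ') := by rw [← Category.assoc, hpr, Category.assoc]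
    have hpr'g : pr₁.g ≫ (c ≫ κ').g = pr₂.g ≫ (c ≫ κ').g := congrArg Hom.g hpr'
    obtain ⟨κk, e₁⟩ : ∃ κk, pr₁ ≫ c ≫ κ = κk := ⟨_, rfl⟩
    have e₂ : pr₂ ≫ c ≫ κ = κk := by rw [← e₁, ← Category.assoc, ← hpr, Category.assoc]
    have hflk : Flat κk.g.left := by
      have h3 : Flat (pullback.fst c.g c.g).left :=
        MorphismProperty.of_isPullback (P := @Flat)
          ((IsPullback.of_hasPullback c.g c.g).map (Over.forget S)).flip (inferInstanceAs (Flat c.g.left))
      rw [← e₁]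
      change Flat ((pullback.fst c.g c.g).left ≫ (c ≫ κ).g.left)
      infer_instance
    let z : V ⟶ Zc C κk := pullback.lift (m ≫ zfst C (c ≫ κ))
      (pullback.lift (m ≫ zsnd C (c ≫ κ)) (m' ≫ zsnd C (c ≫ κ)) hm2) (by
        rw [← e₁]
        change _ = _ ≫ pullback.fst c.g c.g ≫ (c ≫ κ).g
        rw [← Category.assoc, pullback.lift_fst, Category.assoc, Category.assoc, pullback.condition])
    have hz1 : z ≫ zmap C pr₁ (c ≫ κ) κk e₁ = m := by
      apply pullback.hom_ext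
      · rw [Category.assoc]
        change z ≫ zmap C pr₁ (c ≫ κ) κk e₁ ≫ zfst C (c ≫ κ) = _
        rw [zmap_fst]
        exact pullback.lift_fst _ _ _
      · rw [Category.assoc]
        change z ≫ zmap C pr₁ (c ≫ κ) κk e₁ ≫ zsnd C (c ≫ κ) = _
        rw [zmap_snd, ← Category.assoc]
        change (z ≫ pullback.snd _ _) ≫ pullback.fst _ _ = _
        rw [pullback.lift_snd, pullback.lift_fst]
    have hz2 : z ≫ zmap C pr₂ (c ≫ κ) κk e₂ = m' := by
      apply pullback.hom_ext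
      · rw [Category.assoc]
        change z ≫ zmap C pr₂ (c ≫ κ) κk e₂ ≫ zfst C (c ≫ κ) = m' ≫ zfst C (c ≫ κ)
        rw [zmap_fst, ← hm1]
        exact pullback.lift_fst _ _ _
      · rw [Category.assoc]
        change z ≫ zmap C pr₂ (c ≫ κ) κk e₂ ≫ zsnd C (c ≫ κ) = _
        rw [zmap_snd, ← Category.assoc]
        change (z ≫ pullback.snd _ _) ≫ pullback.snd _ _ = _
        rw [pullback.lift_snd, pullback.lift_snd]
    have key : zmap C pr₁ (c ≫ κ) κk e₁ ≫ ψ' = zmap C pr₂ (c ≫ κ) κk e₂ ≫ ψ' := by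
      apply eq_of_xc
      · rw [Category.assoc, Category.assoc, h1, ← Category.assoc, ← Category.assoc, zmap_snd, zmap_snd,
          Category.assoc, Category.assoc, hpr'g]
      · rw [← Category.assoc, ← Category.assoc, xc_zmap, xc_zmap, Category.assoc, Category.assoc, h2,
          ← Category.assoc, ← Category.assoc, ← Wmap_comp, ← Wmap_comp, hpr']
    rw [← hz1, ← hz2, Category.assoc, Category.assoc, key]
  obtain ⟨ψy, hψ⟩ := hj.exists_desc (fun _ => (yon S).map ψ') (fun V _ _ y y' h => hk V y y' h)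
  obtain ⟨ψ, rfl⟩ := (yon S).map_surjective ψy
  have hψ' : q ≫ ψ = ψ' := (yon S).map_injective (by rw [(yon S).map_comp]; exact hψ ⟨⟩)
  refine ⟨ψ, ?_, ?_⟩
  · apply (yon S).map_injective
    refine hj.ext fun _ => ?_
    rw [← (yon S).map_comp, ← (yon S).map_comp, ← Category.assoc, hψ', h1, ← Category.assoc]
    congr 1
    rw [zmap_snd, Category.assoc, comp_g]
  · -- check after the étale cover `W r' ⟶ W r`
    have hW := (sq_map hf c).map (Over.forget S)
    have hWe : Etale (Wmap hf c).left := MorphismProperty.of_isPullback (P := @Etale) hW.flip ‹_›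
    have hWs : Surjective (Wmap hf c).left := MorphismProperty.of_isPullback (P := @Surjective) hW.flip ‹_›
    have hj' := jsurj_of_etale ((yon S).map (Wmap hf c)) ((repWith_yon_map_iff _ _).2 hWe)
      ((repWith_yon_map_iff _ _).2 hWs)
    apply (yon S).map_injective
    refine hj'.ext fun _ => ?_
    rw [← (yon S).map_comp, ← (yon S).map_comp, ← Category.assoc, ← Category.assoc, ← Wmap_comp,
      ← xc_zmap C c κ (c ≫ κ) rfl, Category.assoc]
    congr 1
    exact (congrArg (xc C (c ≫ κ) ≫ ·) hψ').trans h2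

end K602.Trans
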